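import Mathlib

/-!
Automorphisms of `p`-groups acting on generating tuples: free actions and counting.
-/

set_option autoImplicit false

namespace Cfsg.Agent.Lib.Helper70

universe u

/-- free action ⇒ the group order divides the cardinality of the set -/
theorem card_dvd_of_free {A X : Type*} [Group A] [MulAction A X]
    (h : ∀ b : X, MulAction.stabilizer A b = ⊥) : Nat.card A ∣ Nat.card X := by
  have e := MulAction.selfEquivOrbitsQuotientProd h
  rw [Nat.card_congr e, Nat.card_prod]
  exact dvd_mul_left _ _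

/-- a group of order `p^r` is generated by `r` elements -/
theorem exists_gen_of_card {p : ℕ} [Fact p.Prime] : ∀ (r : ℕ) (Q : Type u) [Group Q] [Finite Q],
    Nat.card Q = p ^ r → ∃ x : Fin r → Q, Subgroup.closure (Set.range x) = ⊤ := by
  intro r
  induction r with
  | zero =>
    intro Q _ _ hc
    rw [pow_zero, Nat.card_eq_one_iff_unique] at hc
    obtain ⟨hs, _⟩ := hc
    exact ⟨Fin.elim0, Subsingleton.elim _ _⟩
  | succ r ih =>
    intro Q _ _ hc
    have hp : p.Prime := Fact.out
    have hdvd : p ^ r ∣ Nat.card Q := by rw [hc]; exact pow_dvd_pow p (Nat.le_succ r)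
    obtain ⟨M, hM⟩ := Sylow.exists_subgroup_card_pow_prime p hdvd
    obtain ⟨x', hx'⟩ := ih M hM
    have hMtop : M ≠ ⊤ := by
      intro h
      have h1 : Nat.card M = Nat.card Q := by rw [h]; exact Subgroup.card_top
      rw [hM, hc] at h1
      have := Nat.pow_right_injective hp.two_le h1
      omega
    obtain ⟨g, hg⟩ : ∃ g : Q, g ∉ M := by
      by_contra hcon
      push Not at hcon
      exact hMtop (eq_top_iff.mpr fun x _ => hcon x)
    refine ⟨Fin.cons g (fun i => (x' i : Q)), ?_⟩
    set K := Subgroup.closure (Set.range (Fin.cons g (fun i => (x' i : Q)) : Fin (r + 1) → Q))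
      with hK
    have hMK : M ≤ K := by
      have h1 : M = (Subgroup.closure (Set.range x')).map M.subtype := by
        rw [hx', ← MonoidHom.range_eq_map, Subgroup.range_subtype]
      rw [h1, MonoidHom.map_closure, Subgroup.closure_le]
      rintro _ ⟨_, ⟨i, rfl⟩, rfl⟩
      apply Subgroup.subset_closure
      exact ⟨i.succ, by simp⟩
    have hgK : g ∈ K := Subgroup.subset_closure ⟨0, by simp⟩
    have hd1 : Nat.card M ∣ Nat.card K := Subgroup.card_dvd_of_le hMK
    have hd2 : Nat.card K ∣ Nat.card Q := Subgroup.card_subgroup_dvd_card K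
    rw [hc] at hd2
    rw [hM] at hd1
    obtain ⟨j, hj, hKj⟩ := (Nat.dvd_prime_pow hp).mp hd2
    rw [hKj] at hd1
    have hrj : r ≤ j := (Nat.pow_dvd_pow_iff_le_right hp.one_lt).mp hd1
    have hjr : j ≠ r := by
      intro h
      rw [h] at hKj
      have : M = K := Subgroup.eq_of_le_of_card_ge hMK (by rw [hKj, hM])
      exact hg (this ▸ hgK)
    have hj' : j = r + 1 := by omega
    rw [hj'] at hKj
    exact Subgroup.eq_top_of_card_eq K (by rw [hKj, hc])

section tuples
variable {P : Type*} [Group P]

/-- an automorphism fixing a generating tuple is trivial -/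
theorem eq_one_of_fix_gen {ι : Type*} (α : MulAut P) (y : ι → P)
    (hy : Subgroup.closure (Set.range y) = ⊤) (h : ∀ i, α (y i) = y i) : α = 1 := by
  have hle : Subgroup.closure (Set.range y) ≤
      MonoidHom.eqLocus α.toMonoidHom (MonoidHom.id P) := by
    rw [Subgroup.closure_le]
    rintro _ ⟨i, rfl⟩
    exact h i
  rw [hy] at hle
  ext g
  exact hle (Subgroup.mem_top g)

/-- generating tuples, as a set stable under all automorphisms -/
def genTuples (P : Type*) [Group P] (ι : Type*) : SubMulAction (MulAut P) (ι → P) where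
  carrier := {y | Subgroup.closure (Set.range y) = ⊤}
  smul_mem' := by
    intro α y hy
    have hy' : Subgroup.closure (Set.range y) = ⊤ := hy
    show Subgroup.closure (Set.range (α • y)) = ⊤
    have : Set.range (α • y) = α.toMonoidHom '' Set.range y := by
      ext z
      constructor
      · rintro ⟨i, rfl⟩
        exact ⟨y i, ⟨i, rfl⟩, rfl⟩
      · rintro ⟨_, ⟨i, rfl⟩, rfl⟩
        exact ⟨i, rfl⟩
    rw [this, ← MonoidHom.map_closure, hy']
    exact Subgroup.map_top_of_surjective _ α.surjective

theorem mem_genTuples {ι : Type*} (y : ι → P) :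
    y ∈ genTuples P ι ↔ Subgroup.closure (Set.range y) = ⊤ := Iff.rfl

/-- `Aut P` acts freely on generating tuples. -/
theorem card_mulAut_dvd_card_genTuples (ι : Type*) :
    Nat.card (MulAut P) ∣ Nat.card (genTuples P ι) := by
  apply card_dvd_of_free
  rintro ⟨y, hy⟩
  rw [eq_bot_iff]
  intro α hα
  rw [MulAction.mem_stabilizer_iff] at hα
  rw [Subgroup.mem_bot]
  apply eq_one_of_fix_gen α y hy
  intro i
  have := congrArg (fun z : genTuples P ι => (z : ι → P) i) hα
  exact this

/-- tuples congruent to a given tuple `x` modulo `N`, stable under a group `A` of automorphisms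
acting trivially on `P/N`. -/
def congTuples (A : Subgroup (MulAut P)) (N : Subgroup P) {ι : Type*} (x : ι → P)
    (hA : ∀ α ∈ A, ∀ g : P, α g * g⁻¹ ∈ N) : SubMulAction A (ι → P) where
  carrier := {y | ∀ i, y i * (x i)⁻¹ ∈ N}
  smul_mem' := by
    intro α y hy i
    have h1 : (α • y) i = (α : MulAut P) (y i) := rfl
    have h2 : (α : MulAut P) (y i) * (x i)⁻¹ =
        ((α : MulAut P) (y i) * (y i)⁻¹) * (y i * (x i)⁻¹) := by group
    rw [h1, h2]
    exact N.mul_mem (hA α α.2 (y i)) (hy i)

theorem mem_congTuples (A : Subgroup (MulAut P)) (N : Subgroup P) {ι : Type*} (x : ι → P)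
    (hA : ∀ α ∈ A, ∀ g : P, α g * g⁻¹ ∈ N) (y : ι → P) :
    y ∈ congTuples A N x hA ↔ ∀ i, y i * (x i)⁻¹ ∈ N := Iff.rfl

/-- the congruent tuples are in bijection with tuples of elements of `N` -/
def congTuplesEquiv (A : Subgroup (MulAut P)) (N : Subgroup P) {ι : Type*} (x : ι → P)
    (hA : ∀ α ∈ A, ∀ g : P, α g * g⁻¹ ∈ N) : congTuples A N x hA ≃ (ι → N) where
  toFun y := fun i => ⟨(y : ι → P) i * (x i)⁻¹, y.2 i⟩
  invFun z := ⟨fun i => (z i : P) * x i, fun i => by
    show (z i : P) * x i * (x i)⁻¹ ∈ N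
    rw [mul_inv_cancel_right]; exact (z i).2⟩
  left_inv y := by
    apply Subtype.ext
    funext i
    simp
  right_inv z := by
    funext i
    apply Subtype.ext
    simp

/-- if `x` generates `P` and `N` consists of non-generators, every congruent tuple generates. -/
theorem closure_eq_top_of_cong [Finite P] {ι : Type*} (x y : ι → P)
    (hx : Subgroup.closure (Set.range x) = ⊤) (hy : ∀ i, y i * (x i)⁻¹ ∈ frattini P) :
    Subgroup.closure (Set.range y) = ⊤ := by
  apply frattini_nongenerating
  rw [eq_top_iff, ← hx, Subgroup.closure_le]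
  rintro _ ⟨i, rfl⟩
  have : x i = (y i * (x i)⁻¹)⁻¹ * y i := by group
  rw [SetLike.mem_coe, this]
  apply Subgroup.mul_mem
  · exact Subgroup.mem_sup_right (Subgroup.inv_mem _ (hy i))
  · exact Subgroup.mem_sup_left (Subgroup.subset_closure ⟨i, rfl⟩)

/-- `A` acts freely on the tuples congruent to a generating tuple mod the Frattini subgroup. -/
theorem card_dvd_card_congTuples [Finite P] (A : Subgroup (MulAut P)) {ι : Type*} (x : ι → P)
    (hx : Subgroup.closure (Set.range x) = ⊤)
    (hA : ∀ α ∈ A, ∀ g : P, α g * g⁻¹ ∈ frattini P) :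
    Nat.card A ∣ Nat.card (congTuples A (frattini P) x hA) := by
  apply card_dvd_of_free
  rintro ⟨y, hy⟩
  rw [eq_bot_iff]
  intro α hα
  rw [MulAction.mem_stabilizer_iff] at hα
  rw [Subgroup.mem_bot]
  have hgen := closure_eq_top_of_cong x y hx hy
  apply Subtype.ext
  apply eq_one_of_fix_gen (α : MulAut P) y hgen
  intro i
  have := congrArg (fun z : congTuples A (frattini P) x hA => (z : ι → P) i) hα
  exact this

/-- lifting a generating tuple of `P ⧸ Φ(P)` -/
theorem closure_eq_top_of_map_mk [Finite P] {ι : Type*} (y : ι → P)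
    (h : Subgroup.closure (Set.range (fun i => (QuotientGroup.mk (y i) : P ⧸ frattini P))) = ⊤) :
    Subgroup.closure (Set.range y) = ⊤ := by
  apply frattini_nongenerating
  have h1 : (Subgroup.closure (Set.range y)).map (QuotientGroup.mk' (frattini P)) = ⊤ := by
    rw [MonoidHom.map_closure, ← h]
    congr 1
    ext z
    constructor
    · rintro ⟨_, ⟨i, rfl⟩, rfl⟩
      exact ⟨i, rfl⟩
    · rintro ⟨i, rfl⟩
      exact ⟨y i, ⟨i, rfl⟩, rfl⟩
  have h2 := Subgroup.comap_map_eq (QuotientGroup.mk' (frattini P)) (Subgroup.closure (Set.range y))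
  rw [h1, Subgroup.comap_top, QuotientGroup.ker_mk'] at h2
  exact h2.symm

theorem map_mk_closure_eq_top {ι : Type*} (N : Subgroup P) [N.Normal] (y : ι → P)
    (h : Subgroup.closure (Set.range y) = ⊤) :
    Subgroup.closure (Set.range (fun i => (QuotientGroup.mk (y i) : P ⧸ N))) = ⊤ := by
  have h1 : (Subgroup.closure (Set.range y)).map (QuotientGroup.mk' N) = ⊤ := by
    rw [h]; exact Subgroup.map_top_of_surjective _ (QuotientGroup.mk'_surjective N)
  rw [MonoidHom.map_closure] at h1
  rw [← h1]
  congr 1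
  ext z
  constructor
  · rintro ⟨i, rfl⟩
    exact ⟨y i, ⟨i, rfl⟩, rfl⟩
  · rintro ⟨_, ⟨i, rfl⟩, rfl⟩
    exact ⟨i, rfl⟩

end tuples

end Cfsg.Agent.Lib.Helper70
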