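import Mathlib
import Cfsg.Agent.S4207
import Cfsg.Agent.S0012

/-!
If `R` is a normal `p`-subgroup of `Γ` with `C_Γ(R) ≤ R` containing every normal `p`-subgroup,
then `Γ/R` acts faithfully on `R/Φ(R)`.
-/

set_option autoImplicit false

namespace Cfsg.Agent.Lib.Helper70

section
variable {Γ : Type*} [Group Γ]

/-- the Frattini subgroup of `R`, viewed in the ambient group -/
abbrev frattiniIn (R : Subgroup Γ) : Subgroup Γ := (frattini R).map R.subtype

theorem mem_frattiniIn {R : Subgroup Γ} {x : Γ} (hx : x ∈ R) :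
    x ∈ frattiniIn R ↔ (⟨x, hx⟩ : R) ∈ frattini R := by
  constructor
  · rintro ⟨z, hz, rfl⟩
    exact hz
  · intro h
    exact ⟨⟨x, hx⟩, h, rfl⟩

theorem frattiniIn_le (R : Subgroup Γ) : frattiniIn R ≤ R := by
  rintro _ ⟨z, _, rfl⟩
  exact z.2

/-- elements acting trivially on `R/Φ(R)` -/
def trivOnFrattiniQuot (R : Subgroup Γ) [hR : R.Normal] : Subgroup Γ where
  carrier := {x | ∀ r ∈ R, x * r * x⁻¹ * r⁻¹ ∈ frattiniIn R}
  one_mem' := by
    intro r _
    simp only [one_mul, inv_one, mul_one, mul_inv_cancel]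
    exact Subgroup.one_mem _
  mul_mem' := by
    intro x y hx hy r hr
    have hn : (frattiniIn R).Normal := inferInstance
    have h1 : x * (y * r * y⁻¹ * r⁻¹) * x⁻¹ ∈ frattiniIn R := hn.conj_mem _ (hy r hr) x
    have h2 := hx r hr
    have : x * y * r * (x * y)⁻¹ * r⁻¹ = (x * (y * r * y⁻¹ * r⁻¹) * x⁻¹) * (x * r * x⁻¹ * r⁻¹) := by
      group
    show x * y * r * (x * y)⁻¹ * r⁻¹ ∈ frattiniIn R
    rw [this]
    exact Subgroup.mul_mem _ h1 h2
  inv_mem' := by
    intro x hx r hr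
    have hr' : x⁻¹ * r * x ∈ R := by
      have := hR.conj_mem r hr x⁻¹
      simpa using this
    have h1 := hx (x⁻¹ * r * x) hr'
    have : x⁻¹ * r * x⁻¹⁻¹ * r⁻¹ = (x * (x⁻¹ * r * x) * x⁻¹ * (x⁻¹ * r * x)⁻¹)⁻¹ := by group
    rw [this]
    exact Subgroup.inv_mem _ h1

theorem mem_trivOnFrattiniQuot (R : Subgroup Γ) [R.Normal] (x : Γ) :
    x ∈ trivOnFrattiniQuot R ↔ ∀ r ∈ R, x * r * x⁻¹ * r⁻¹ ∈ frattiniIn R := Iff.rfl

instance trivOnFrattiniQuot_normal (R : Subgroup Γ) [hR : R.Normal] :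
    (trivOnFrattiniQuot R).Normal := by
  constructor
  intro x hx y r hr
  have hn : (frattiniIn R).Normal := inferInstance
  have hr' : y⁻¹ * r * y ∈ R := by
    have := hR.conj_mem r hr y⁻¹
    simpa using this
  have h1 := hx (y⁻¹ * r * y) hr'
  have h2 := hn.conj_mem _ h1 y
  have : y * x * y⁻¹ * r * (y * x * y⁻¹)⁻¹ * r⁻¹ =
      y * (x * (y⁻¹ * r * y) * x⁻¹ * (y⁻¹ * r * y)⁻¹) * y⁻¹ := by group
  rw [this]
  exact h2

/-- a `p'`-element acting trivially on `R/Φ(R)` centralizes the `p`-group `R` -/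
theorem mem_centralizer_of_coprime [Finite Γ] {p : ℕ} [Fact p.Prime] (R : Subgroup Γ) [hRn : R.Normal]
    (hR : IsPGroup p R) (y : Γ) (hy : y ∈ trivOnFrattiniQuot R) (hcop : (orderOf y).Coprime p) :
    y ∈ Subgroup.centralizer (R : Set Γ) := by
  have hp : p.Prime := Fact.out
  set α : MulAut R := MulAut.conjNormal y with hα
  -- all powers of α act trivially on the Frattini quotient
  have hA : ∀ β ∈ Subgroup.zpowers α, ∀ x : R, β x * x⁻¹ ∈ frattini R := by
    rintro β ⟨k, rfl⟩ x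
    have hk : y ^ k ∈ trivOnFrattiniQuot R := Subgroup.zpow_mem _ hy k
    have h1 := hk x x.2
    have hmem : y ^ k * x * (y ^ k)⁻¹ * (x : Γ)⁻¹ ∈ R :=
      R.mul_mem (hRn.conj_mem x x.2 (y ^ k)) (R.inv_mem x.2)
    rw [mem_frattiniIn hmem] at h1
    have : (α ^ k) x * x⁻¹ = ⟨y ^ k * x * (y ^ k)⁻¹ * (x : Γ)⁻¹, hmem⟩ := by
      apply Subtype.ext
      have e : (MulAut.conjNormal y : MulAut R) ^ k = MulAut.conjNormal (y ^ k) :=
        (map_zpow (MulAut.conjNormal (H := R)) y k).symm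
      simp only [Subgroup.coe_mul, Subgroup.coe_inv]
      rw [e, MulAut.conjNormal_apply]
    rw [this]
    exact h1
  obtain ⟨n, hn⟩ := IsPGroup.iff_card.mp hR
  have hidx : ∃ r, (frattini R).index = p ^ r := by
    have : (frattini R).index ∣ p ^ n := by
      rw [← hn]; exact Subgroup.index_dvd_card _
    obtain ⟨r, _, hr⟩ := (Nat.dvd_prime_pow hp).mp this
    exact ⟨r, hr⟩
  obtain ⟨r, hr⟩ := hidx
  have hdvd := Cfsg.Agent.S4207.result hn hr (Subgroup.zpowers α) hA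
  rw [Nat.card_zpowers] at hdvd
  obtain ⟨j, _, hj⟩ := (Nat.dvd_prime_pow hp).mp hdvd
  have hdvd2 : orderOf α ∣ orderOf y := by
    rw [hα]
    exact orderOf_map_dvd (MulAut.conjNormal (H := R)) y
  have hα1 : orderOf α = 1 := by
    have h1 : (orderOf α).Coprime p := Nat.Coprime.coprime_dvd_left hdvd2 hcop
    rw [hj] at h1 ⊢
    rcases Nat.eq_zero_or_pos j with h0 | hpos
    · rw [h0, pow_zero]
    · exfalso
      have : p ∣ Nat.gcd (p ^ j) p := Nat.dvd_gcd (dvd_pow_self p hpos.ne') dvd_rfl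
      rw [Nat.Coprime] at h1
      rw [h1] at this
      exact hp.one_lt.ne' (Nat.dvd_one.mp this)
  rw [orderOf_eq_one_iff] at hα1
  rw [Subgroup.mem_centralizer_iff]
  intro x hx
  have := congrArg (fun β : MulAut R => ((β ⟨x, hx⟩ : R) : Γ)) hα1
  simp only [hα, MulAut.conjNormal_apply, MulAut.one_apply] at this
  calc x * y = (y * x * y⁻¹) * y := by rw [this]
    _ = y * x := by group

/-- Main abstract statement. -/
theorem trivOnFrattiniQuot_le [Finite Γ] {p : ℕ} [Fact p.Prime] (R : Subgroup Γ) [R.Normal]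
    (hR : IsPGroup p R) (hcent : Subgroup.centralizer (R : Set Γ) ≤ R)
    (hmax : ∀ N : Subgroup Γ, N.Normal → IsPGroup p N → N ≤ R) :
    trivOnFrattiniQuot R ≤ R := by
  have hp : p.Prime := Fact.out
  apply hmax _ inferInstance
  -- it is a p-group
  rw [IsPGroup.iff_orderOf]
  rintro ⟨x, hx⟩
  have hxo : orderOf x ≠ 0 := (orderOf_pos x).ne'
  obtain ⟨a, m, hm, hxm⟩ := Nat.exists_eq_pow_mul_and_not_dvd hxo p hp.ne_one
  set y := x ^ p ^ a with hy
  have hyC : y ∈ trivOnFrattiniQuot R := Subgroup.pow_mem _ hx _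
  have hyo : orderOf y = m := by
    rw [hy, orderOf_pow' x (pow_pos hp.pos a).ne', hxm,
      Nat.gcd_eq_right (dvd_mul_right _ _), Nat.mul_div_cancel_left _ (pow_pos hp.pos a)]
  have hcop : (orderOf y).Coprime p := by
    rw [hyo]
    exact ((Nat.Prime.coprime_iff_not_dvd hp).mpr hm).symm
  have hycent := mem_centralizer_of_coprime R hR y hyC hcop
  have hyR : y ∈ R := hcent hycent
  obtain ⟨k, hk⟩ := (IsPGroup.iff_orderOf.mp hR) ⟨y, hyR⟩
  rw [Subgroup.orderOf_mk] at hk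
  have hm1 : m = 1 := by
    rw [hyo] at hk hcop
    rcases Nat.eq_zero_or_pos k with h0 | hpos
    · rw [hk, h0, pow_zero]
    · exfalso
      rw [hk] at hcop
      have : p ∣ Nat.gcd (p ^ k) p := Nat.dvd_gcd (dvd_pow_self p hpos.ne') dvd_rfl
      rw [Nat.Coprime] at hcop
      rw [hcop] at this
      exact hp.one_lt.ne' (Nat.dvd_one.mp this)
  refine ⟨a, ?_⟩
  rw [Subgroup.orderOf_mk, hxm, hm1, mul_one]

/-- elements of the `p`-group `R` act trivially on `R/Φ(R)` -/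
theorem le_trivOnFrattiniQuot [Finite Γ] {p : ℕ} [Fact p.Prime] (R : Subgroup Γ) [hRn : R.Normal]
    (hR : IsPGroup p R) : R ≤ trivOnFrattiniQuot R := by
  intro x hx r hr
  obtain ⟨h1, _⟩ := Cfsg.Agent.S0012.result p hR
  have hmem : x * r * x⁻¹ * r⁻¹ ∈ R := R.mul_mem (hRn.conj_mem r hr x) (R.inv_mem hr)
  rw [mem_frattiniIn hmem]
  apply h1
  rw [commutator_eq_closure]
  apply Subgroup.subset_closure
  exact ⟨⟨x, hx⟩, ⟨r, hr⟩, by apply Subtype.ext; simp [commutatorElement_def]⟩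

end

end Cfsg.Agent.Lib.Helper70
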