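import Mathlib
import Cfsg.Agent.Lib.Helper6.SuzOrd0

/-!
# Suzuki's order theorem, PACKAGE PA: element and pair counts on `ASys` (helper70, for helper6)

* `card_fpf` (A4): the number of fixed-point-free elements.
* `card_pairs_fpf` (A1): the number of ordered pairs of involutions with fixed-point-free product.
* `exists_real_fpf` (AX): for `N = d + 1` there is a fixed-point-free product `g` of two involutions
  with `|C(g)| = N + 1`.
* `free_centralizer`, `card_centralizer_le`: the centraliser of a fixed-point-free element acts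
  freely.
-/

set_option autoImplicit false
set_option linter.unusedSectionVars false
set_option linter.style.haveILetI false

namespace Cfsg.Agent.Lib.Helper70.SuzPA

open MulAction Cfsg.Agent.Lib.Helper6 Cfsg.Agent.Lib.Helper6.SuzOrd Cfsg.Agent.Lib.Helper25.ZassInv
  Cfsg.Agent.Lib.Helper25.InvPairs

section Fin

variable {H Λ : Type*} [Group H] [MulAction H Λ] [Fintype H] [DecidableEq H] [Fintype Λ]
  [DecidableEq Λ] {N d : ℕ}

/-- the fixed points of `g` -/
def fixF (g : H) : Finset Λ := Finset.univ.filter (fun p => g • p = p)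

theorem mem_fixF {g : H} {p : Λ} : p ∈ fixF g ↔ g • p = p := by simp [fixF]

/-- double counting of fixed points -/
theorem sum_card_fixF {ι : Type*} (s : Finset ι) (k : ι → H) :
    ∑ i ∈ s, (fixF (Λ := Λ) (k i)).card = ∑ x : Λ, (s.filter (fun i => k i • x = x)).card := by
  have hdc := Finset.sum_card_bipartiteAbove_eq_sum_card_bipartiteBelow (s := s)
    (t := (Finset.univ : Finset Λ)) (r := fun i x => k i • x = x)
  simp only [Finset.bipartiteAbove, Finset.bipartiteBelow] at hdc
  exact hdc

/-- double counting of pairs of fixed points -/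
theorem sum_card_offDiag_fixF {ι : Type*} (s : Finset ι) (k : ι → H) :
    ∑ i ∈ s, (fixF (Λ := Λ) (k i)).offDiag.card =
      ∑ p ∈ (Finset.univ : Finset Λ).offDiag,
        (s.filter (fun i => k i • p.1 = p.1 ∧ k i • p.2 = p.2)).card := by
  have hdc := Finset.sum_card_bipartiteAbove_eq_sum_card_bipartiteBelow (s := s)
    (t := (Finset.univ : Finset Λ).offDiag) (r := fun i p => k i • p.1 = p.1 ∧ k i • p.2 = p.2)
  simp only [Finset.bipartiteAbove, Finset.bipartiteBelow] at hdc
  rw [← hdc]
  apply Finset.sum_congr rfl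
  intro i _
  congr 1
  ext p
  simp only [Finset.mem_offDiag, mem_fixF, Finset.mem_filter, Finset.mem_univ, true_and]
  tauto

theorem card_fixF_one (S : ASys H Λ N d) : (fixF (Λ := Λ) (1 : H)).card = N + 1 := by
  rw [← S.card_pts, Nat.card_eq_fintype_card, ← Finset.card_univ]
  congr 1
  ext p
  simp [mem_fixF]

theorem card_fixF_le_two (S : ASys H Λ N d) {g : H} (hg : g ≠ 1) :
    (fixF (Λ := Λ) g).card ≤ 2 := by
  by_contra h
  push Not at h
  obtain ⟨c1, c2, c3, h1, h2, h3', h12, h13, h23⟩ := Finset.two_lt_card_iff.mp h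
  rw [mem_fixF] at h1 h2 h3'
  exact hg (S.h3 g c1 c2 c3 h12 h23 h13 h1 h2 h3')

theorem fpf_iff_card_fixF {g : H} : (∀ p : Λ, g • p ≠ p) ↔ (fixF (Λ := Λ) g).card = 0 := by
  rw [Finset.card_eq_zero, Finset.eq_empty_iff_forall_notMem]
  simp [mem_fixF]

/-- the pointwise identity behind the counts -/
theorem ptwise (S : ASys H Λ N d) (g : H) :
    (fixF (Λ := Λ) g).card * (fixF (Λ := Λ) g).card + 2 + N * (if g = 1 then 1 else 0)
      = 3 * (fixF (Λ := Λ) g).card + 2 * (if (∀ p : Λ, g • p ≠ p) then 1 else 0)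
        + N * N * (if g = 1 then 1 else 0) := by
  by_cases hg : g = 1
  · subst hg
    have h2 : ¬ (∀ p : Λ, (1 : H) • p ≠ p) := by
      obtain ⟨a, _, _⟩ := S.exists_pair
      intro h
      exact h a (one_smul _ _)
    rw [card_fixF_one S, if_pos rfl, if_neg h2]
    ring
  · have h1 := card_fixF_le_two S hg
    rw [if_neg hg]
    by_cases h0 : (fixF (Λ := Λ) g).card = 0
    · rw [if_pos (fpf_iff_card_fixF.mpr h0), h0]
      simp
    · rw [if_neg (fun h => h0 (fpf_iff_card_fixF.mp h))]
      have : (fixF (Λ := Λ) g).card = 1 ∨ (fixF (Λ := Λ) g).card = 2 := by omega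
      rcases this with h | h <;> rw [h] <;> simp

/-- the summed identity -/
theorem sum_identity (S : ASys H Λ N d) {ι : Type*} (s : Finset ι) (k : ι → H) :
    ∑ i ∈ s, (fixF (Λ := Λ) (k i)).card * (fixF (Λ := Λ) (k i)).card + 2 * s.card
        + N * (s.filter (fun i => k i = 1)).card
      = 3 * ∑ i ∈ s, (fixF (Λ := Λ) (k i)).card
        + 2 * (s.filter (fun i => ∀ p : Λ, k i • p ≠ p)).card
        + N * N * (s.filter (fun i => k i = 1)).card := by
  rw [Finset.card_filter, Finset.card_filter, Finset.card_eq_sum_ones s]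
  simp only [Finset.mul_sum, ← Finset.sum_add_distrib]
  apply Finset.sum_congr rfl
  intro i _
  have := ptwise (Λ := Λ) S (k i)
  simpa using this

/-- squares from off-diagonal counts -/
theorem sq_eq_offDiag_add (A : Finset Λ) : A.card * A.card = A.offDiag.card + A.card := by
  rw [Finset.offDiag_card, Nat.sub_add_cancel (Nat.le_mul_self _)]

theorem card_univ_pts (S : ASys H Λ N d) : (Finset.univ : Finset Λ).card = N + 1 := by
  rw [Finset.card_univ, ← Nat.card_eq_fintype_card, S.card_pts]

theorem card_offDiag_pts (S : ASys H Λ N d) :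
    (Finset.univ : Finset Λ).offDiag.card = (N + 1) * N := by
  rw [Finset.offDiag_card, card_univ_pts S]
  have : (N + 1) * (N + 1) = (N + 1) * N + (N + 1) := by ring
  omega

/-- point stabilisers have order `N * d` -/
theorem card_filter_stab (S : ASys H Λ N d) (x : Λ) :
    (Finset.univ.filter (fun g : H => g • x = x)).card = N * d := by
  have h1 : Nat.card H = Nat.card (stabilizer H x) * Nat.card Λ := by
    rw [← (stabilizer H x).card_mul_index, MulAction.index_stabilizer]
    congr 1
    have : orbit H x = Set.univ := by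
      ext c
      simp only [Set.mem_univ, iff_true]
      by_cases hc : c = x
      · exact ⟨1, by simp [hc]⟩
      · obtain ⟨g, hg, -⟩ := S.h2 x c c x (Ne.symm hc) hc
        exact ⟨g, hg⟩
    rw [this, Set.ncard_univ]
  rw [S.card_H, S.card_pts] at h1
  have h2 : Nat.card (stabilizer H x) = (Finset.univ.filter (fun g : H => g • x = x)).card := by
    rw [← Fintype.card_subtype, ← Nat.card_eq_fintype_card]
    rfl
  rw [← h2]
  have h3 : (N * d) * (N + 1) = Nat.card (stabilizer H x) * (N + 1) := by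
    rw [← h1]; ring
  exact (Nat.eq_of_mul_eq_mul_right (by omega) h3).symm

/-- two-point stabilisers have order `d` -/
theorem card_filter_stab2 (S : ASys H Λ N d) {x y : Λ} (hxy : x ≠ y) :
    (Finset.univ.filter (fun g : H => g • x = x ∧ g • y = y)).card = d := by
  rw [← S.card_stab2 x y hxy, ← Fintype.card_subtype, ← Nat.card_eq_fintype_card]
  rfl

/-- (A4), `Finset` form -/
theorem card_fpf_finset (S : ASys H Λ N d) :
    2 * (Finset.univ.filter (fun g : H => ∀ p : Λ, g • p ≠ p)).card + 2 * N * N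
      = N * ((N + 1) * (d + 1)) := by
  have hid := sum_identity (Λ := Λ) S (Finset.univ : Finset H) (fun g => g)
  have h1 : ∑ g : H, (fixF (Λ := Λ) g).card = (N + 1) * (N * d) := by
    rw [sum_card_fixF]
    simp only [card_filter_stab S]
    rw [Finset.sum_const, card_univ_pts S, smul_eq_mul]
  have h2 : ∑ g : H, (fixF (Λ := Λ) g).offDiag.card = (N + 1) * N * d := by
    rw [sum_card_offDiag_fixF]
    rw [Finset.sum_const_nat (m := d), card_offDiag_pts S]
    intro p hp
    rw [Finset.mem_offDiag] at hp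
    exact card_filter_stab2 S hp.2.2
  have h3 : ∑ g : H, (fixF (Λ := Λ) g).card * (fixF (Λ := Λ) g).card
      = (N + 1) * N * d + (N + 1) * (N * d) := by
    simp only [sq_eq_offDiag_add]
    rw [Finset.sum_add_distrib, h1, h2]
  have h4 : (Finset.univ : Finset H).card = (N + 1) * N * d := by
    rw [Finset.card_univ, ← Nat.card_eq_fintype_card, S.card_H]
  have h5 : ((Finset.univ : Finset H).filter (fun g => g = 1)).card = 1 := by
    rw [Finset.filter_eq' , if_pos (Finset.mem_univ _), Finset.card_singleton]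
  rw [h1, h3, h4, h5] at hid
  zify at hid ⊢
  linear_combination -hid

/-- involutions: products equal to one -/
theorem card_pairs_one (S : ASys H Λ N d) :
    (((invs H) ×ˢ (invs H)).filter (fun xy => xy.1 * xy.2 = 1)).card = (N + 1) * d := by
  rw [← S.card_invs]
  symm
  apply Finset.card_bij (fun j _ => (j, j))
  · intro j hj
    rw [Finset.mem_filter, Finset.mem_product]
    exact ⟨⟨hj, hj⟩, (mem_invs.mp hj).2⟩
  · intro j _ j' _ h
    exact (Prod.ext_iff.mp h).1
  · intro xy hxy
    rw [Finset.mem_filter, Finset.mem_product] at hxy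
    obtain ⟨⟨h1, h2⟩, h3⟩ := hxy
    refine ⟨xy.1, h1, ?_⟩
    have h4 : xy.1 * xy.1 = 1 := (mem_invs.mp h1).2
    have : xy.2 = xy.1 := by
      have := h3.trans h4.symm
      exact (mul_left_cancel this)
    exact Prod.ext rfl this.symm

theorem card_invsMap (S : ASys H Λ N d) (x y : Λ) : (invsMap (G := H) x y).card = d := by
  by_cases h : x = y
  · subst h
    exact S.card_invsMap_self x
  · exact S.card_invsMap_ne h

/-- pairs of involutions whose product fixes `x` -/
theorem card_pairs_fix (S : ASys H Λ N d) (x : Λ) :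
    (((invs H) ×ˢ (invs H)).filter (fun xy => (xy.1 * xy.2) • x = x)).card
      = (N + 1) * (d * d) := by
  rw [Finset.card_eq_sum_card_fiberwise (f := fun xy : H × H => xy.1 • x) (t := Finset.univ)
    (fun _ _ => Finset.mem_univ _)]
  rw [Finset.sum_const_nat (m := d * d), card_univ_pts S]
  intro y _
  have : ((((invs H) ×ˢ (invs H)).filter (fun xy => (xy.1 * xy.2) • x = x)).filter
      (fun xy => xy.1 • x = y)) = (invsMap (G := H) x y) ×ˢ (invsMap (G := H) x y) := by
    ext xy
    simp only [Finset.mem_filter, Finset.mem_product, mem_invsMap, mem_invs]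
    constructor
    · rintro ⟨⟨⟨h1, h2⟩, h3⟩, h4⟩
      refine ⟨⟨h1, h4⟩, h2, ?_⟩
      have e1 : xy.2 • x = (xy.1 * xy.1) • (xy.2 • x) := by rw [h1.2, one_smul]
      rw [e1, mul_smul, ← mul_smul xy.1 xy.2, h3, h4]
    · rintro ⟨⟨h1, h4⟩, h2, h5⟩
      refine ⟨⟨⟨h1, h2⟩, ?_⟩, h4⟩
      rw [mul_smul, h5, ← h4, ← mul_smul, h1.2, one_smul]
  rw [this, Finset.card_product, card_invsMap S]

/-- pairs of involutions whose product fixes two points -/
theorem card_pairs_fix2 (S : ASys H Λ N d) {x x' : Λ} (hx : x ≠ x') :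
    (((invs H) ×ˢ (invs H)).filter
      (fun xy => (xy.1 * xy.2) • x = x ∧ (xy.1 * xy.2) • x' = x')).card + d
      = (N + 1) * d + d * d := by
  set s := (invs H) ×ˢ (invs H) with hs
  have hsplit := Finset.card_filter_add_card_filter_not
    (s := s.filter (fun xy => (xy.1 * xy.2) • x = x ∧ (xy.1 * xy.2) • x' = x'))
    (fun xy : H × H => xy.1 * xy.2 = 1)
  have hA : ((s.filter (fun xy => (xy.1 * xy.2) • x = x ∧ (xy.1 * xy.2) • x' = x')).filter
      (fun xy : H × H => xy.1 * xy.2 = 1))
      = s.filter (fun xy => xy.1 * xy.2 = 1) := by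
    ext xy
    simp only [Finset.mem_filter]
    constructor
    · rintro ⟨⟨h1, -⟩, h2⟩
      exact ⟨h1, h2⟩
    · rintro ⟨h1, h2⟩
      exact ⟨⟨h1, by rw [h2, one_smul, one_smul]; exact ⟨rfl, rfl⟩⟩, h2⟩
  have hB : ((s.filter (fun xy => (xy.1 * xy.2) • x = x ∧ (xy.1 * xy.2) • x' = x')).filter
      (fun xy : H × H => ¬ xy.1 * xy.2 = 1))
      = (invsMap (G := H) x x').offDiag := by
    ext xy
    simp only [Finset.mem_filter, Finset.mem_offDiag, mem_invsMap, hs, Finset.mem_product,
      mem_invs]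
    constructor
    · rintro ⟨⟨⟨h1, h2⟩, h3, h4⟩, h5⟩
      -- `k = xy.1 * xy.2` is a nonidentity element fixing `x`, `x'`
      have hinv1 : xy.1⁻¹ = xy.1 := inv_eq_of_mul_eq_one_left h1.2
      have hinv2 : xy.2⁻¹ = xy.2 := inv_eq_of_mul_eq_one_left h2.2
      have hkey : ∀ q : Λ, (xy.1 * xy.2) • q = q → (xy.1 * xy.2) • (xy.1 • q) = xy.1 • q := by
        intro q hq
        have e1 : (xy.2 * xy.1) • q = q := by
          have : (xy.1 * xy.2)⁻¹ • q = q := by rw [inv_smul_eq_iff, hq]
          rwa [mul_inv_rev, hinv1, hinv2] at this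
        have e2 : (xy.1 * xy.2) • (xy.1 • q) = xy.1 • ((xy.2 * xy.1) • q) := by
          rw [← mul_smul, ← mul_smul, mul_assoc]
        rw [e2, e1]
      have hmem : ∀ q : Λ, (xy.1 * xy.2) • q = q → q = x ∨ q = x' := by
        intro q hq
        by_contra hcon
        push Not at hcon
        exact h5 (S.h3 _ x x' q hx (Ne.symm hcon.2) (Ne.symm hcon.1) h3 h4 hq)
      have h12 : ∀ q : Λ, (xy.1 * xy.2) • q = q → xy.2 • q = xy.1 • q := by
        intro q hq
        have e1 : xy.2 • q = (xy.1 * xy.1) • (xy.2 • q) := by rw [h1.2, one_smul]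
        rw [e1, mul_smul, ← mul_smul xy.1 xy.2, hq]
      -- `xy.1` has exactly one fixed point
      obtain ⟨c, hc, huniq⟩ := S.fix_unique h1.1 h1.2
      have hx1 : xy.1 • x = x' := by
        rcases hmem _ (hkey x h3) with h | h
        · exfalso
          rcases hmem _ (hkey x' h4) with h' | h'
          · have : xy.1 • x' = xy.1 • x := by rw [h', h]
            exact hx (smul_left_cancel _ this).symm
          · exact hx ((huniq x h).trans (huniq x' h').symm)
        · exact h
      have hx2 : xy.2 • x = x' := by rw [h12 x h3, hx1]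
      refine ⟨⟨h1, hx1⟩, ⟨h2, hx2⟩, ?_⟩
      intro heq
      apply h5
      rw [← heq, h1.2]
    · rintro ⟨⟨h1, hx1⟩, ⟨h2, hx2⟩, hne⟩
      have hx1' : xy.1 • x' = x := by rw [← hx1, ← mul_smul, h1.2, one_smul]
      have hx2' : xy.2 • x' = x := by rw [← hx2, ← mul_smul, h2.2, one_smul]
      refine ⟨⟨⟨h1, h2⟩, ?_, ?_⟩, ?_⟩
      · rw [mul_smul, hx2, hx1']
      · rw [mul_smul, hx2', hx1]
      · intro h
        apply hne
        have h4 : xy.1 * xy.1 = 1 := h1.2
        have := h.trans h4.symm
        exact (mul_left_cancel this).symm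
  rw [hA, hB, card_pairs_one S, Finset.offDiag_card, card_invsMap S] at hsplit
  have hle : d ≤ d * d := Nat.le_mul_self d
  omega

/-- (A1), `Finset` form -/
theorem card_pairs_fpf_finset (S : ASys H Λ N d) :
    2 * (((invs H) ×ˢ (invs H)).filter (fun xy => ∀ p : Λ, (xy.1 * xy.2) • p ≠ p)).card
      = (N + 1) * N * d * (d + 1) := by
  have hid := sum_identity (Λ := Λ) S ((invs H) ×ˢ (invs H)) (fun xy => xy.1 * xy.2)
  have h1 : ∑ xy ∈ (invs H) ×ˢ (invs H), (fixF (Λ := Λ) (xy.1 * xy.2)).card
      = (N + 1) * ((N + 1) * (d * d)) := by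
    rw [sum_card_fixF]
    simp only [card_pairs_fix S]
    rw [Finset.sum_const, card_univ_pts S, smul_eq_mul]
  obtain ⟨c, hc⟩ : ∃ c : ℕ, c + d = (N + 1) * d + d * d := by
    refine ⟨(N + 1) * d + d * d - d, ?_⟩
    have hle : d ≤ d * d := Nat.le_mul_self d
    omega
  have h2 : ∑ xy ∈ (invs H) ×ˢ (invs H), (fixF (Λ := Λ) (xy.1 * xy.2)).offDiag.card
      = (N + 1) * N * c := by
    rw [sum_card_offDiag_fixF]
    rw [Finset.sum_const_nat (m := c), card_offDiag_pts S]
    intro p hp
    rw [Finset.mem_offDiag] at hp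
    have := card_pairs_fix2 S hp.2.2
    omega
  have h3 : ∑ xy ∈ (invs H) ×ˢ (invs H),
      (fixF (Λ := Λ) (xy.1 * xy.2)).card * (fixF (Λ := Λ) (xy.1 * xy.2)).card
      = (N + 1) * N * c + (N + 1) * ((N + 1) * (d * d)) := by
    simp only [sq_eq_offDiag_add]
    rw [Finset.sum_add_distrib, h1, h2]
  have h4 : ((invs H) ×ˢ (invs H)).card = ((N + 1) * d) * ((N + 1) * d) := by
    rw [Finset.card_product, S.card_invs]
  rw [h1, h3, h4, card_pairs_one S] at hid
  zify at hid hc ⊢
  linear_combination -hid + ((N : ℤ) + 1) * N * hc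

/-- the centraliser of a fixed-point-free element acts freely -/
theorem free_centralizer (S : ASys H Λ N d) {g : H} (hg : ∀ p : Λ, g • p ≠ p) {t : H}
    (ht : t * g = g * t) {p : Λ} (hp : t • p = p) : t = 1 := by
  have hfix : ∀ q : Λ, t • q = q → t • (g • q) = g • q := by
    intro q hq
    rw [← mul_smul, ht, mul_smul, hq]
  have h1 := hfix p hp
  have h2 := hfix (g • p) h1
  by_contra ht1
  have hr : g • (g • p) = p := by
    by_contra hne
    exact ht1 (S.h3 t p (g • p) (g • (g • p)) (Ne.symm (hg p)) (Ne.symm (hg (g • p)))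
      (Ne.symm hne) hp h1 h2)
  have hgg : g * g = 1 := S.swap_sq g p (g • p) (Ne.symm (hg p)) rfl hr
  have hg1 : g ≠ 1 := by
    intro h
    exact hg p (by rw [h, one_smul])
  obtain ⟨c, hc, -⟩ := S.fix_unique hg1 hgg
  exact hg c hc

/-- the centraliser of a fixed-point-free element has at most `N + 1` elements -/
theorem card_centralizer_le (S : ASys H Λ N d) {g : H} (hg : ∀ p : Λ, g • p ≠ p) :
    Nat.card (Subgroup.centralizer ({g} : Set H)) ≤ N + 1 := by
  obtain ⟨a, _, _⟩ := S.exists_pair
  rw [← S.card_pts]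
  apply Nat.card_le_card_of_injective (fun t : Subgroup.centralizer ({g} : Set H) => (t : H) • a)
  intro t t' htt
  have htt' : (t : H) • a = (t' : H) • a := htt
  have hmem : (t' : H)⁻¹ * (t : H) ∈ Subgroup.centralizer ({g} : Set H) :=
    mul_mem (inv_mem t'.2) t.2
  have hcomm : ((t' : H)⁻¹ * (t : H)) * g = g * ((t' : H)⁻¹ * (t : H)) := by
    have := Subgroup.mem_centralizer_iff.mp hmem g (Set.mem_singleton g)
    exact this.symm
  have hfix : ((t' : H)⁻¹ * (t : H)) • a = a := by
    rw [mul_smul, htt', inv_smul_smul]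
  have h1 := free_centralizer S hg hcomm hfix
  apply Subtype.ext
  exact (inv_mul_eq_one.mp h1).symm

/-- (AX), `Finset` form -/
theorem exists_real_fpf_finset (S : ASys H Λ N d) (hN : N = d + 1) :
    ∃ g j1 j2 : H, (j1 ≠ 1 ∧ j1 * j1 = 1) ∧ (j2 ≠ 1 ∧ j2 * j2 = 1) ∧ g = j1 * j2 ∧
      (∀ p : Λ, g • p ≠ p) ∧ Nat.card (Subgroup.centralizer ({g} : Set H)) = N + 1 := by
  classical
  set FP : Finset H := Finset.univ.filter (fun g : H => ∀ p : Λ, g • p ≠ p) with hFP
  have hA4 := card_fpf_finset (Λ := Λ) S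
  have hA1 := card_pairs_fpf_finset (Λ := Λ) S
  rw [← hFP] at hA4
  -- partition the pairs by their product
  have hpart : (((invs H) ×ˢ (invs H)).filter (fun xy => ∀ p : Λ, (xy.1 * xy.2) • p ≠ p)).card
      = ∑ g ∈ FP, (pairsWith g).card := by
    rw [Finset.card_eq_sum_card_fiberwise (f := fun xy : H × H => xy.1 * xy.2) (t := FP)]
    · apply Finset.sum_congr rfl
      intro g hg
      congr 1
      ext xy
      simp only [Finset.mem_filter, mem_pairsWith, Finset.mem_product, mem_invs]
      constructor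
      · rintro ⟨⟨h1, -⟩, h2⟩
        exact ⟨h1, h2⟩
      · rintro ⟨h1, h2⟩
        refine ⟨⟨h1, ?_⟩, h2⟩
        rw [h2]
        exact (Finset.mem_filter.mp hg).2
    · intro xy hxy
      rw [Finset.mem_coe, Finset.mem_filter] at hxy
      rw [Finset.mem_coe, hFP, Finset.mem_filter]
      exact ⟨Finset.mem_univ _, hxy.2⟩
  rw [hpart] at hA1
  have hd1 : 1 ≤ d := by
    obtain ⟨k, hk⟩ := S.d_odd
    omega
  -- `2 |FP| = N² d`, `Σ = (N + 1) |FP|`
  have hFPcard : 2 * FP.card = N * N * d := by
    subst hN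
    zify at hA4 ⊢
    linear_combination hA4
  have hsum : ∑ g ∈ FP, (pairsWith g).card = (N + 1) * FP.card := by
    have : 2 * ∑ g ∈ FP, (pairsWith g).card = 2 * ((N + 1) * FP.card) := by
      subst hN
      zify at hA1 hFPcard ⊢
      linear_combination hA1 - ((d : ℤ) + 1 + 1) * hFPcard
    omega
  have hFPpos : 0 < FP.card := by
    have : 0 < N * N * d := by
      have h2 := S.two_le
      positivity
    omega
  -- some fibre is large
  have hex : ∃ g ∈ FP, N + 1 ≤ (pairsWith g).card := by
    by_contra hcon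
    push Not at hcon
    have h1 : ∑ g ∈ FP, (pairsWith g).card ≤ ∑ _g ∈ FP, N :=
      Finset.sum_le_sum (fun g hg => by have := hcon g hg; omega)
    rw [Finset.sum_const, smul_eq_mul, hsum] at h1
    nlinarith
  obtain ⟨g, hgFP, hgcard⟩ := hex
  have hgfpf : ∀ p : Λ, g • p ≠ p := (Finset.mem_filter.mp hgFP).2
  have hg1 : g ≠ 1 := by
    intro h
    obtain ⟨a, _, _⟩ := S.exists_pair
    exact hgfpf a (by rw [h, one_smul])
  have hginv : g ∉ invs H := by
    intro h
    rw [mem_invs] at h
    obtain ⟨c, hc, -⟩ := S.fix_unique h.1 h.2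
    exact hgfpf c hc
  have hle := card_pairsWith_other hg1 hginv
  have hne : (pairsWith g).Nonempty := by
    rw [← Finset.card_pos]
    omega
  obtain ⟨xy, hxy⟩ := hne
  rw [mem_pairsWith] at hxy
  refine ⟨g, xy.1, xy.2, hxy.1.1, hxy.1.2, hxy.2.symm, hgfpf, ?_⟩
  have hC := card_centralizer_le S hgfpf
  by_cases hSR : SR g
  · rw [if_pos hSR] at hle
    omega
  · rw [if_neg hSR] at hle
    omega

end Fin

section Main

variable {H Λ : Type*} [Group H] [MulAction H Λ] [Finite H] [Finite Λ] {N d : ℕ}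

/-- (A4) the number of fixed-point-free elements -/
theorem card_fpf (S : ASys H Λ N d) :
    2 * Nat.card {g : H // ∀ p : Λ, g • p ≠ p} + 2 * N * N = N * ((N + 1) * (d + 1)) := by
  classical
  haveI := Fintype.ofFinite H
  haveI := Fintype.ofFinite Λ
  rw [Nat.card_eq_fintype_card, Fintype.card_subtype]
  exact card_fpf_finset S

/-- (A1) the number of ordered pairs of involutions with fixed-point-free product -/
theorem card_pairs_fpf (S : ASys H Λ N d) :
    2 * Nat.card {x : H × H // (x.1 ≠ 1 ∧ x.1 * x.1 = 1) ∧ (x.2 ≠ 1 ∧ x.2 * x.2 = 1) ∧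
      ∀ p : Λ, (x.1 * x.2) • p ≠ p} = (N + 1) * N * d * (d + 1) := by
  classical
  haveI := Fintype.ofFinite H
  haveI := Fintype.ofFinite Λ
  rw [Nat.card_eq_fintype_card, Fintype.card_subtype, ← card_pairs_fpf_finset (Λ := Λ) S]
  congr 2
  ext xy
  simp only [Finset.mem_filter, Finset.mem_univ, true_and, Finset.mem_product, mem_invs]
  tauto

/-- (AX) for `N = d + 1` some fixed-point-free element is a product of two involutions and has a
centraliser of order `N + 1` -/
theorem exists_real_fpf (S : ASys H Λ N d) (hN : N = d + 1) :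
    ∃ g j1 j2 : H, (j1 ≠ 1 ∧ j1 * j1 = 1) ∧ (j2 ≠ 1 ∧ j2 * j2 = 1) ∧ g = j1 * j2 ∧
      (∀ p : Λ, g • p ≠ p) ∧ Nat.card (Subgroup.centralizer ({g} : Set H)) = N + 1 := by
  classical
  haveI := Fintype.ofFinite H
  haveI := Fintype.ofFinite Λ
  exact exists_real_fpf_finset S hN

end Main

end Cfsg.Agent.Lib.Helper70.SuzPA
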