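import Mathlib
import Cfsg.Agent.Lib.Helper12.ZassDefs
import Cfsg.Agent.S0016

/-!
# Zassenhaus (S0690), module AT3 — general lemmas (helper70)

Group-theoretic lemmas about groups all of whose abelian subgroups are cyclic
(`AbCyc`): odd Sylow subgroups are cyclic, quotients by normal subgroups containing a
Sylow 2-subgroup are Z-groups, etc.
-/

set_option autoImplicit false

namespace Cfsg.Agent.Lib.Helper70.Zass

open Cfsg.Agent.Lib.Helper12.Zass

/-- In a finite cyclic group, subgroups of equal order are equal. -/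
theorem cyclic_subgroup_unique {Z : Type*} [Group Z] [Finite Z] [IsCyclic Z]
    (U U' : Subgroup Z) (h : Nat.card U = Nat.card U') : U = U' := by
  classical
  have : Fintype Z := Fintype.ofFinite Z
  set n := Nat.card U with hn
  have hn0 : 0 < n := Nat.card_pos
  have hT : ({x : Z | x ^ n = 1} : Set Z).ncard ≤ n := by
    have h1 := IsCyclic.card_pow_eq_one_le (α := Z) hn0
    rw [Set.ncard_eq_toFinset_card']
    convert h1 using 2
    ext x
    simp
  have key : ∀ W : Subgroup Z, Nat.card W = n → (W : Set Z) = {x : Z | x ^ n = 1} := by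
    intro W hW
    apply Set.eq_of_subset_of_ncard_le _ _ (Set.toFinite _)
    · intro x hx
      have := pow_card_eq_one' (G := W) (x := ⟨x, hx⟩)
      rw [hW] at this
      have h2 := congrArg Subtype.val this
      simpa using h2
    · rw [← Nat.card_coe_set_eq (W : Set Z)]
      show _ ≤ Nat.card W
      rw [hW]; exact hT
  exact SetLike.coe_injective ((key U rfl).trans (key U' h.symm).symm)

/-- All abelian subgroups are cyclic. -/
def AbCyc (G : Type*) [Group G] : Prop :=
  ∀ A : Subgroup G, (∀ a ∈ A, ∀ b ∈ A, a * b = b * a) → IsCyclic A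

theorem AbCyc.subgroup {G : Type*} [Group G] (h : AbCyc G) (P : Subgroup G) : AbCyc P := by
  intro A hA
  have h1 : IsCyclic (A.map P.subtype) := by
    apply h
    rintro _ ⟨a, ha, rfl⟩ _ ⟨b, hb, rfl⟩
    have := hA a ha b hb
    simp only [← map_mul, this]
  exact isCyclic_of_surjective _
    (Subgroup.equivMapOfInjective A P.subtype P.subtype_injective).symm.surjective

/-- Two commuting elements of the same prime order generate the same cyclic subgroup. -/
theorem AbCyc.zpowers_eq {G : Type*} [Group G] [Finite G] (cyc : AbCyc G)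
    {p : ℕ} (z g : G) (hz : orderOf z = p) (hg : orderOf g = p)
    (hc : Commute z g) : Subgroup.zpowers z = Subgroup.zpowers g := by
  set A : Subgroup G := Subgroup.closure {z, g} with hA
  have hk : ∀ x ∈ ({z, g} : Set G), ∀ y ∈ ({z, g} : Set G), x * y = y * x := by
    intro x hx y hy
    simp only [Set.mem_insert_iff, Set.mem_singleton_iff] at hx hy
    rcases hx with rfl | rfl <;> rcases hy with rfl | rfl
    · rfl
    · exact hc.eq
    · exact hc.eq.symm
    · rfl
  have hab : ∀ a ∈ A, ∀ b ∈ A, a * b = b * a := by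
    intro a ha b hb
    have := (Subgroup.isMulCommutative_closure hk).is_comm.comm ⟨a, ha⟩ ⟨b, hb⟩
    exact congrArg Subtype.val this
  have hcyc : IsCyclic A := cyc A hab
  have hzA : Subgroup.zpowers z ≤ A := by
    rw [Subgroup.zpowers_le]; exact Subgroup.subset_closure (by simp)
  have hgA : Subgroup.zpowers g ≤ A := by
    rw [Subgroup.zpowers_le]; exact Subgroup.subset_closure (by simp)
  have hU : Nat.card ((Subgroup.zpowers z).subgroupOf A) =
      Nat.card ((Subgroup.zpowers g).subgroupOf A) := by
    rw [Nat.card_congr (Subgroup.subgroupOfEquivOfLe hzA).toEquiv,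
      Nat.card_congr (Subgroup.subgroupOfEquivOfLe hgA).toEquiv, Nat.card_zpowers,
      Nat.card_zpowers, hz, hg]
  have h1 := cyclic_subgroup_unique _ _ hU
  rw [Subgroup.subgroupOf_inj, inf_eq_left.mpr hzA, inf_eq_left.mpr hgA] at h1
  exact h1

/-- In a finite `p`-group whose abelian subgroups are cyclic there is at most one subgroup of
order `p`. -/
theorem AbCyc.uniq_of_isPGroup {G : Type*} [Group G] [Finite G] (cyc : AbCyc G)
    (p : ℕ) [hp : Fact p.Prime] (hG : IsPGroup p G) :
    ∀ H K : Subgroup G, Nat.card H = p → Nat.card K = p → H = K := by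
  have key : ∀ H : Subgroup G, Nat.card H = p → ∃ z : G, z ∈ Subgroup.center G ∧ orderOf z = p ∧
      H = Subgroup.zpowers z := by
    intro H hH
    have hnt : Nontrivial G := by
      have h1 : 1 < Nat.card H := hH ▸ hp.out.one_lt
      have : Nontrivial H := Finite.one_lt_card_iff_nontrivial.mp h1
      obtain ⟨a, b, hab⟩ := this
      exact ⟨⟨a, b, fun h => hab (Subtype.ext h)⟩⟩
    have hcn : Nontrivial (Subgroup.center G) := hG.center_nontrivial
    have hdvd : p ∣ Nat.card (Subgroup.center G) := by
      have hZ : IsPGroup p (Subgroup.center G) := hG.to_subgroup _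
      obtain ⟨k, hk⟩ := (IsPGroup.iff_card).mp hZ
      have h1 : 1 < Nat.card (Subgroup.center G) := Finite.one_lt_card
      rw [hk] at h1 ⊢
      have : k ≠ 0 := by rintro rfl; simp at h1
      exact dvd_pow_self p this
    obtain ⟨z, hz⟩ := exists_prime_orderOf_dvd_card' (G := Subgroup.center G) p hdvd
    refine ⟨(z : G), z.2, by rw [Subgroup.orderOf_coe]; exact hz, ?_⟩
    -- a nontrivial element of H
    have h1 : 1 < Nat.card H := hH ▸ hp.out.one_lt
    have hHnt : Nontrivial H := Finite.one_lt_card_iff_nontrivial.mp h1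
    obtain ⟨g, hg1⟩ := exists_ne (1 : H)
    have hgo : orderOf g = p := by
      have hd : orderOf g ∣ p := hH ▸ orderOf_dvd_natCard g
      rcases (Nat.dvd_prime hp.out).mp hd with h | h
      · exact absurd (orderOf_eq_one_iff.mp h) hg1
      · exact h
    have hgo' : orderOf (g : G) = p := by rw [Subgroup.orderOf_coe]; exact hgo
    have hzo' : orderOf ((z : G)) = p := by rw [Subgroup.orderOf_coe]; exact hz
    have hcomm : Commute (z : G) (g : G) := (Subgroup.mem_center_iff.mp z.2 (g : G)).symm
    have hzg := cyc.zpowers_eq (z : G) (g : G) hzo' hgo' hcomm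
    rw [hzg]
    symm
    apply Subgroup.eq_of_le_of_card_ge
    · rw [Subgroup.zpowers_le]; exact g.2
    · rw [Nat.card_zpowers, hgo', hH]
  intro H K hH hK
  obtain ⟨z, hzc, hzo, rfl⟩ := key H hH
  obtain ⟨z', hzc', hzo', rfl⟩ := key K hK
  exact cyc.zpowers_eq z z' hzo hzo' (Subgroup.mem_center_iff.mp hzc' z)

/-- A finite `p`-group, `p` odd, whose abelian subgroups are cyclic, is cyclic. -/
theorem AbCyc.isCyclic_of_isPGroup {G : Type*} [Group G] [Finite G] (cyc : AbCyc G)
    (p : ℕ) [hp : Fact p.Prime] (hp2 : p ≠ 2) (hG : IsPGroup p G) : IsCyclic G := by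
  rcases Cfsg.Agent.S0016.result p hG (cyc.uniq_of_isPGroup p hG) with h | ⟨h, -⟩
  · exact h
  · exact absurd h hp2

end Cfsg.Agent.Lib.Helper70.Zass
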