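import Mathlib
import Cfsg.Agent.Lib.Helper70.ZassAT3a

/-!
# Zassenhaus (S0690), module AT3 — 2-local lemmas (helper70)
-/

set_option autoImplicit false

namespace Cfsg.Agent.Lib.Helper70.Zass

open Cfsg.Agent.Lib.Helper12.Zass

variable {G : Type*} [Group G]

/-- If conjugation by `w` maps the finite subgroup `Q` into itself, `w` normalises `Q`. -/
theorem mem_normalizer_of_conj_mem [Finite G] (Q : Subgroup G) (w : G)
    (hw : ∀ q ∈ Q, w * q * w⁻¹ ∈ Q) : w ∈ Subgroup.normalizer (Q : Set G) := by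
  rw [Subgroup.mem_normalizer_iff]
  intro g
  refine ⟨hw g, fun hg => ?_⟩
  have hinj : Function.Injective (fun q : Q => (⟨w * q * w⁻¹, hw q q.2⟩ : Q)) := by
    intro a b hab
    have := congrArg Subtype.val hab
    simp only [mul_left_inj, mul_right_inj] at this
    exact Subtype.ext this
  obtain ⟨q, hq⟩ := (Finite.injective_iff_surjective.mp hinj) ⟨_, hg⟩
  have := congrArg Subtype.val hq
  simp only [mul_left_inj, mul_right_inj] at this
  rw [← this]; exact q.2

/-- A subgroup of order 8 in a group of order not divisible by 16 is a Sylow 2-subgroup. -/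
theorem exists_sylow_eq [Finite G] (h16 : ¬ 16 ∣ Nat.card G) (Q : Subgroup G)
    (hQ : Nat.card Q = 8) : ∃ P : Sylow 2 G, (P : Subgroup G) = Q := by
  have hQ2 : IsPGroup 2 Q := IsPGroup.of_card (n := 3) (by rw [hQ]; norm_num)
  obtain ⟨P, hP⟩ := hQ2.exists_le_sylow
  refine ⟨P, ?_⟩
  obtain ⟨k, hk⟩ := (IsPGroup.iff_card).mp P.2
  have h1 : Nat.card (P : Subgroup G) ∣ Nat.card G := Subgroup.card_subgroup_dvd_card _
  have h2 : Nat.card Q ∣ Nat.card (P : Subgroup G) := Subgroup.card_dvd_of_le hP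
  have hk3 : k = 3 := by
    have hk' : Nat.card (P : Subgroup G) = 2 ^ k := hk
    rw [hk', hQ] at h2
    rw [hk'] at h1
    have h3 : 3 ≤ k := by
      have : (2:ℕ) ^ 3 ∣ 2 ^ k := by simpa using h2
      exact (Nat.pow_dvd_pow_iff_le_right (by norm_num)).mp this
    by_contra hne
    have h4 : 4 ≤ k := by omega
    exact h16 (dvd_trans (show (16:ℕ) ∣ 2 ^ k from by
      have : (2:ℕ) ^ 4 ∣ 2 ^ k := pow_dvd_pow 2 h4
      simpa using this) h1)
  symm
  apply Subgroup.eq_of_le_of_card_ge hP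
  have hk' : Nat.card (P : Subgroup G) = 2 ^ k := hk
  rw [hk', hk3, hQ]; norm_num

/-- Lemma Z: a perfect group with all abelian subgroups cyclic has no proper normal subgroup
containing a Sylow 2-subgroup (of order 8). -/
theorem eq_top_of_normal_of_le [Finite G] (cyc : AbCyc G) (hperf : commutator G = ⊤)
    (h16 : ¬ 16 ∣ Nat.card G) (N : Subgroup G) [N.Normal] (Q : Subgroup G)
    (hQ : Nat.card Q = 8) (hQN : Q ≤ N) : N = ⊤ := by
  by_contra hN
  have hnt : Nontrivial (G ⧸ N) := by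
    rw [← Finite.one_lt_card_iff_nontrivial]
    have h1 : N.index ≠ 1 := fun h => hN (Subgroup.index_eq_one.mp h)
    have h0 : N.index ≠ 0 := Subgroup.index_ne_zero_of_finite
    show 1 < N.index
    omega
  have hodd : ¬ 2 ∣ N.index := by
    intro h2
    apply h16
    have h8 : 8 ∣ Nat.card N := hQ ▸ Subgroup.card_dvd_of_le hQN
    have := Nat.mul_dvd_mul h8 h2
    rwa [Subgroup.card_mul_index] at this
  have hZ : IsZGroup (G ⧸ N) := by
    refine ⟨fun p hp P' => ?_⟩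
    have := Fact.mk hp
    by_cases hp2 : p = 2
    · subst hp2
      obtain ⟨k, hk⟩ := (IsPGroup.iff_card).mp P'.2
      have h1 : Nat.card (P' : Subgroup (G ⧸ N)) ∣ Nat.card (G ⧸ N) :=
        Subgroup.card_subgroup_dvd_card _
      have hk' : Nat.card (P' : Subgroup (G ⧸ N)) = 2 ^ k := hk
      have hk0 : k = 0 := by
        by_contra hk0
        apply hodd
        have : (2:ℕ) ∣ 2 ^ k := dvd_pow_self 2 hk0
        rw [hk'] at h1
        exact dvd_trans this h1
      rw [hk0, pow_zero] at hk'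
      have : Subsingleton (P' : Subgroup (G ⧸ N)) :=
        (Nat.card_eq_one_iff_unique.mp hk').1
      exact isCyclic_of_subsingleton
    · obtain ⟨P, rfl⟩ := Sylow.mapSurjective_surjective (QuotientGroup.mk'_surjective N) p P'
      have hPc : IsCyclic (P : Subgroup G) :=
        (cyc.subgroup (P : Subgroup G)).isCyclic_of_isPGroup p hp2 P.2
      exact isCyclic_of_surjective _ ((QuotientGroup.mk' N).subgroupMap_surjective P)
  have hlt := IsZGroup.commutator_lt (G ⧸ N)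
  have htop : commutator (G ⧸ N) = ⊤ := by
    have h1 : Subgroup.map (QuotientGroup.mk' N) (commutator G) = commutator (G ⧸ N) := by
      rw [commutator_def, commutator_def, Subgroup.map_commutator,
        Subgroup.map_top_of_surjective _ (QuotientGroup.mk'_surjective N)]
    rw [← h1, hperf, Subgroup.map_top_of_surjective _ (QuotientGroup.mk'_surjective N)]
  exact (ne_of_lt hlt) htop

/-- L2: no element normalising a Sylow 2-subgroup `Q` (order 8, `16 ∤ |G|`) can invert an element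
of order 3 normalising `Q`. -/
theorem no_invert [Finite G] (h16 : ¬ 16 ∣ Nat.card G) (Q : Subgroup G) (hQ : Nat.card Q = 8)
    (x : G) (hx : orderOf x = 3) (hxQ : ∀ q ∈ Q, x * q * x⁻¹ ∈ Q)
    (w : G) (hwQ : ∀ q ∈ Q, w * q * w⁻¹ ∈ Q) (hw : w * x * w⁻¹ = x⁻¹) : False := by
  obtain ⟨P, hP⟩ := exists_sylow_eq h16 Q hQ
  have hwpos : orderOf w ≠ 0 := (orderOf_pos w).ne'
  obtain ⟨k, m, hm, hn⟩ := Nat.exists_eq_two_pow_mul_odd hwpos
  set q := w ^ m with hq
  have hq2 : q ^ (2 ^ k) = 1 := by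
    rw [hq, ← pow_mul, mul_comm, ← hn, pow_orderOf_eq_one]
  -- `q` normalises `Q`
  have hwN : w ∈ Subgroup.normalizer (Q : Set G) := mem_normalizer_of_conj_mem Q w hwQ
  have hqN : q ∈ Subgroup.normalizer (Q : Set G) := Subgroup.pow_mem _ hwN m
  -- `zpowers q` is a 2-group
  have hq2g : IsPGroup 2 (Subgroup.zpowers q) := by
    have hd : orderOf q ∣ 2 ^ k := orderOf_dvd_of_pow_eq_one hq2
    obtain ⟨j, -, hj⟩ := (Nat.dvd_prime_pow Nat.prime_two).mp hd
    exact IsPGroup.of_card (n := j) (by rw [Nat.card_zpowers, hj])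
  have hqQ : q ∈ Q := by
    have h1 := hq2g.inf_normalizer_sylow P
    have hqN' : q ∈ Subgroup.normalizer ((P : Subgroup G) : Set G) := hP.symm ▸ hqN
    have h2 : q ∈ Subgroup.zpowers q ⊓ (P : Subgroup G) := by
      rw [← h1]
      exact Subgroup.mem_inf.mpr ⟨Subgroup.mem_zpowers q, hqN'⟩
    rw [← hP]; exact (Subgroup.mem_inf.mp h2).2
  -- `q` inverts `x`
  have hc2 : Commute (w ^ 2) x := by
    have : w ^ 2 * x * (w ^ 2)⁻¹ = x := by
      have : w ^ 2 * x * (w ^ 2)⁻¹ = w * (w * x * w⁻¹) * w⁻¹ := by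
        rw [pow_two]; group
      rw [this, hw]
      have : w * x⁻¹ * w⁻¹ = (w * x * w⁻¹)⁻¹ := by group
      rw [this, hw, inv_inv]
    show w ^ 2 * x = x * w ^ 2
    calc w ^ 2 * x = w ^ 2 * x * (w ^ 2)⁻¹ * w ^ 2 := by group
      _ = x * w ^ 2 := by rw [this]
  have hqx : q * x * q⁻¹ = x⁻¹ := by
    obtain ⟨t, ht⟩ := hm
    have hqt : q = (w ^ 2) ^ t * w := by
      rw [hq, ht, pow_succ, pow_mul]
    have hct : Commute ((w ^ 2) ^ t) x⁻¹ := (hc2.pow_left t).inv_right
    calc q * x * q⁻¹ = (w ^ 2) ^ t * (w * x * w⁻¹) * ((w ^ 2) ^ t)⁻¹ := by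
          rw [hqt]; group
      _ = (w ^ 2) ^ t * x⁻¹ * ((w ^ 2) ^ t)⁻¹ := by rw [hw]
      _ = x⁻¹ := by rw [hct.eq]; group
  -- hence `x ∈ Q`
  have hxmem : x ∈ Q := by
    have h1 : x * q⁻¹ * x⁻¹ ∈ Q := hxQ _ (Q.inv_mem hqQ)
    have h2 : q * (x * q⁻¹ * x⁻¹) ∈ Q := Q.mul_mem hqQ h1
    have h3 : q * (x * q⁻¹ * x⁻¹) = x⁻¹ * x⁻¹ := by
      calc q * (x * q⁻¹ * x⁻¹) = (q * x * q⁻¹) * x⁻¹ := by group
        _ = x⁻¹ * x⁻¹ := by rw [hqx]
    have h4 : x⁻¹ * x⁻¹ = x := by
      have : x ^ 3 = 1 := hx ▸ pow_orderOf_eq_one x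
      calc x⁻¹ * x⁻¹ = x⁻¹ * x⁻¹ * x ^ 3 := by rw [this, mul_one]
        _ = x := by group
    rw [h3, h4] at h2
    exact h2
  have hd : orderOf x ∣ Nat.card Q := Subgroup.orderOf_dvd_natCard Q hxmem
  rw [hx, hQ] at hd
  omega

end Cfsg.Agent.Lib.Helper70.Zass
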