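import Mathlib
import Cfsg.Agent.Lib.Helper70.ZassAT3b
import Cfsg.Agent.S3378

/-!
# Zassenhaus (S0690), module AT3 (helper70)

`at3`: a perfect group satisfying `Free3`, of order not divisible by 16, in which every element of
order 3 normalises nontrivially a subgroup of order 8, is isomorphic to `SL(2,5)`.
-/

set_option autoImplicit false

namespace Cfsg.Agent.Lib.Helper70.Zass

open Cfsg.Agent.Lib.Helper12.Zass

variable {G : Type*} [Group G]

/-- An element `x` with `x ^ 3 = 1` normalising a cyclic subgroup of order 1, 2 or 4 centralises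
it. -/
theorem commute_of_small_cyclic [Finite G] (R : Subgroup G) [IsCyclic R]
    (hR : Nat.card R = 1 ∨ Nat.card R = 2 ∨ Nat.card R = 4) (x : G) (hx3 : x ^ 3 = 1)
    (hxR : ∀ r ∈ R, x * r * x⁻¹ ∈ R) : ∀ r ∈ R, x * r * x⁻¹ = r := by
  have hxN : x ∈ Subgroup.normalizer (R : Set G) := mem_normalizer_of_conj_mem R x hxR
  set x' : Subgroup.normalizer (R : Set G) := ⟨x, hxN⟩ with hx'
  set φ : MulAut R := R.normalizerMonoidHom x' with hφ
  have hφ3 : φ ^ 3 = 1 := by
    rw [hφ, ← map_pow]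
    have : x' ^ 3 = 1 := Subtype.ext (by simpa using hx3)
    rw [this, map_one]
  have h1 : orderOf φ ∣ 3 := orderOf_dvd_of_pow_eq_one hφ3
  have hcard : Nat.card (MulAut R) = Nat.totient (Nat.card R) := IsCyclic.card_mulAut R
  have hfin : Finite (MulAut R) := by
    apply Nat.finite_of_card_ne_zero
    rw [hcard]
    rcases hR with h | h | h <;> rw [h] <;> decide
  have h2 : orderOf φ ∣ Nat.totient (Nat.card R) := hcard ▸ orderOf_dvd_natCard φ
  have h3 : orderOf φ = 1 := by
    rcases hR with h | h | h <;> rw [h] at h2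
    · have : Nat.totient 1 = 1 := by decide
      rw [this] at h2; exact Nat.dvd_one.mp h2
    · have : Nat.totient 2 = 1 := by decide
      rw [this] at h2; exact Nat.dvd_one.mp h2
    · have : Nat.totient 4 = 2 := by decide
      rw [this] at h2
      have := Nat.dvd_gcd h1 h2
      simpa using this
  have hφ1 : φ = 1 := orderOf_eq_one_iff.mp h3
  intro r hr
  have := congrArg (fun ψ : MulAut R => ((ψ ⟨r, hr⟩ : R) : G)) hφ1
  simpa [hφ, hx'] using this

/-- Claim A: a subgroup `Q` with `QSub x Q` lies in every normal subgroup containing `x`. -/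
theorem qsub_le_normal [Finite G] (h : Free3 G) (x : G) (hx : orderOf x = 3) (Q : Subgroup G)
    (hQ : QSub x Q) (L : Subgroup G) [hL : L.Normal] (hxL : x ∈ L) : Q ≤ L := by
  by_contra hne
  obtain ⟨hQ8, hQn, q₀, hq₀, hq₀x⟩ := hQ
  have hx3 : x ^ 3 = 1 := hx ▸ pow_orderOf_eq_one x
  set R : Subgroup G := L ⊓ Q with hR
  have hRQ : R ≤ Q := inf_le_right
  have hRne : R ≠ Q := fun h' => hne (h' ▸ inf_le_left)
  have hdvd : Nat.card R ∣ 8 := hQ8 ▸ Subgroup.card_dvd_of_le hRQ
  have hne8 : Nat.card R ≠ 8 := by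
    intro h8
    exact hRne (Subgroup.eq_of_le_of_card_ge hRQ (by rw [h8, hQ8]))
  have hcases : Nat.card R = 1 ∨ Nat.card R = 2 ∨ Nat.card R = 4 := by
    have hmem : Nat.card R ∈ Nat.divisors 8 := Nat.mem_divisors.mpr ⟨hdvd, by norm_num⟩
    have hdiv : Nat.divisors 8 = {1, 2, 4, 8} := by decide
    rw [hdiv] at hmem
    simp only [Finset.mem_insert, Finset.mem_singleton] at hmem
    rcases hmem with h1 | h1 | h1 | h1
    · exact Or.inl h1
    · exact Or.inr (Or.inl h1)
    · exact Or.inr (Or.inr h1)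
    · exact absurd h1 hne8
  -- `R` is abelian, hence cyclic
  have hab : ∀ a ∈ R, ∀ b ∈ R, a * b = b * a := by
    have key : ∀ a b : R, a * b = b * a := by
      rcases hcases with h1 | h1 | h1
      · have : Subsingleton R := (Nat.card_eq_one_iff_unique.mp h1).1
        intro a b; exact Subsingleton.elim _ _
      · have hp : Fact (Nat.Prime 2) := ⟨Nat.prime_two⟩
        have : IsCyclic R := isCyclic_of_prime_card h1
        intro a b
        exact (IsCyclic.isMulCommutative (α := R)).is_comm.comm a b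
      · have hp : Fact (Nat.Prime 2) := ⟨Nat.prime_two⟩
        have hc : IsMulCommutative R :=
          IsPGroup.isMulCommutative_of_card_eq_prime_sq (p := 2) (by rw [h1]; norm_num)
        intro a b
        exact hc.is_comm.comm a b
    intro a ha b hb
    exact congrArg Subtype.val (key ⟨a, ha⟩ ⟨b, hb⟩)
  have hcyc : IsCyclic R := h.cyc R hab
  have hxR : ∀ r ∈ R, x * r * x⁻¹ ∈ R := by
    intro r hr
    exact Subgroup.mem_inf.mpr ⟨hL.conj_mem r (Subgroup.mem_inf.mp hr).1 x,
      hQn r (Subgroup.mem_inf.mp hr).2⟩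
  have hcent := commute_of_small_cyclic R hcases x hx3 hxR
  -- `x` acts trivially on `Q / R`
  have hcomm : ∀ q ∈ Q, x * q * x⁻¹ * q⁻¹ ∈ R := by
    intro q hq
    refine Subgroup.mem_inf.mpr ⟨?_, Q.mul_mem (hQn q hq) (Q.inv_mem hq)⟩
    have h1 : q * x⁻¹ * q⁻¹ ∈ L := hL.conj_mem _ (L.inv_mem hxL) q
    have h2 : x * (q * x⁻¹ * q⁻¹) ∈ L := L.mul_mem hxL h1
    have : x * (q * x⁻¹ * q⁻¹) = x * q * x⁻¹ * q⁻¹ := by group
    rwa [this] at h2
  -- so `x` centralises `Q`
  apply hq₀x
  set r := x * q₀ * x⁻¹ * q₀⁻¹ with hr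
  have hrR : r ∈ R := hcomm q₀ hq₀
  have hrx : x * r * x⁻¹ = r := hcent r hrR
  have hxq : x * q₀ * x⁻¹ = r * q₀ := by rw [hr]; group
  have e1 : x * (x * q₀ * x⁻¹) * x⁻¹ = r * r * q₀ := by
    calc x * (x * q₀ * x⁻¹) * x⁻¹ = x * (r * q₀) * x⁻¹ := by rw [hxq]
      _ = (x * r * x⁻¹) * (x * q₀ * x⁻¹) := by group
      _ = r * (r * q₀) := by rw [hrx, hxq]
      _ = r * r * q₀ := by group
  have e2 : x * (x * (x * q₀ * x⁻¹) * x⁻¹) * x⁻¹ = r * r * r * q₀ := by
    calc x * (x * (x * q₀ * x⁻¹) * x⁻¹) * x⁻¹ = x * (r * r * q₀) * x⁻¹ := by rw [e1]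
      _ = (x * r * x⁻¹) * (x * r * x⁻¹) * (x * q₀ * x⁻¹) := by group
      _ = r * r * (r * q₀) := by rw [hrx, hxq]
      _ = r * r * r * q₀ := by group
  have hxxx : x * x * x = 1 := by
    rw [← hx3, pow_succ, pow_succ, pow_one]
  have e3 : x * (x * (x * q₀ * x⁻¹) * x⁻¹) * x⁻¹ = q₀ := by
    calc x * (x * (x * q₀ * x⁻¹) * x⁻¹) * x⁻¹ = (x * x * x) * q₀ * (x * x * x)⁻¹ := by group
      _ = q₀ := by rw [hxxx]; simp
  have hr3 : r ^ 3 = 1 := by
    have h' : r * r * r * q₀ = 1 * q₀ := by rw [one_mul, ← e2, e3]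
    have := mul_right_cancel h'
    rw [pow_succ, pow_succ, pow_one]; exact this
  have hr8 : r ^ 8 = 1 := by
    have hrQ : r ∈ Q := hRQ hrR
    have := pow_card_eq_one' (G := Q) (x := ⟨r, hrQ⟩)
    rw [hQ8] at this
    have h2 := congrArg Subtype.val this
    simpa using h2
  have hr1 : r = 1 := by
    calc r = (r ^ 3) ^ 3 * (r ^ 8)⁻¹ := by group
      _ = 1 := by rw [hr3, hr8]; simp
  rw [hxq, hr1, one_mul]

/-- **Module AT3 of S0690** (statement of helper12, board #1821). -/
theorem at3 {G : Type*} [Group G] [Finite G] (h : Free3 G) (hperf : commutator G = ⊤)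
    (h16 : ¬ 16 ∣ Nat.card G) (x : G) (hx : orderOf x = 3)
    (hQ : ∀ y : G, orderOf y = 3 → ∃ Q : Subgroup G, QSub y Q) :
    Nonempty (G ≃* Matrix.SpecialLinearGroup (Fin 2) (ZMod 5)) := by
  have cyc : AbCyc G := h.cyc
  obtain ⟨Q₁, hQ₁⟩ := hQ x hx
  have hx1 : x ≠ 1 := by rintro rfl; simp at hx
  have hnt : Nontrivial G := ⟨⟨x, 1, hx1⟩⟩
  -- the subgroup generated by the elements of order 3
  set S : Set G := {y | orderOf y = 3} with hS
  set L : Subgroup G := Subgroup.normalClosure S with hL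
  have hxL : x ∈ L := Subgroup.subset_normalClosure hx
  have hQ₁L : Q₁ ≤ L := qsub_le_normal h x hx Q₁ hQ₁ L hxL
  have hLtop : L = ⊤ := eq_top_of_normal_of_le cyc hperf h16 L Q₁ hQ₁.1 hQ₁L
  -- the subgroup generated by `x` and the members of `𝒬(x)`
  set Hx : Subgroup G :=
    Subgroup.closure ({x} ∪ {q | ∃ Q : Subgroup G, QSub x Q ∧ q ∈ Q}) with hHx
  have hxHx : x ∈ Hx := Subgroup.subset_closure (Or.inl rfl)
  have hHxtop : Hx = ⊤ := by
    rw [eq_top_iff, ← hLtop, hL, Subgroup.normalClosure, Subgroup.closure_le]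
    intro a ha
    obtain ⟨b, hb, hconj⟩ := Group.mem_conjugatesOfSet_iff.mp ha
    have hao : orderOf a = 3 := by
      obtain ⟨c, hc⟩ := isConj_iff.mp hconj
      have h1 : orderOf (c * b * c⁻¹) = orderOf b := by
        rw [← MulAut.conj_apply]
        exact orderOf_injective (MulAut.conj c).toMonoidHom (MulAut.conj c).injective b
      rw [← hc, h1]; exact hb
    by_cases haz : a ∈ Subgroup.zpowers x
    · exact (Subgroup.zpowers_le.mpr hxHx) haz
    · exact h.e5 x a hx hao haz
  by_cases hA : ∀ Q : Subgroup G, QSub x Q → Q = Q₁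
  · -- only one member: `Q₁` is normal, impossible
    exfalso
    have hle : Hx ≤ Subgroup.normalizer (Q₁ : Set G) := by
      rw [hHx, Subgroup.closure_le]
      rintro a (ha | ⟨Q, hQx, haQ⟩)
      · rw [Set.mem_singleton_iff] at ha
        rw [ha]
        exact mem_normalizer_of_conj_mem Q₁ x hQ₁.2.1
      · rw [hA Q hQx] at haQ
        exact Subgroup.le_normalizer haQ
    have hN : Subgroup.normalizer (Q₁ : Set G) = ⊤ := by
      rw [eq_top_iff, ← hHxtop]; exact hle
    have hnorm : Q₁.Normal := Subgroup.normalizer_eq_top_iff.mp hN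
    have htop := eq_top_of_normal_of_le cyc hperf h16 Q₁ Q₁ hQ₁.1 le_rfl
    have hxQ : x ∈ Q₁ := htop ▸ Subgroup.mem_top x
    have hd := Subgroup.orderOf_dvd_natCard Q₁ hxQ
    rw [hx, hQ₁.1] at hd
    omega
  · push Not at hA
    obtain ⟨Q₂, hQ₂, hne21⟩ := hA
    by_cases hB : ∀ Q : Subgroup G, QSub x Q → Q = Q₁ ∨ Q = Q₂
    · -- exactly two members: `|G| = 120`
      have hle : Hx ≤ Q₁ ⊔ Q₂ ⊔ Subgroup.zpowers x := by
        rw [hHx, Subgroup.closure_le]
        rintro a (ha | ⟨Q, hQx, haQ⟩)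
        · rw [Set.mem_singleton_iff] at ha
          rw [ha]
          exact (le_sup_right : Subgroup.zpowers x ≤ Q₁ ⊔ Q₂ ⊔ Subgroup.zpowers x)
            (Subgroup.mem_zpowers x)
        · rcases hB Q hQx with hq | hq
          · rw [hq] at haQ
            exact (le_sup_left : Q₁ ⊔ Q₂ ≤ Q₁ ⊔ Q₂ ⊔ Subgroup.zpowers x)
              ((le_sup_left : Q₁ ≤ Q₁ ⊔ Q₂) haQ)
          · rw [hq] at haQ
            exact (le_sup_left : Q₁ ⊔ Q₂ ≤ Q₁ ⊔ Q₂ ⊔ Subgroup.zpowers x)
              ((le_sup_right : Q₂ ≤ Q₁ ⊔ Q₂) haQ)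
      have htop : Q₁ ⊔ Q₂ ⊔ Subgroup.zpowers x = ⊤ := by
        rw [eq_top_iff, ← hHxtop]; exact hle
      have hcard : Nat.card G = 120 := by
        have h1 := (h.e8 x Q₁ Q₂ hx hQ₁ hQ₂ (Ne.symm hne21)).1
        rw [htop] at h1
        rwa [Subgroup.card_top] at h1
      have hns : ¬ Group.IsSolvable G := by
        intro hs
        have := Group.IsSolvable.commutator_lt_top_of_nontrivial G
        exact (ne_of_lt this) hperf
      refine Cfsg.Agent.S3378.result.1 G hcard hns ?_
      intro P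
      obtain ⟨P₁, hP₁⟩ := exists_sylow_eq h16 Q₁ hQ₁.1
      have hP8 : Nat.card (P : Subgroup G) = 8 := by
        have h1 := P.card_eq_multiplicity
        have h2 := P₁.card_eq_multiplicity
        have h3 : Nat.card (P₁ : Subgroup G) = 8 := by rw [hP₁]; exact hQ₁.1
        rw [h1, ← h2]; exact h3
      have hp2 : Fact (Nat.Prime 2) := ⟨Nat.prime_two⟩
      have huniq : ∀ H K : Subgroup (P : Subgroup G), Nat.card H = 2 → Nat.card K = 2 →
          H = K := by
        have ord2 : ∀ H : Subgroup (P : Subgroup G), Nat.card H = 2 → ∀ a ∈ H, a ≠ 1 →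
            orderOf ((a : (P : Subgroup G)) : G) = 2 := by
          intro H hH a ha ha1
          have hd : orderOf (⟨a, ha⟩ : H) ∣ 2 := by
            have hd' := orderOf_dvd_natCard (⟨a, ha⟩ : H)
            rwa [hH] at hd'
          have he : orderOf (⟨a, ha⟩ : H) = orderOf a := Subgroup.orderOf_mk a ha
          rw [he] at hd
          rw [Subgroup.orderOf_coe]
          rcases (Nat.dvd_prime Nat.prime_two).mp hd with h1 | h1
          · exact absurd (orderOf_eq_one_iff.mp h1) ha1
          · exact h1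
        have key : ∀ H : Subgroup (P : Subgroup G), Nat.card H = 2 →
            ∀ K : Subgroup (P : Subgroup G), Nat.card K = 2 → H ≤ K := by
          intro H hH K hK a ha
          by_cases ha1 : a = 1
          · rw [ha1]; exact K.one_mem
          · have hKnt : Nontrivial K :=
              Finite.one_lt_card_iff_nontrivial.mp (by rw [hK]; norm_num)
            obtain ⟨b, hb1⟩ := exists_ne (1 : K)
            have hb1' : (b : (P : Subgroup G)) ≠ 1 := fun hb => hb1 (Subtype.ext hb)
            have hab : ((a : (P : Subgroup G)) : G) = (((b : (P : Subgroup G))) : G) :=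
              h.inv _ _ (ord2 H hH a ha ha1) (ord2 K hK b b.2 hb1')
            have : a = (b : (P : Subgroup G)) := Subtype.ext hab
            rw [this]; exact b.2
        intro H K hH hK
        exact le_antisymm (key H hH K hK) (key K hK H hH)
      rcases Cfsg.Agent.S0016.result 2 P.2 huniq with hc | ⟨-, n, ⟨e⟩⟩
      · -- cyclic Sylow 2-subgroup: `G` would be a Z-group
        exfalso
        have hZ : IsZGroup G := by
          refine ⟨fun p hp P' => ?_⟩
          have := Fact.mk hp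
          by_cases hp2' : p = 2
          · subst hp2'
            exact isCyclic_of_surjective _ (Sylow.equiv P P').surjective
          · exact (cyc.subgroup (P' : Subgroup G)).isCyclic_of_isPGroup p hp2' P'.2
        exact (ne_of_lt (IsZGroup.commutator_lt G)) hperf
      · have hn : n = 1 := by
          have hc := Nat.card_congr e.toEquiv
          rw [hP8] at hc
          have h4 : Nat.card (QuaternionGroup (2 ^ n)) = 4 * 2 ^ n := by
            rw [Nat.card_eq_fintype_card, QuaternionGroup.card]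
          rw [h4] at hc
          have h5 : 2 ^ n = 2 ^ 1 := by omega
          exact Nat.pow_right_injective (le_refl 2) h5
        subst hn
        exact ⟨e⟩
    · -- three members: contradiction
      exfalso
      push Not at hB
      obtain ⟨Q₃, hQ₃, hne31, hne32⟩ := hB
      obtain ⟨-, u12, hu12x, hu12a, hu12b⟩ := h.e8 x Q₁ Q₂ hx hQ₁ hQ₂ (Ne.symm hne21)
      obtain ⟨-, u23, hu23x, hu23a, hu23b⟩ := h.e8 x Q₂ Q₃ hx hQ₂ hQ₃ (Ne.symm hne32)
      obtain ⟨-, u31, hu31x, hu31a, hu31b⟩ := h.e8 x Q₃ Q₁ hx hQ₃ hQ₁ hne31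
      refine no_invert h16 Q₁ hQ₁.1 x hx hQ₁.2.1 (u12 * u23 * u31) ?_ ?_
      · intro q hq
        have h1 := hu31b q hq
        have h2 := hu23b _ h1
        have h3 := hu12b _ h2
        have he : u12 * u23 * u31 * q * (u12 * u23 * u31)⁻¹ =
            u12 * (u23 * (u31 * q * u31⁻¹) * u23⁻¹) * u12⁻¹ := by group
        rw [he]; exact h3
      · calc u12 * u23 * u31 * x * (u12 * u23 * u31)⁻¹
            = u12 * (u23 * (u31 * x * u31⁻¹) * u23⁻¹) * u12⁻¹ := by group
          _ = u12 * (u23 * x⁻¹ * u23⁻¹) * u12⁻¹ := by rw [hu31x]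
          _ = u12 * (u23 * x * u23⁻¹)⁻¹ * u12⁻¹ := by group
          _ = u12 * x * u12⁻¹ := by rw [hu23x, inv_inv]
          _ = x⁻¹ := hu12x

end Cfsg.Agent.Lib.Helper70.Zass
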