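import Mathlib
import Cfsg.Agent.Lib.Helper12.ZassLin3

/-!
# Zassenhaus (S0690), module L4 (`lin_app4`), conditional on module G4 (helper70)

`lin_app4_of`: the `app4` field of `Free3` for a free linear group, with the statement of
helper67's `gamma_meet` (module G4) as a hypothesis `GammaMeet`.
-/

set_option autoImplicit false
set_option linter.unusedSectionVars false

namespace Cfsg.Agent.Lib.Helper70.ZassL4

open Cfsg.Agent.Lib.Helper12.Zass Cfsg.Agent.Lib.Helper12.ZassLin Cfsg.Agent.Lib.Helper12.TwoDim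

/-- statement of module G4 (`gamma_meet`) -/
def GammaMeet : Prop :=
  ∀ {Γ : Type} [Group Γ], DL Γ → ∀ (σ₁ σ₂ : Γ), orderOf σ₁ = 3 → orderOf σ₂ = 3 →
    ∀ (V₁ V₂ : Subgroup Γ), VSub σ₁ V₁ → VSub σ₂ V₂ → V₁ ≠ V₂ →
    ∀ ι : Γ, ι ∈ V₁ → ι ∈ V₂ → ι ≠ 1 → False

variable {p : ℕ} [Fact p.Prime] {V : Type*} [AddCommGroup V] [Module (ZMod p) V]

/-- if a subalgebra contains `en i`, `en j`, it contains `en q` for all `q` in the quaternion
list -/
theorem en_mem_of_list (𝔄 : Subalgebra (ZMod p) (Module.End (ZMod p) V))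
    {Q : Subgroup (V ≃ₗ[ZMod p] V)} {i j : V ≃ₗ[ZMod p] V} (hI : en i ∈ 𝔄) (hJ : en j ∈ 𝔄)
    (hmem : ∀ q ∈ Q, q = 1 ∨ q = zz ∨ q = i ∨ q = zz * i ∨ q = j ∨ q = zz * j ∨ q = i * j ∨
      q = zz * (i * j)) : ∀ q ∈ Q, en q ∈ 𝔄 := by
  have hneg : (-1 : Module.End (ZMod p) V) ∈ 𝔄 := 𝔄.neg_mem 𝔄.one_mem
  intro q hq
  rcases hmem q hq with h | h | h | h | h | h | h | h <;> rw [h]
  · rw [en_one]; exact 𝔄.one_mem
  · rw [en_zz]; exact hneg
  · exact hI
  · rw [en_mul, en_zz]; exact 𝔄.mul_mem hneg hI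
  · exact hJ
  · rw [en_mul, en_zz]; exact 𝔄.mul_mem hneg hJ
  · rw [en_mul]; exact 𝔄.mul_mem hI hJ
  · rw [en_mul, en_zz, en_mul]; exact 𝔄.mul_mem hneg (𝔄.mul_mem hI hJ)

section
variable [Finite V] {X : Subgroup (V ≃ₗ[ZMod p] V)}

/-- the element of order three lies in any subalgebra containing `en q`, `q ∈ Q` -/
theorem en_mem_of_qsub (hX : IsFree X) (𝔄 : Subalgebra (ZMod p) (Module.End (ZMod p) V))
    {x : V ≃ₗ[ZMod p] V} (hx : x ∈ X) (hx3 : x ^ 3 = 1) (hx1 : x ≠ 1)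
    {Q : Subgroup (V ≃ₗ[ZMod p] V)} (hQX : Q ≤ X) (hQ : QSub x Q)
    (hQ𝔄 : ∀ q ∈ Q, en q ∈ 𝔄) : en x ∈ 𝔄 := by
  obtain ⟨i₀, j₀, hqd⟩ := exists_qdata hX hx3 hQX hQ
  have h2 := two_x_eq hX hx hx3 hx1 hQX hqd
  have h20 := two_ne_zero_of_zz hqd.z1
  have hI := hQ𝔄 _ hqd.hi
  have hJ := hQ𝔄 _ hqd.hj
  have hsum : en x + en x = -(1 + en i₀ + en j₀ + en i₀ * en j₀) := by
    rw [eq_neg_iff_add_eq_zero, ← h2]; abel
  have hmem : en x + en x ∈ 𝔄 := by
    rw [hsum]
    exact 𝔄.neg_mem (𝔄.add_mem (𝔄.add_mem (𝔄.add_mem 𝔄.one_mem hI) hJ) (𝔄.mul_mem hI hJ))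
  have hxx : en x = (2 : ZMod p)⁻¹ • (en x + en x) := by
    rw [← two_smul (ZMod p) (en x), smul_smul, inv_mul_cancel₀ h20, one_smul]
  rw [hxx]
  exact 𝔄.smul_mem hmem _

/-- anticommuting automorphisms do not commute (when `2 ≠ 0`) -/
theorem ne_of_anticomm (h20 : (2 : ZMod p) ≠ 0) (h10 : (1 : Module.End (ZMod p) V) ≠ 0)
    {q t : V ≃ₗ[ZMod p] V} (h : en q * en t = -(en t * en q)) : q * t ≠ t * q := by
  intro hc
  have e : en q * en t = en t * en q := by rw [← en_mul, ← en_mul, hc]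
  rw [h] at e
  have e2 : (2 : ZMod p) • (en t * en q) = 0 := by
    rw [two_smul]; nth_rewrite 1 [← e]; simp
  have e3 : en t * en q = 0 := (smul_eq_zero.mp e2).resolve_left h20
  have e4 : en (t * q) * en (t * q)⁻¹ = 1 := en_mul_inv _
  rw [en_mul, e3, zero_mul] at e4
  exact h10 e4.symm

/-- a non-central element of the quaternion list fails to commute with `i` or `j` -/
theorem exists_noncomm_of_list (h20 : (2 : ZMod p) ≠ 0) (h10 : (1 : Module.End (ZMod p) V) ≠ 0)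
    {Q : Subgroup (V ≃ₗ[ZMod p] V)} {i j : V ≃ₗ[ZMod p] V}
    (hJI : en j * en i = -(en i * en j))
    (hmem : ∀ q ∈ Q, q = 1 ∨ q = zz ∨ q = i ∨ q = zz * i ∨ q = j ∨ q = zz * j ∨ q = i * j ∨
      q = zz * (i * j)) :
    ∀ q ∈ Q, q ≠ 1 → q ≠ zz → q * i ≠ i * q ∨ q * j ≠ j * q := by
  have hIJ : en i * en j = -(en j * en i) := by rw [hJI, neg_neg]
  intro q hq hq1 hqz
  rcases hmem q hq with h | h | h | h | h | h | h | h
  · exact absurd h hq1
  · exact absurd h hqz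
  · right; rw [h]; exact ne_of_anticomm h20 h10 hIJ
  · right; rw [h]
    apply ne_of_anticomm h20 h10
    rw [en_mul, en_zz]
    calc -1 * en i * en j = -(en i * en j) := by noncomm_ring
      _ = -(-(en j * en i)) := by rw [hIJ]
      _ = -(en j * (-1 * en i)) := by noncomm_ring
  · left; rw [h]; exact ne_of_anticomm h20 h10 hJI
  · left; rw [h]
    apply ne_of_anticomm h20 h10
    rw [en_mul, en_zz]
    calc -1 * en j * en i = -(en j * en i) := by noncomm_ring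
      _ = -(-(en i * en j)) := by rw [hJI]
      _ = -(en i * (-1 * en j)) := by noncomm_ring
  · left; rw [h]
    apply ne_of_anticomm h20 h10
    rw [en_mul]
    calc en i * en j * en i = en i * (en j * en i) := by rw [mul_assoc]
      _ = en i * (-(en i * en j)) := by rw [hJI]
      _ = -(en i * (en i * en j)) := by noncomm_ring
  · left; rw [h]
    apply ne_of_anticomm h20 h10
    rw [en_mul, en_zz, en_mul]
    calc -1 * (en i * en j) * en i = -(en i * (en j * en i)) := by noncomm_ring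
      _ = -(en i * (-(en i * en j))) := by rw [hJI]
      _ = -(en i * (-1 * (en i * en j))) := by noncomm_ring

/-- elements squaring to `-1` are not `±1` -/
theorem ne_one_of_sq (h20 : (2 : ZMod p) ≠ 0) (h10 : (1 : Module.End (ZMod p) V) ≠ 0)
    {r : V ≃ₗ[ZMod p] V} (h : en r * en r = -1) : r ≠ 1 ∧ r ≠ zz := by
  have hne : (1 : Module.End (ZMod p) V) ≠ -1 := by
    intro h1
    have e2 : (2 : ZMod p) • (1 : Module.End (ZMod p) V) = 0 := by
      rw [two_smul]; nth_rewrite 1 [h1]; simp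
    exact h10 ((smul_eq_zero.mp e2).resolve_left h20)
  constructor
  · rintro rfl
    rw [en_one, one_mul] at h
    exact hne h
  · rintro rfl
    rw [en_zz] at h
    apply hne
    simpa using h

end

end Cfsg.Agent.Lib.Helper70.ZassL4
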