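import Mathlib
import Cfsg.Agent.Lib.Helper70.ZassL4a

/-!
# Zassenhaus (S0690), module L4 (`lin_app4`), conditional on module G4 (helper70)
-/

set_option autoImplicit false
set_option maxHeartbeats 800000

namespace Cfsg.Agent.Lib.Helper70.ZassL4

open Cfsg.Agent.Lib.Helper12.Zass Cfsg.Agent.Lib.Helper12.ZassLin Cfsg.Agent.Lib.Helper12.TwoDim
open Polynomial

variable {p : ℕ} [Fact p.Prime] {V : Type*} [AddCommGroup V] [Module (ZMod p) V]
variable [Finite V] {X : Subgroup (V ≃ₗ[ZMod p] V)}

/-- Step 1 of L4: `a j a⁻¹ = a² j`. -/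
theorem conj_eq_mul (hX : IsFree X) {x a j i : V ≃ₗ[ZMod p] V} (ha : a ∈ X)
    {Q : Subgroup (V ≃ₗ[ZMod p] V)} (hQX : Q ≤ X) (hx3 : x ^ 3 = 1) (hQ : QSub x Q)
    (hiaa : i = a * a) (haQ : ∀ q ∈ Q, a * q * a⁻¹ ∈ Q) (ha2 : i ∈ Q) (hj : j ∈ Q)
    (hnc : i * j ≠ j * i) : a * j * a⁻¹ = i * j := by
  obtain ⟨hII, hJJ, hJI, hmemQ⟩ := mem_of_noncomm hX hx3 hQX hQ ha2 hj hnc
  have hIA : en i = en a * en a := by rw [hiaa, en_mul]
  have hai : a * i * a⁻¹ = i := by rw [hiaa]; group
  have hconj_inj : ∀ g h : V ≃ₗ[ZMod p] V, a * g * a⁻¹ = a * h * a⁻¹ → g = h := by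
    intro g h hgh; simpa using hgh
  have hcomm_false : a * j = j * a → False := by
    intro hc
    apply hnc
    rw [hiaa]
    calc a * a * j = a * (a * j) := by rw [mul_assoc]
      _ = a * (j * a) := by rw [hc]
      _ = (a * j) * a := by rw [mul_assoc]
      _ = j * a * a := by rw [hc]
      _ = j * (a * a) := by rw [mul_assoc]
  rcases hmemQ _ (haQ j hj) with h | h | h | h | h | h | h | h
  · exfalso
    have : j = 1 := hconj_inj j 1 (by rw [h]; simp)
    exact hnc (by rw [this]; simp)
  · exfalso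
    have : j = zz := hconj_inj j zz (by rw [h, conj_zz])
    exact hnc (by rw [this, zz_comm])
  · exfalso
    have : j = i := hconj_inj j i (by rw [h, hai])
    exact hnc (by rw [this])
  · exfalso
    have : j = zz * i := hconj_inj j (zz * i) (by rw [h, conj_zz_mul, hai])
    exact hnc (by rw [this, ← mul_assoc, ← zz_comm i, mul_assoc])
  · exfalso
    apply hcomm_false
    have := congrArg (· * a) h
    simpa [mul_assoc] using this
  · exfalso
    apply hnc
    have h2 : a * (a * j * a⁻¹) * a⁻¹ = j := by rw [h, conj_zz_mul, h, zz_zz_mul]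
    have h3 : i * j * i⁻¹ = a * (a * j * a⁻¹) * a⁻¹ := by rw [hiaa]; group
    rw [h2] at h3
    exact mul_inv_eq_iff_eq_mul.mp h3
  · exact h
  · exfalso
    have hAJ : en a * en j = -(en i * en j) * en a := by
      have := en_conj h
      rw [this, en_mul, en_zz, en_mul]; noncomm_ring
    have hsq : (j * a) * (j * a) = 1 := by
      apply en_injective
      rw [en_mul, en_mul, en_one]
      calc en j * en a * (en j * en a) = en j * (en a * en j) * en a := by noncomm_ring
        _ = en j * (-(en i * en j) * en a) * en a := by rw [hAJ]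
        _ = -((en j * en i) * en j) * (en a * en a) := by noncomm_ring
        _ = -((-(en i * en j)) * en j) * en i := by rw [hJI, ← hIA]
        _ = (en i * (en j * en j)) * en i := by noncomm_ring
        _ = 1 := by rw [hJJ]; simp [hII]
    have hja : j * a ∈ X := X.mul_mem (hQX hj) ha
    apply hcomm_false
    by_cases h1 : j * a = 1
    · have : a = j⁻¹ := eq_inv_of_mul_eq_one_right h1
      rw [this]; simp
    · have h2 := hX.eq_zz hja h1 hsq
      have : a = j⁻¹ * zz := eq_inv_mul_of_mul_eq h2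
      have e1 : j⁻¹ * zz * j = zz := by
        rw [mul_assoc, zz_comm j, ← mul_assoc, inv_mul_cancel, one_mul]
      have e2 : j * (j⁻¹ * zz) = zz := by rw [← mul_assoc, mul_inv_cancel, one_mul]
      rw [this, e1, e2]

end Cfsg.Agent.Lib.Helper70.ZassL4
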