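import Mathlib
import Cfsg.Agent.Lib.Helper70.ZassL4b

/-!
# Zassenhaus (S0690), module L4 (`lin_app4`), conditional on module G4 (helper70)
-/

set_option autoImplicit false
set_option maxHeartbeats 1600000

namespace Cfsg.Agent.Lib.Helper70.ZassL4

open Cfsg.Agent.Lib.Helper12.Zass Cfsg.Agent.Lib.Helper12.ZassLin Cfsg.Agent.Lib.Helper12.TwoDim

variable {p : ℕ} [Fact p.Prime] {V : Type*} [AddCommGroup V] [Module (ZMod p) V]
variable [Finite V] [Nontrivial V] {X : Subgroup (V ≃ₗ[ZMod p] V)}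

/-- Module L4, conditional on module G4. -/
theorem lin_app4_of (hG : GammaMeet) (hX : IsFree X) {x y a j : V ≃ₗ[ZMod p] V} (hx : x ∈ X)
    (hy : y ∈ X) (ha : a ∈ X) {Q Q' : Subgroup (V ≃ₗ[ZMod p] V)} (hQX : Q ≤ X) (hQ'X : Q' ≤ X)
    (hx3 : orderOf x = 3) (hy3 : orderOf y = 3) (hQ : QSub x Q) (hQ' : QSub y Q')
    (ha8 : orderOf a = 8) (haQ : ∀ q ∈ Q, a * q * a⁻¹ ∈ Q) (ha2 : a ^ 2 ∈ Q) (hj : j ∈ Q)
    (hnc : a ^ 2 * j ≠ j * a ^ 2) (ha2' : a ^ 2 ∈ Q') (haj : a * j ∈ Q') : False := by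
  have hx3' : x ^ 3 = 1 := hx3 ▸ pow_orderOf_eq_one x
  have hy3' : y ^ 3 = 1 := hy3 ▸ pow_orderOf_eq_one y
  have hx1 : x ≠ 1 := by rintro rfl; simp at hx3
  have hy1 : y ≠ 1 := by rintro rfl; simp at hy3
  obtain ⟨hzQ, hz1⟩ := zz_mem_of_qsub hX hQX hQ
  obtain ⟨hzQ', -⟩ := zz_mem_of_qsub hX hQ'X hQ'
  have h20 := two_ne_zero_of_zz hz1
  have h10 := one_ne_zero_of_zz hz1
  obtain ⟨i, hi⟩ : ∃ i : V ≃ₗ[ZMod p] V, i = a ^ 2 := ⟨_, rfl⟩
  rw [← hi] at ha2 hnc ha2'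
  have hiaa : i = a * a := by rw [hi, sq]
  have hIA : en i = en a * en a := by rw [hiaa, en_mul]
  obtain ⟨hII, hJJ, hJI, hmemQ⟩ := mem_of_noncomm hX hx3' hQX hQ ha2 hj hnc
  have key := conj_eq_mul hX ha hQX hx3' hQ hiaa haQ ha2 hj hnc
  -- relations in `End V`
  have hAJ : en a * en j = en i * en j * en a := by
    have := en_conj key
    rwa [en_mul] at this
  have hIAc : en i * en a = en a * en i := by rw [hIA]; noncomm_ring
  have hJA : en j * en a = -(en i * en a * en j) := by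
    have e : en i * (en a * en j) = -(en j * en a) := by
      rw [hAJ]
      calc en i * (en i * en j * en a) = (en i * en i) * (en j * en a) := by noncomm_ring
        _ = -(en j * en a) := by rw [hII]; noncomm_ring
    rw [← mul_assoc] at e
    rw [e, neg_neg]
  -- the central element γ
  obtain ⟨γ, hγ⟩ : ∃ γ : Module.End (ZMod p) V, γ = (1 - en i) * en a := ⟨_, rfl⟩
  have hγI : en i * γ = γ * en i := by
    rw [hγ]
    calc en i * ((1 - en i) * en a) = (1 - en i) * (en i * en a) := by noncomm_ring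
      _ = (1 - en i) * (en a * en i) := by rw [hIAc]
      _ = (1 - en i) * en a * en i := by noncomm_ring
  have hγJ : en j * γ = γ * en j := by
    rw [hγ]
    calc en j * ((1 - en i) * en a) = en j * en a - (en j * en i) * en a := by noncomm_ring
      _ = en j * en a + (en i * en j * en a) := by rw [hJI]; noncomm_ring
      _ = -(en i * en a * en j) + en a * en j := by rw [hJA, ← hAJ]
      _ = (1 - en i) * en a * en j := by noncomm_ring
  have hA2 : en a = (2 : ZMod p)⁻¹ • (γ * (1 + en i)) := by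
    have e : γ * (1 + en i) = (2 : ZMod p) • en a := by
      rw [hγ, two_smul]
      calc (1 - en i) * en a * (1 + en i) = (1 - en i) * (en a + en a * en i) := by noncomm_ring
        _ = (1 - en i) * (en a + en i * en a) := by rw [hIAc]
        _ = en a - (en i * en i) * en a := by noncomm_ring
        _ = en a + en a := by rw [hII]; noncomm_ring
    rw [e, smul_smul, inv_mul_cancel₀ h20, one_smul]
  -- the algebra
  obtain ⟨Zs, hZs⟩ : ∃ Zs : List (Module.End (ZMod p) V), Zs = [0, -1, γ] := ⟨_, rfl⟩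
  have hZmem : ∀ c ∈ Zs, c = 0 ∨ c = -1 ∨ c = γ := by
    intro c hc
    rw [hZs] at hc
    simpa using hc
  have h0Z : (0 : Module.End (ZMod p) V) ∈ Zs := by rw [hZs]; simp
  have h1Z : (-1 : Module.End (ZMod p) V) ∈ Zs := by rw [hZs]; simp
  have hγZ : γ ∈ Zs := by rw [hZs]; simp
  obtain ⟨𝔄, h𝔄⟩ : ∃ 𝔄 : Subalgebra (ZMod p) (Module.End (ZMod p) V), 𝔄 =
      Algebra.adjoin (ZMod p) (({en i, en j} : Set (Module.End (ZMod p) V)) ∪ {c | c ∈ Zs}) :=
    ⟨_, rfl⟩
  have hI𝔄 : en i ∈ 𝔄 := by rw [h𝔄]; exact Algebra.subset_adjoin (Or.inl (by simp))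
  have hJ𝔄 : en j ∈ 𝔄 := by rw [h𝔄]; exact Algebra.subset_adjoin (Or.inl (by simp))
  have hγ𝔄 : γ ∈ 𝔄 := by rw [h𝔄]; exact Algebra.subset_adjoin (Or.inr hγZ)
  have hA𝔄 : en a ∈ 𝔄 := by
    rw [hA2]; exact 𝔄.smul_mem (𝔄.mul_mem hγ𝔄 (𝔄.add_mem 𝔄.one_mem hI𝔄)) _
  have hQ𝔄 := en_mem_of_list 𝔄 hI𝔄 hJ𝔄 hmemQ
  have hx𝔄 := en_mem_of_qsub hX 𝔄 hx hx3' hx1 hQX hQ hQ𝔄
  -- the second quaternion group
  have hU : en (a * j) = en a * en j := en_mul a j
  have hU𝔄 : en (a * j) ∈ 𝔄 := by rw [hU]; exact 𝔄.mul_mem hA𝔄 hJ𝔄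
  have hUI : en (a * j) * en i = -(en i * en (a * j)) := by
    rw [hU]
    calc en a * en j * en i = en a * (en j * en i) := by rw [mul_assoc]
      _ = en a * (-(en i * en j)) := by rw [hJI]
      _ = -((en a * en i) * en j) := by noncomm_ring
      _ = -((en i * en a) * en j) := by rw [hIAc]
      _ = -(en i * (en a * en j)) := by noncomm_ring
  have hiu : i * (a * j) ≠ (a * j) * i := by
    apply ne_of_anticomm h20 h10
    rw [hUI, neg_neg]
  obtain ⟨-, hUU, -, hmemQ'⟩ := mem_of_noncomm hX hy3' hQ'X hQ' ha2' haj hiu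
  have hQ'𝔄 := en_mem_of_list 𝔄 hI𝔄 hU𝔄 hmemQ'
  have hy𝔄 := en_mem_of_qsub hX 𝔄 hy hy3' hy1 hQ'X hQ' hQ'𝔄
  -- the generating set
  obtain ⟨S, hS⟩ : ∃ S : Set (V ≃ₗ[ZMod p] V), S =
      ({x, y} ∪ {q | q ∈ Q ∧ q ≠ 1 ∧ q ≠ zz}) ∪ {q | q ∈ Q' ∧ q ≠ 1 ∧ q ≠ zz} := ⟨_, rfl⟩
  have hxS : x ∈ S := by rw [hS]; exact Or.inl (Or.inl (by simp))
  have hyS : y ∈ S := by rw [hS]; exact Or.inl (Or.inl (by simp))
  have hQS : ∀ q ∈ Q, q ≠ 1 → q ≠ zz → q ∈ S := by
    intro q hq h1 h2; rw [hS]; exact Or.inl (Or.inr ⟨hq, h1, h2⟩)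
  have hQ'S : ∀ q ∈ Q', q ≠ 1 → q ≠ zz → q ∈ S := by
    intro q hq h1 h2; rw [hS]; exact Or.inr ⟨hq, h1, h2⟩
  have hScases : ∀ s ∈ S, s = x ∨ s = y ∨ (s ∈ Q ∧ s ≠ 1 ∧ s ≠ zz) ∨
      (s ∈ Q' ∧ s ≠ 1 ∧ s ≠ zz) := by
    intro s hs
    rw [hS] at hs
    rcases hs with (hs | hs) | hs
    · simp only [Set.mem_insert_iff, Set.mem_singleton_iff] at hs
      rcases hs with h | h
      · exact Or.inl h
      · exact Or.inr (Or.inl h)
    · exact Or.inr (Or.inr (Or.inl hs))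
    · exact Or.inr (Or.inr (Or.inr hs))
  obtain ⟨X', hX'def⟩ : ∃ X' : Subgroup (V ≃ₗ[ZMod p] V), X' = Subgroup.closure S := ⟨_, rfl⟩
  have hSX' : ∀ s ∈ S, s ∈ X' := fun s hs => by rw [hX'def]; exact Subgroup.subset_closure hs
  have hle : X' ≤ X := by
    rw [hX'def, Subgroup.closure_le]
    intro s hs
    rcases hScases s hs with h | h | h | h
    · rw [h]; exact hx
    · rw [h]; exact hy
    · exact hQX h.1
    · exact hQ'X h.1
  have hX'free : IsFree X' := hX.mono hle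
  obtain ⟨hi1, hiz⟩ := ne_one_of_sq h20 h10 hII
  obtain ⟨hj1, hjz⟩ := ne_one_of_sq h20 h10 hJJ
  obtain ⟨hu1, huz⟩ := ne_one_of_sq h20 h10 hUU
  have hiS : i ∈ S := hQS i ha2 hi1 hiz
  have hjS : j ∈ S := hQS j hj hj1 hjz
  have huS : a * j ∈ S := hQ'S _ haj hu1 huz
  have hzX' : (zz : V ≃ₗ[ZMod p] V) ∈ X' := by
    have : (zz : V ≃ₗ[ZMod p] V) = i * i := by
      apply en_injective
      rw [en_mul, en_zz, hII]
    rw [this]
    exact X'.mul_mem (hSX' i hiS) (hSX' i hiS)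
  have hQX' : Q ≤ X' := by
    intro q hq
    by_cases h1 : q = 1
    · rw [h1]; exact X'.one_mem
    by_cases h2 : q = zz
    · rw [h2]; exact hzX'
    exact hSX' q (hQS q hq h1 h2)
  have hQ'X' : Q' ≤ X' := by
    intro q hq
    by_cases h1 : q = 1
    · rw [h1]; exact X'.one_mem
    by_cases h2 : q = zz
    · rw [h2]; exact hzX'
    exact hSX' q (hQ'S q hq h1 h2)
  -- hypotheses of `quad_dickson`
  have hcomm : ∀ c ∈ Zs, ∀ d ∈ Zs, Commute c d := by
    intro c hc d hd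
    rcases hZmem c hc with rfl | rfl | rfl <;> rcases hZmem d hd with rfl | rfl | rfl <;>
    first
    | exact Commute.zero_left _
    | exact Commute.zero_right _
    | exact Commute.neg_one_left _
    | exact Commute.neg_one_right _
    | exact Commute.refl _
  have hca : ∀ c ∈ Zs, Commute (en i) c := by
    intro c hc
    rcases hZmem c hc with rfl | rfl | rfl
    · exact Commute.zero_right _
    · exact Commute.neg_one_right _
    · exact hγI
  have hcb : ∀ c ∈ Zs, Commute (en j) c := by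
    intro c hc
    rcases hZmem c hc with rfl | rfl | rfl
    · exact Commute.zero_right _
    · exact Commute.neg_one_right _
    · exact hγJ
  have hqa0 : (Polynomial.X ^ 2 + 1 : Polynomial (ZMod p)) ≠ 0 := by
    rw [← Polynomial.C_1]
    exact (Polynomial.monic_X_pow_add_C (1 : ZMod p) (by norm_num)).ne_zero
  have hqaa : Polynomial.aeval (en i) (Polynomial.X ^ 2 + 1 : Polynomial (ZMod p)) = 0 := by
    simp only [map_add, map_pow, Polynomial.aeval_X, map_one]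
    rw [sq, hII]; simp
  have hab : en i * en j = 0 + 0 * en i + 0 * en j + (-1) * (en j * en i) := by
    rw [hJI]; noncomm_ring
  have hbb : en j * en j = -1 + 0 * en j := by rw [hJJ]; simp
  have hSadj : ∀ s ∈ S, ((s : V ≃ₗ[ZMod p] V) : Module.End (ZMod p) V) ∈
      Algebra.adjoin (ZMod p) (({en i, en j} : Set (Module.End (ZMod p) V)) ∪ {c | c ∈ Zs}) := by
    intro s hs
    rw [← h𝔄]
    show en s ∈ 𝔄
    rcases hScases s hs with h | h | h | h
    · rw [h]; exact hx𝔄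
    · rw [h]; exact hy𝔄
    · exact hQ𝔄 s h.1
    · exact hQ'𝔄 s h.1
  have hSquad : ∀ s ∈ S,
      ((s : V ≃ₗ[ZMod p] V) : Module.End (ZMod p) V) * (s : Module.End (ZMod p) V) +
        (s : Module.End (ZMod p) V) + 1 = 0 ∨
      ((s : V ≃ₗ[ZMod p] V) : Module.End (ZMod p) V) * (s : Module.End (ZMod p) V) + 1 = 0 := by
    intro s hs
    show en s * en s + en s + 1 = 0 ∨ en s * en s + 1 = 0
    rcases hScases s hs with h | h | h | h
    · left; rw [h]; exact hX.quad3 hx hx1 hx3'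
    · left; rw [h]; exact hX.quad3 hy hy1 hy3'
    · right
      rcases qsub_sq hX hx3' hQX hQ s h.1 with h' | h' | h'
      · exact absurd h' h.2.1
      · exact absurd h' h.2.2
      · rw [h']; simp
    · right
      rcases qsub_sq hX hy3' hQ'X hQ' s h.1 with h' | h' | h'
      · exact absurd h' h.2.1
      · exact absurd h' h.2.2
      · rw [h']; simp
  have hUI' : en (a * j) * en i = -(en i * en (a * j)) := hUI
  have hSnc : ∀ s ∈ S, ∃ t ∈ X', s * t ≠ t * s := by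
    intro s hs
    rcases hScases s hs with h | h | h | h
    · obtain ⟨q₀, hq₀, hq₀x⟩ := hQ.2.2
      refine ⟨q₀, hQX' hq₀, ?_⟩
      rw [h]
      intro hc
      exact hq₀x (mul_inv_eq_iff_eq_mul.mpr hc)
    · obtain ⟨q₀, hq₀, hq₀y⟩ := hQ'.2.2
      refine ⟨q₀, hQ'X' hq₀, ?_⟩
      rw [h]
      intro hc
      exact hq₀y (mul_inv_eq_iff_eq_mul.mpr hc)
    · rcases exists_noncomm_of_list h20 h10 hJI hmemQ s h.1 h.2.1 h.2.2 with h' | h'
      · exact ⟨i, hSX' i hiS, h'⟩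
      · exact ⟨j, hSX' j hjS, h'⟩
    · rcases exists_noncomm_of_list h20 h10 hUI' hmemQ' s h.1 h.2.1 h.2.2 with h' | h'
      · exact ⟨i, hSX' i hiS, h'⟩
      · exact ⟨a * j, hSX' _ huS, h'⟩
  obtain ⟨Γ, hΓ, π, hπsurj, hπker, hDL⟩ := quad_dickson X' hX'free hX'free.not_dvd_card
    (en i) (en j) Zs hcomm hca hcb (Polynomial.X ^ 2 + 1) hqa0 hqaa 0 0 0 (-1) (-1) 0
    h0Z h0Z h0Z h1Z h1Z h0Z hab hbb S ⟨x, hxS⟩ hX'def hSadj hSquad hSnc
  -- the Dickson quotient
  have hπker' : ∀ g : X', π g = 1 ↔ (g = 1 ∨ en (g : V ≃ₗ[ZMod p] V) = -1) := hπker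
  have hxX' : x ∈ X' := hSX' x hxS
  have hyX' : y ∈ X' := hSX' y hyS
  have hV1 := vsub_map hX'free π hπker' hxX' hx3' hQX' hQ
  have hV2 := vsub_map hX'free π hπker' hyX' hy3' hQ'X' hQ'
  have h3p : Fact (Nat.Prime 3) := ⟨by norm_num⟩
  have horder : ∀ (w : V ≃ₗ[ZMod p] V) (hw : w ∈ X'), w ^ 3 = 1 → w ≠ 1 →
      orderOf (π ⟨w, hw⟩) = 3 := by
    intro w hw hw3 hw1
    apply orderOf_eq_prime
    · rw [← map_pow]
      have : (⟨w, hw⟩ : X') ^ 3 = 1 := Subtype.ext (by simpa using hw3)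
      rw [this, map_one]
    · intro h
      rcases (hπker' _).1 h with h' | h'
      · exact hw1 (congrArg Subtype.val h')
      · have hwz : w = zz := eq_zz_of_en h'
        apply hw1
        have h2 : w * w = 1 := by rw [hwz, zz_sq]
        calc w = w ^ 3 * (w * w)⁻¹ := by group
          _ = 1 := by rw [hw3, h2]; simp
  have hox := horder x hxX' hx3' hx1
  have hoy := horder y hyX' hy3' hy1
  have hiX' : i ∈ X' := hSX' i hiS
  refine hG hDL (π ⟨x, hxX'⟩) (π ⟨y, hyX'⟩) hox hoy _ _ hV1 hV2 ?_ (π ⟨i, hiX'⟩) ?_ ?_ ?_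
  · -- the two four-groups are different
    intro hEq
    have huX' : a * j ∈ X' := hSX' _ huS
    have hmem2 : π ⟨a * j, huX'⟩ ∈ (Q'.subgroupOf X').map π :=
      ⟨⟨a * j, huX'⟩, by rw [SetLike.mem_coe, Subgroup.mem_subgroupOf]; exact haj, rfl⟩
    rw [← hEq] at hmem2
    obtain ⟨q', hq', hq'u⟩ := hmem2
    rw [SetLike.mem_coe, Subgroup.mem_subgroupOf] at hq'
    have h1 : π (q'⁻¹ * ⟨a * j, huX'⟩) = 1 := by
      rw [map_mul, map_inv, hq'u]; simp
    have huQ : a * j ∈ Q := by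
      rcases (hπker' _).1 h1 with h' | h'
      · have := congrArg Subtype.val h'
        simp only [Subgroup.coe_mul, Subgroup.coe_inv, Subgroup.coe_one] at this
        have e : a * j = (q' : V ≃ₗ[ZMod p] V) := by
          rw [inv_mul_eq_one] at this; exact this.symm
        rw [e]; exact hq'
      · have := eq_zz_of_en h'
        simp only [Subgroup.coe_mul, Subgroup.coe_inv] at this
        have e : a * j = (q' : V ≃ₗ[ZMod p] V) * zz := by
          rw [← this]; group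
        rw [e]; exact Q.mul_mem hq' hzQ
    have haQ' : a ∈ Q := by
      have : a = a * j * j⁻¹ := by group
      rw [this]; exact Q.mul_mem huQ (Q.inv_mem hj)
    have ha4 := pow_four_of_qsub hx3' hQ a haQ'
    have hd : orderOf a ∣ 4 := orderOf_dvd_of_pow_eq_one ha4
    rw [ha8] at hd
    omega
  · exact ⟨⟨i, hiX'⟩, by rw [SetLike.mem_coe, Subgroup.mem_subgroupOf]; exact ha2, rfl⟩
  · exact ⟨⟨i, hiX'⟩, by rw [SetLike.mem_coe, Subgroup.mem_subgroupOf]; exact ha2', rfl⟩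
  · intro h
    rcases (hπker' _).1 h with h' | h'
    · exact hi1 (congrArg Subtype.val h')
    · exact hiz (eq_zz_of_en h')

end Cfsg.Agent.Lib.Helper70.ZassL4
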