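import Mathlib
import Cfsg.Agent.Lib.Helper70.ZassL4c
import Cfsg.Agent.Lib.Helper67.ZassG

/-!
# Zassenhaus (S0690), module L4 (helper70): `lin_app4`

The `app4` field of `Free3` for a free linear group (statement of helper12, board #1929).
-/

set_option autoImplicit false

namespace Cfsg.Agent.Lib.Helper70.ZassL4

open Cfsg.Agent.Lib.Helper12.Zass Cfsg.Agent.Lib.Helper12.ZassLin

theorem gammaMeet : GammaMeet :=
  fun h σ₁ σ₂ h1 h2 V₁ V₂ hv1 hv2 hne ι hi1 hi2 hi =>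
    Cfsg.Agent.Lib.Helper67.Zass.gamma_meet h σ₁ σ₂ h1 h2 V₁ V₂ hv1 hv2 hne ι hi1 hi2 hi

variable {p : ℕ} [Fact p.Prime] {V : Type*} [AddCommGroup V] [Module (ZMod p) V] [Finite V]
  [Nontrivial V] {X : Subgroup (V ≃ₗ[ZMod p] V)}

/-- **Module L4 of S0690.** -/
theorem lin_app4 (hX : IsFree X) {x y a j : V ≃ₗ[ZMod p] V} (hx : x ∈ X) (hy : y ∈ X) (ha : a ∈ X) {Q Q' : Subgroup (V ≃ₗ[ZMod p] V)} (hQX : Q ≤ X) (hQ'X : Q' ≤ X) (hx3 : orderOf x = 3) (hy3 : orderOf y = 3) (hQ : QSub x Q) (hQ' : QSub y Q') (ha8 : orderOf a = 8) (haQ : ∀ q ∈ Q, a * q * a⁻¹ ∈ Q) (ha2 : a ^ 2 ∈ Q) (hj : j ∈ Q) (hnc : a ^ 2 * j ≠ j * a ^ 2) (ha2' : a ^ 2 ∈ Q') (haj : a * j ∈ Q') : False :=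
  lin_app4_of gammaMeet hX hx hy ha hQX hQ'X hx3 hy3 hQ hQ' ha8 haQ ha2 hj hnc ha2' haj

end Cfsg.Agent.Lib.Helper70.ZassL4
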