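import Mathlib
import Cfsg.Agent.Lib.Helper88.CoprimeAbelian
import Cfsg.Agent.Lib.Helper24.ConjOn

/-!
General internal lemmas used for the modules of S1444 (BG Theorem 3.6), helper70:
invariance of centralizers and commutators, `[V, A] ∩ C(A) = 1` for coprime action on an abelian
subgroup, fixed points of a `p`-group on a `p`-group.
-/

set_option autoImplicit false

namespace Cfsg.Agent.Lib.Helper70.BG36

open scoped commutatorElement

variable {G : Type*} [Group G]

theorem normalizer_le_normalizer_centralizer (H : Subgroup G) :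
    Subgroup.normalizer (H : Set G) ≤
      Subgroup.normalizer ((Subgroup.centralizer (H : Set G) : Subgroup G) : Set G) := by
  rw [Subgroup.le_normalizer_iff]
  intro g hg c hc
  rw [Subgroup.mem_centralizer_iff] at hc ⊢
  intro h hh
  have hh' : g⁻¹ * h * g ∈ H := by
    have := (Subgroup.mem_normalizer_iff.mp (Subgroup.inv_mem _ hg) h).mp hh
    simpa using this
  have h2 := hc _ hh'
  calc h * (g * c * g⁻¹) = g * ((g⁻¹ * h * g) * c) * g⁻¹ := by group
    _ = g * (c * (g⁻¹ * h * g)) * g⁻¹ := by rw [h2]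
    _ = g * c * g⁻¹ * h := by group

theorem mem_normalizer_commutator {H K : Subgroup G} {g : G}
    (hH : g ∈ Subgroup.normalizer (H : Set G)) (hK : g ∈ Subgroup.normalizer (K : Set G)) :
    g ∈ Subgroup.normalizer ((⁅H, K⁆ : Subgroup G) : Set G) := by
  rw [Subgroup.mem_normalizer_iff_map_conj_eq] at *
  rw [Subgroup.map_commutator, hH, hK]

theorem le_normalizer_commutator {A H K : Subgroup G}
    (hH : A ≤ Subgroup.normalizer (H : Set G)) (hK : A ≤ Subgroup.normalizer (K : Set G)) :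
    A ≤ Subgroup.normalizer ((⁅H, K⁆ : Subgroup G) : Set G) :=
  fun _ hg => mem_normalizer_commutator (hH hg) (hK hg)

theorem mem_normalizer_inf {H K : Subgroup G} {g : G}
    (hH : g ∈ Subgroup.normalizer (H : Set G)) (hK : g ∈ Subgroup.normalizer (K : Set G)) :
    g ∈ Subgroup.normalizer ((H ⊓ K : Subgroup G) : Set G) := by
  rw [Subgroup.mem_normalizer_iff] at *
  intro h
  rw [Subgroup.mem_inf, Subgroup.mem_inf, hH h, hK h]

theorem le_normalizer_inf' {A H K : Subgroup G}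
    (hH : A ≤ Subgroup.normalizer (H : Set G)) (hK : A ≤ Subgroup.normalizer (K : Set G)) :
    A ≤ Subgroup.normalizer ((H ⊓ K : Subgroup G) : Set G) :=
  fun _ hg => mem_normalizer_inf (hH hg) (hK hg)

/-- Coprime action on an abelian subgroup: `[V, A] ∩ C(A) = 1`. -/
theorem commutator_inf_centralizer_eq_bot [Finite G] (V A : Subgroup G)
    (hVab : ∀ a ∈ V, ∀ b ∈ V, a * b = b * a) (hAV : A ≤ Subgroup.normalizer (V : Set G))
    (hcop : (Nat.card A).Coprime (Nat.card V)) :
    ⁅V, A⁆ ⊓ Subgroup.centralizer (A : Set G) = ⊥ := by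
  classical
  let φ := Cfsg.Agent.Lib.Helper24.conjOn A V hAV
  let A' : Subgroup (MulAut ↥V) := φ.range
  have hcomm : ∀ x y : ↥V, x * y = y * x := fun x y => Subtype.ext (hVab x x.2 y y.2)
  have hcop' : (Nat.card A').Coprime (Nat.card ↥V) := by
    apply Nat.Coprime.coprime_dvd_left _ hcop
    exact Subgroup.card_range_dvd φ
  obtain ⟨hinf, -⟩ := Cfsg.Agent.Lib.Helper88.coprime_abelian_decomp hcomm A' hcop'
  have hle : ⁅V, A⁆ ≤ (Cfsg.Agent.Lib.Helper88.commSub A').map V.subtype := by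
    rw [Subgroup.commutator_le]
    intro v hv a ha
    refine ⟨⟨v, hv⟩ * (φ ⟨a, ha⟩ ⟨v, hv⟩)⁻¹, ?_, ?_⟩
    · apply Subgroup.subset_closure
      refine ⟨φ ⟨a, ha⟩, ⟨⟨a, ha⟩, rfl⟩, (⟨v, hv⟩ : ↥V)⁻¹, ?_⟩
      rw [inv_inv, map_inv]
    · simp only [Subgroup.subtype_apply, Subgroup.coe_mul, Subgroup.coe_inv,
        Cfsg.Agent.Lib.Helper24.conjOn_apply, φ, commutatorElement_def]
      group
  rw [eq_bot_iff]
  rintro w ⟨hw1, hw2⟩
  obtain ⟨w', hw', rfl⟩ := hle hw1
  have hfix : w' ∈ Cfsg.Agent.Lib.Helper88.fixedSub A' := by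
    rintro _ ⟨a, rfl⟩
    apply Subtype.ext
    show (a : G) * w' * (a : G)⁻¹ = w'
    have h3 := (Subgroup.mem_centralizer_iff.mp hw2) a a.2
    simp only [Subgroup.subtype_apply] at h3
    rw [h3]; group
  have hmem : w' ∈ Cfsg.Agent.Lib.Helper88.fixedSub A' ⊓ Cfsg.Agent.Lib.Helper88.commSub A' :=
    ⟨hfix, hw'⟩
  rw [hinf, Subgroup.mem_bot] at hmem
  rw [Subgroup.mem_bot, hmem]; rfl

/-- A `p`-group normalizing a nontrivial `p`-group has nontrivial fixed points on it. -/
theorem inf_centralizer_ne_bot_of_isPGroup [Finite G] {p : ℕ} [Fact p.Prime] (P U : Subgroup G)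
    (hP : IsPGroup p P) (hU : IsPGroup p U) (hPU : P ≤ Subgroup.normalizer (U : Set G))
    (hU1 : U ≠ ⊥) : U ⊓ Subgroup.centralizer (P : Set G) ≠ ⊥ := by
  let φ := Cfsg.Agent.Lib.Helper24.conjOn P U hPU
  let _ : MulAction ↥P ↥U := MulAction.compHom ↥U φ
  have hnt : Nontrivial ↥U := (Subgroup.nontrivial_iff_ne_bot U).mpr hU1
  have hdvd : p ∣ Nat.card ↥U := by
    obtain ⟨n, hn0, hn⟩ := hU.nontrivial_iff_card.mp hnt
    rw [hn]; exact dvd_pow_self _ (ne_of_gt hn0)
  have h1 : (1 : ↥U) ∈ MulAction.fixedPoints ↥P ↥U := by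
    intro g
    show φ g 1 = 1
    exact map_one _
  obtain ⟨b, hb, hb1⟩ := hP.exists_fixed_point_of_prime_dvd_card_of_fixed_point ↥U hdvd h1
  intro hbot
  apply hb1
  have hmem : (b : G) ∈ U ⊓ Subgroup.centralizer (P : Set G) := by
    refine Subgroup.mem_inf.mpr ⟨b.2, ?_⟩
    rw [Subgroup.mem_centralizer_iff]
    intro g hg
    have h2 : g * (b : G) * g⁻¹ = b := congrArg Subtype.val (hb ⟨g, hg⟩)
    calc g * b = g * b * g⁻¹ * g := by group
      _ = b * g := by rw [h2]
  rw [hbot, Subgroup.mem_bot] at hmem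
  exact Subtype.ext hmem.symm

/-- In a solvable subgroup `Q ≠ ⊥`, the derived subgroup is proper. -/
theorem commutator_self_ne_of_isSolvable (Q : Subgroup G) (hsolv : Group.IsSolvable ↥Q)
    (hQ1 : Q ≠ ⊥) : ⁅Q, Q⁆ ≠ Q := by
  intro h
  have hnt : Nontrivial ↥Q := (Subgroup.nontrivial_iff_ne_bot Q).mpr hQ1
  have hlt := Group.IsSolvable.commutator_lt_top_of_nontrivial ↥Q
  apply hlt.ne
  apply Subgroup.map_injective Q.subtype_injective
  rw [commutator_def, Subgroup.map_commutator, ← MonoidHom.range_eq_map, Subgroup.range_subtype, h]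

/-- cardinality of a `p`-subgroup is coprime to a different prime. -/
theorem coprime_card_prime {p r : ℕ} [Fact p.Prime] [Finite G] (hr : r.Prime) (hpr : p ≠ r)
    (U : Subgroup G) (hU : IsPGroup p U) : (Nat.card U).Coprime r := by
  obtain ⟨n, hn⟩ := hU.exists_card_eq
  rw [hn]
  exact Nat.Coprime.pow_left n ((Nat.coprime_primes Fact.out hr).mpr hpr)

end Cfsg.Agent.Lib.Helper70.BG36
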