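/-
helper70, project ASCH (helper99, S5630).  Shared lemmas for the modules ASCH-[RODD] and ASCH-[RTWO]
(symplectic-type analysis of a minimal normalised subgroup `N` with scalar commutators).
-/
import Mathlib
import Cfsg.Prelude.Def_GeometricClasses
import Cfsg.Agent.Lib.Helper99.AschDefs

set_option autoImplicit false

namespace Cfsg.Agent.Lib.Helper70.AschSymp

open Cfsg Cfsg.Geo Cfsg.Agent.Lib.Helper99.Asch

section grp

variable {G : Type*} [Group G]

theorem pow_mul_comm_of_central {x y c : G} (h : y * x = c * x * y) (hcy : Commute c y) (k : ℕ) :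
    y ^ k * x = c ^ k * x * y ^ k := by
  induction k with
  | zero => simp
  | succ k ih =>
    have h1 : y ^ k * c = c * y ^ k := ((hcy.pow_right k).eq).symm
    calc y ^ (k + 1) * x = y ^ k * (y * x) := by rw [pow_succ, mul_assoc]
      _ = y ^ k * (c * x * y) := by rw [h]
      _ = (y ^ k * c) * x * y := by simp only [mul_assoc]
      _ = c * (y ^ k * x) * y := by rw [h1]; simp only [mul_assoc]
      _ = c * (c ^ k * x * y ^ k) * y := by rw [ih]
      _ = c ^ (k + 1) * x * y ^ (k + 1) := by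
        rw [pow_succ' c k, pow_succ y k]; simp only [mul_assoc]

/-- the power formula in a group of class two -/
theorem pow_mul_of_central {x y c : G} (h : y * x = c * x * y) (hcx : Commute c x) (hcy : Commute c y)
    (k : ℕ) : ∃ m : ℕ, 2 * m = k * (k - 1) ∧ (x * y) ^ k = c ^ m * x ^ k * y ^ k := by
  induction k with
  | zero => exact ⟨0, by simp, by simp⟩
  | succ k ih =>
    obtain ⟨m, hm, hpow⟩ := ih
    refine ⟨m + k, ?_, ?_⟩
    · cases k with
      | zero => simpa using hm
      | succ j =>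
        simp only [Nat.add_sub_cancel] at hm ⊢
        nlinarith
    · have h1 := pow_mul_comm_of_central h hcy k
      have h2 : x ^ k * c ^ k = c ^ k * x ^ k := (((hcx.pow_left k).pow_right k).eq).symm
      calc (x * y) ^ (k + 1) = (x * y) ^ k * (x * y) := pow_succ _ _
        _ = c ^ m * x ^ k * y ^ k * (x * y) := by rw [hpow]
        _ = c ^ m * x ^ k * (y ^ k * x) * y := by simp only [mul_assoc]
        _ = c ^ m * x ^ k * (c ^ k * x * y ^ k) * y := by rw [h1]
        _ = c ^ m * (x ^ k * c ^ k) * x * y ^ k * y := by simp only [mul_assoc]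
        _ = c ^ m * (c ^ k * x ^ k) * x * y ^ k * y := by rw [h2]
        _ = c ^ (m + k) * x ^ (k + 1) * y ^ (k + 1) := by
          rw [pow_add c m k, pow_succ x k, pow_succ y k]; simp only [mul_assoc]

/-- a finite cyclic group all of whose elements satisfy `a ^ e = 1` has at most `e` elements -/
theorem card_le_of_isCyclic_of_pow {C : Type*} [Group C] [Finite C] [IsCyclic C] {e : ℕ} (he : 0 < e)
    (h : ∀ a : C, a ^ e = 1) : Nat.card C ≤ e := by
  classical
  have := Fintype.ofFinite C
  have h1 := IsCyclic.card_pow_eq_one_le (α := C) he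
  have h2 : (Finset.univ.filter fun a : C => a ^ e = 1) = Finset.univ := by
    ext a; simp [h a]
  rw [h2, Finset.card_univ] at h1
  rwa [Nat.card_eq_fintype_card]

end grp

section gl

variable {n : ℕ} {F : Type*} [Field F]

theorem scalar_commute {z : GL (Fin n) F} (hz : z ∈ scalars (Fin n) F) (g : GL (Fin n) F) :
    z * g = g * z := by
  obtain ⟨c, hc⟩ := (mem_scalars_iff z).mp hz
  apply Units.ext
  simp only [Units.val_mul, hc]
  simp

theorem nrm_scalars (H : Subgroup (GL (Fin n) F)) : Nrm H (scalars (Fin n) F) := by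
  intro h _ x hx
  have : h * x * h⁻¹ = x := by
    rw [← scalar_commute hx h]; simp
  rw [this]; exact hx

theorem nrm_sup {H A B : Subgroup (GL (Fin n) F)} (hA : Nrm H A) (hB : Nrm H B) : Nrm H (A ⊔ B) := by
  intro h hh x hx
  have hmap : (A ⊔ B).map (MulAut.conj h).toMonoidHom ≤ A ⊔ B := by
    rw [Subgroup.map_sup]
    apply sup_le
    · rintro _ ⟨a, ha, rfl⟩
      exact Subgroup.mem_sup_left (hA h hh a ha)
    · rintro _ ⟨b, hb, rfl⟩
      exact Subgroup.mem_sup_right (hB h hh b hb)
  exact hmap ⟨x, hx, rfl⟩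

/-- a matrix group element commuting with an absolutely irreducible group is scalar -/
theorem mem_scalars_of_comm {S : Subgroup (GL (Fin n) F)}
    (hS : ActsAbsolutelyIrreducibly (matrixSet S)) {x : GL (Fin n) F}
    (hx : ∀ s ∈ S, x * s = s * x) : x ∈ scalars (Fin n) F := by
  have h1 : ∀ s ∈ matrixSet S, (x : Matrix (Fin n) (Fin n) F) * s = s * (x : Matrix (Fin n) (Fin n) F) := by
    rintro _ ⟨s, hs, rfl⟩
    have := congrArg (fun g : GL (Fin n) F => (g : Matrix (Fin n) (Fin n) F)) (hx s hs)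
    simpa using this
  obtain ⟨c, hc⟩ := hS.2 _ h1
  rw [mem_scalars_iff]
  by_cases h0 : c = 0
  · refine ⟨1, ?_⟩
    have hx0 : (x : Matrix (Fin n) (Fin n) F) = 0 := by rw [hc, h0, zero_smul]
    have h10 : (1 : Matrix (Fin n) (Fin n) F) = 0 := by
      have := x.mul_inv
      rw [hx0, zero_mul] at this
      exact this.symm
    rw [hx0]; simp [h10]
  · exact ⟨Units.mk0 c h0, by simpa using hc⟩

theorem isCyclic_scalars [Fintype F] : IsCyclic (scalars (Fin n) F) := by
  unfold scalars
  exact isCyclic_of_surjective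
    (Units.map (Matrix.scalar (Fin n) : F →+* Matrix (Fin n) (Fin n) F).toMonoidHom).rangeRestrict
    (MonoidHom.rangeRestrict_surjective _)

/-- a subgroup of the scalars is cyclic -/
theorem isCyclic_of_le_scalars [Fintype F] {A : Subgroup (GL (Fin n) F)} (hA : A ≤ scalars (Fin n) F) :
    IsCyclic A := by
  have := isCyclic_scalars (n := n) (F := F)
  exact isCyclic_of_injective (Subgroup.inclusion hA) (Subgroup.inclusion_injective hA)

/-- the kernel of the `e`-th power map on `N` -/
def powKer (N : Subgroup (GL (Fin n) F)) (e : ℕ)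
    (hmul : ∀ x ∈ N, ∀ y ∈ N, (x * y) ^ e = x ^ e * y ^ e) : Subgroup (GL (Fin n) F) where
  carrier := {x | x ∈ N ∧ x ^ e = 1}
  mul_mem' := by
    rintro a b ⟨ha, ha1⟩ ⟨hb, hb1⟩
    exact ⟨N.mul_mem ha hb, by rw [hmul a ha b hb, ha1, hb1, one_mul]⟩
  one_mem' := ⟨N.one_mem, one_pow e⟩
  inv_mem' := by
    rintro a ⟨ha, ha1⟩
    exact ⟨N.inv_mem ha, by rw [inv_pow, ha1, inv_one]⟩

theorem mem_powKer {N : Subgroup (GL (Fin n) F)} {e : ℕ}
    {hmul : ∀ x ∈ N, ∀ y ∈ N, (x * y) ^ e = x ^ e * y ^ e} {x : GL (Fin n) F} :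
    x ∈ powKer N e hmul ↔ x ∈ N ∧ x ^ e = 1 := Iff.rfl

theorem powKer_le {N : Subgroup (GL (Fin n) F)} {e : ℕ}
    {hmul : ∀ x ∈ N, ∀ y ∈ N, (x * y) ^ e = x ^ e * y ^ e} : powKer N e hmul ≤ N := fun _ h => h.1

theorem nrm_powKer {H N : Subgroup (GL (Fin n) F)} (hN : Nrm H N) {e : ℕ}
    {hmul : ∀ x ∈ N, ∀ y ∈ N, (x * y) ^ e = x ^ e * y ^ e} : Nrm H (powKer N e hmul) := by
  intro h hh x hx
  refine ⟨hN h hh x hx.1, ?_⟩
  rw [conj_pow, hx.2]; simp

end gl

section core

variable {n : ℕ} {F : Type*} [Field F] [Fintype F] {H N : Subgroup (GL (Fin n) F)}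

/-- the statement of ASCH-[BASIS] `card_eq_of_commScalar` -/
def BasisStmt (n : ℕ) (F : Type*) [Field F] [Fintype F] : Prop :=
  ∀ S : Subgroup (GL (Fin n) F), ActsAbsolutelyIrreducibly (matrixSet S) → CommScalar S →
    Nat.card S = Nat.card (S ⊓ scalars (Fin n) F : Subgroup (GL (Fin n) F)) * n ^ 2

/-- restricted `NAI`: the subgroups of `N` normalised by `H` are scalar or absolutely irreducible -/
def NAIin (H N : Subgroup (GL (Fin n) F)) : Prop :=
  ∀ M : Subgroup (GL (Fin n) F), M ≤ N → Nrm H M →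
    M ≤ scalars (Fin n) F ∨ ActsAbsolutelyIrreducibly (matrixSet M)

omit [Fintype F] in
theorem NAIin_of_NAI (h : NAI H) : NAIin H N := fun M _ hM => h M hM

omit [Fintype F] in
theorem absIrred_of_min (hNAI : NAIin H N) (hN : IsMinNrm H N) :
    ActsAbsolutelyIrreducibly (matrixSet N) :=
  (hNAI N le_rfl hN.nrm).resolve_left hN.not_le

omit [Fintype F] in
theorem exists_noncomm (hNAI : NAIin H N) (hN : IsMinNrm H N) : ∃ x ∈ N, ∃ y ∈ N, y * x ≠ x * y := by
  by_contra hcon
  push Not at hcon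
  apply hN.not_le
  intro x hx
  exact mem_scalars_of_comm (absIrred_of_min hNAI hN) (fun s hs => (hcon s hs x hx))

omit [Fintype F] in
/-- the commutator relation in the form needed by the power formula -/
theorem comm_rel (x y : GL (Fin n) F) : y * x = (y * x * y⁻¹ * x⁻¹) * x * y := by group

omit [Fintype F] in
/-- the commutator of two elements of `N` has `e`-th power one as soon as `e`-th powers are scalar -/
theorem comm_pow_eq_one (hab : CommScalar N) {e : ℕ} {x y : GL (Fin n) F} (hx : x ∈ N) (hy : y ∈ N)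
    (hxe : x ^ e ∈ scalars (Fin n) F) : (y * x * y⁻¹ * x⁻¹) ^ e = 1 := by
  set c := y * x * y⁻¹ * x⁻¹ with hc
  have hcZ : c ∈ scalars (Fin n) F := hab y hy x hx
  have h1 : y * x * y⁻¹ = c * x := by rw [hc]; group
  have h2 : (y * x * y⁻¹) ^ e = y * x ^ e * y⁻¹ := conj_pow
  have h3 : (c * x) ^ e = c ^ e * x ^ e := by
    have : Commute c x := scalar_commute hcZ x
    exact this.mul_pow e
  have h4 : y * x ^ e * y⁻¹ = x ^ e := by
    rw [← scalar_commute hxe y]; simp
  rw [h1, h3, h4] at h2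
  exact mul_eq_right.mp h2

omit [Fintype F] in
theorem nonabelian_of_sup_eq {A : Subgroup (GL (Fin n) F)}
    (hA : ∀ a ∈ A, ∀ b ∈ A, a * b = b * a) :
    ∀ x ∈ A ⊔ scalars (Fin n) F, ∀ y ∈ A ⊔ scalars (Fin n) F, x * y = y * x := by
  have hZ : ∀ S : Set (GL (Fin n) F), scalars (Fin n) F ≤ Subgroup.centralizer S := by
    intro S z hz
    rw [Subgroup.mem_centralizer_iff]
    intro g _
    exact (scalar_commute hz g).symm
  have h1 : A ≤ Subgroup.centralizer ((A ⊔ scalars (Fin n) F : Subgroup (GL (Fin n) F)) : Set (GL (Fin n) F)) := by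
    intro a ha
    rw [Subgroup.mem_centralizer_iff]
    intro g hg
    have h2 : A ⊔ scalars (Fin n) F ≤ Subgroup.centralizer ({a} : Set (GL (Fin n) F)) := by
      apply sup_le
      · intro b hb
        rw [Subgroup.mem_centralizer_iff]
        intro g hg
        rw [Set.mem_singleton_iff] at hg
        subst hg
        exact hA g ha b hb
      · exact hZ _
    have := Subgroup.mem_centralizer_iff.mp (h2 hg) a rfl
    exact this.symm
  intro x hx y hy
  have h3 : A ⊔ scalars (Fin n) F ≤
      Subgroup.centralizer ((A ⊔ scalars (Fin n) F : Subgroup (GL (Fin n) F)) : Set (GL (Fin n) F)) :=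
    sup_le h1 (hZ _)
  exact (Subgroup.mem_centralizer_iff.mp (h3 hx) y hy).symm

/-- characteristic abelian subgroups of an `H`-normalised subgroup `R ≤ N` are cyclic -/
theorem cyclic_of_char (hNAI : NAIin H N) (hN : IsMinNrm H N) {R : Subgroup (GL (Fin n) F)}
    (hR : Nrm H R) (hRN : R ≤ N) (A : Subgroup R) (hA : A.Characteristic) (hAc : IsMulCommutative A) :
    IsCyclic A := by
  set A' : Subgroup (GL (Fin n) F) := A.map R.subtype with hA'
  have hA'R : A' ≤ R := by
    rintro _ ⟨a, _, rfl⟩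
    exact a.2
  have hnrm : Nrm H A' := by
    rintro h hh _ ⟨a, ha, rfl⟩
    let φ : R ≃* R :=
      { toFun := fun x => ⟨h * x * h⁻¹, hR h hh x x.2⟩
        invFun := fun x => ⟨h⁻¹ * x * h, by simpa using hR h⁻¹ (H.inv_mem hh) x x.2⟩
        left_inv := fun x => by ext; simp [mul_assoc]
        right_inv := fun x => by ext; simp [mul_assoc]
        map_mul' := fun x y => by ext; simp [mul_assoc] }
    have h1 := hA.fixed φ
    have h2 : a ∈ A.comap φ.toMonoidHom := by rw [h1]; exact ha
    exact ⟨φ a, h2, rfl⟩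
  have hcomm : ∀ a ∈ A', ∀ b ∈ A', a * b = b * a := by
    rintro _ ⟨a, ha, rfl⟩ _ ⟨b, hb, rfl⟩
    have := hAc.is_comm.comm (⟨a, ha⟩ : A) ⟨b, hb⟩
    have h3 := congrArg (fun t : A => ((t : R) : GL (Fin n) F)) this
    simpa using h3
  rcases hN.minimal (A' ⊔ scalars (Fin n) F) le_sup_right (sup_le (hA'R.trans hRN) hN.scalars_le)
    (nrm_sup hnrm (nrm_scalars H)) with h | h
  · have hA'Z : A' ≤ scalars (Fin n) F := by rw [← h]; exact le_sup_left
    have := isCyclic_of_le_scalars hA'Z
    exact isCyclic_of_injective (A.equivMapOfInjective R.subtype R.subtype_injective).toMonoidHom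
      (A.equivMapOfInjective R.subtype R.subtype_injective).injective
  · exfalso
    obtain ⟨x, hx, y, hy, hxy⟩ := exists_noncomm hNAI hN
    rw [← h] at hx hy
    exact hxy (nonabelian_of_sup_eq hcomm y hy x hx)

/-- the kernel of the `e`-th power map is not scalar (counting with ASCH-[BASIS]) -/
theorem powKer_not_le (hNAI : NAIin H N) (hN : IsMinNrm H N) (hab : CommScalar N)
    (hB : BasisStmt n F) {e : ℕ} (he : 0 < e) (he2 : e < n ^ 2)
    (hmul : ∀ x ∈ N, ∀ y ∈ N, (x * y) ^ e = x ^ e * y ^ e)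
    (hscal : ∀ x ∈ N, x ^ e ∈ scalars (Fin n) F) :
    ¬ powKer N e hmul ≤ scalars (Fin n) F := by
  intro hle
  let ψ : N →* GL (Fin n) F :=
    { toFun := fun x => (x : GL (Fin n) F) ^ e
      map_one' := by simp
      map_mul' := fun x y => by simpa using hmul x x.2 y y.2 }
  have hcard : Nat.card ψ.ker * Nat.card ψ.range = Nat.card N := by
    rw [← Subgroup.index_ker]; exact Subgroup.card_mul_index _
  -- the kernel is small
  have hker : Nat.card ψ.ker ≤ e := by
    set K' : Subgroup (GL (Fin n) F) := ψ.ker.map N.subtype with hK'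
    have hK'Z : K' ≤ scalars (Fin n) F := by
      rintro _ ⟨x, hx, rfl⟩
      apply hle
      refine ⟨x.2, ?_⟩
      have := MonoidHom.mem_ker.mp hx
      simpa [ψ] using this
    have hpow : ∀ a : K', a ^ e = 1 := by
      rintro ⟨_, ⟨x, hx, rfl⟩⟩
      have := MonoidHom.mem_ker.mp hx
      ext1
      simpa [ψ] using this
    have := isCyclic_of_le_scalars hK'Z
    have h1 := card_le_of_isCyclic_of_pow he hpow
    rwa [hK', Subgroup.card_subtype] at h1
  -- the image is scalar
  have hrange : Nat.card ψ.range ≤ Nat.card (scalars (Fin n) F) := by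
    apply Subgroup.card_le_of_le
    rintro _ ⟨x, rfl⟩
    exact hscal x x.2
  have hN1 := hB N (absIrred_of_min hNAI hN) hab
  have hinf : N ⊓ scalars (Fin n) F = scalars (Fin n) F := inf_eq_right.mpr hN.scalars_le
  rw [hinf] at hN1
  have hZpos : 0 < Nat.card (scalars (Fin n) F) := Nat.card_pos
  have h2 : Nat.card (scalars (Fin n) F) * n ^ 2 ≤ e * Nat.card (scalars (Fin n) F) := by
    rw [← hN1, ← hcard]
    exact Nat.mul_le_mul hker hrange
  have h3 : n ^ 2 ≤ e := by
    rw [mul_comm] at h2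
    exact Nat.le_of_mul_le_mul_right h2 hZpos
  omega

/-- consequences for `R = powKer N e` -/
theorem powKer_facts (hNAI : NAIin H N) (hN : IsMinNrm H N) (hab : CommScalar N)
    (hB : BasisStmt n F) {e : ℕ} (he : 0 < e) (he2 : e < n ^ 2)
    (hmul : ∀ x ∈ N, ∀ y ∈ N, (x * y) ^ e = x ^ e * y ^ e)
    (hscal : ∀ x ∈ N, x ^ e ∈ scalars (Fin n) F) :
    Nrm H (powKer N e hmul) ∧ ActsAbsolutelyIrreducibly (matrixSet (powKer N e hmul)) ∧
    CommScalar (powKer N e hmul) ∧
    Nat.card (powKer N e hmul) =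
      Nat.card (powKer N e hmul ⊓ scalars (Fin n) F : Subgroup (GL (Fin n) F)) * n ^ 2 ∧
    Nat.card (Subgroup.center (powKer N e hmul)) =
      Nat.card (powKer N e hmul ⊓ scalars (Fin n) F : Subgroup (GL (Fin n) F)) ∧
    (∀ A : Subgroup (powKer N e hmul), A.Characteristic → IsMulCommutative A → IsCyclic A) := by
  set R := powKer N e hmul with hR
  have hnrm : Nrm H R := nrm_powKer hN.nrm
  have hnot : ¬ R ≤ scalars (Fin n) F := powKer_not_le hNAI hN hab hB he he2 hmul hscal
  have hirr : ActsAbsolutelyIrreducibly (matrixSet R) := (hNAI R powKer_le hnrm).resolve_left hnot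
  have hcs : CommScalar R := fun x hx y hy => hab x hx.1 y hy.1
  refine ⟨hnrm, hirr, hcs, hB R hirr hcs, ?_, fun A hA hAc => cyclic_of_char hNAI hN hnrm powKer_le A hA hAc⟩
  have hmap : (Subgroup.center R).map R.subtype = R ⊓ scalars (Fin n) F := by
    ext x
    constructor
    · rintro ⟨z, hz, rfl⟩
      refine ⟨z.2, ?_⟩
      apply mem_scalars_of_comm hirr
      intro s hs
      have := Subgroup.mem_center_iff.mp hz ⟨s, hs⟩
      have h3 := congrArg (fun t : R => (t : GL (Fin n) F)) this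
      simpa using h3.symm
    · rintro ⟨hxR, hxZ⟩
      refine ⟨⟨x, hxR⟩, ?_, rfl⟩
      show (⟨x, hxR⟩ : R) ∈ Subgroup.center R
      rw [Subgroup.mem_center_iff]
      intro g
      ext1
      simpa using (scalar_commute hxZ (g : GL (Fin n) F)).symm
  rw [← hmap, Subgroup.card_subtype]

end core

end Cfsg.Agent.Lib.Helper70.AschSymp
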