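/-
helper70, project ASCH (helper99, S5630).  MODULE ASCH-[RODD]: `sympOut_odd`.
`sympOut_odd_of` takes the statement of ASCH-[BASIS] (`card_eq_of_commScalar`) as a hypothesis.

Proof.  `N` is absolutely irreducible (NAI) and not abelian.  For `x, y ∈ N` the commutator `c = y x y⁻¹ x⁻¹` is a scalar with
`c ^ r = 1` (conjugate `x ^ r`, a scalar, by `y`), so `(x y) ^ r = c ^ (r (r-1)/2) x ^ r y ^ r = x ^ r y ^ r` (`r` odd): `x ↦ x ^ r` is a
homomorphism `N → Z`; `R` is its kernel.  A non-trivial commutator `c₀ = γ • 1` has order `r`; `det c₀ = 1` gives `c₀ ^ n = 1`, so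
`r ∣ n` and `r < n²`.  If `R ≤ Z` then `|R| ≤ r` (`R` cyclic of exponent `r`) and `|N| ≤ r |Z|`, but `|N| = |Z| n²` by [BASIS]:
contradiction.  So `R` is not scalar, hence absolutely irreducible (NAI); its centre is `R ⊓ Z`, cyclic of exponent `r` containing
`c₀`, so of order `r`; `|R| = r n²` by [BASIS].  A characteristic abelian subgroup `A` of `R` is normalised by `H`, so `A Z = Z` or
`A Z = N` by minimality; the latter is impossible (`N` is not abelian), so `A` is scalar, hence cyclic.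
-/
import Mathlib
import Cfsg.Prelude.Def_GeometricClasses
import Cfsg.Agent.Lib.Helper99.AschDefs
import Cfsg.Agent.Lib.Helper70.AschSymp
import Cfsg.Agent.Lib.Helper47.AschBasis
import Cfsg.Agent.Lib.Helper39.AschBurnside

set_option autoImplicit false

namespace Cfsg.Agent.Lib.Helper70.AschSymp

open Cfsg Cfsg.Geo Cfsg.Agent.Lib.Helper99.Asch

variable {n : ℕ} {F : Type*} [Field F] [Fintype F]

omit [Fintype F] in
/-- a scalar of determinant one has `n`-th power one -/
theorem scalar_pow_card_of_det {z : GL (Fin n) F} (hz : z ∈ scalars (Fin n) F)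
    (hdet : (z : Matrix (Fin n) (Fin n) F).det = 1) : z ^ n = 1 := by
  obtain ⟨c, hc⟩ := (mem_scalars_iff z).mp hz
  apply Units.ext
  rw [Units.val_pow_eq_pow_val, hc, smul_pow, one_pow, Units.val_one]
  rw [hc, Matrix.det_smul, Matrix.det_one, mul_one, Fintype.card_fin] at hdet
  rw [hdet, one_smul]

omit [Fintype F] in
theorem det_comm_eq_one (x y : GL (Fin n) F) :
    ((y * x * y⁻¹ * x⁻¹ : GL (Fin n) F) : Matrix (Fin n) (Fin n) F).det = 1 := by
  have h1 : Matrix.GeneralLinearGroup.det (y * x * y⁻¹ * x⁻¹) = 1 := by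
    rw [map_mul, map_mul, map_mul, map_inv, map_inv]
    rw [mul_comm (Matrix.GeneralLinearGroup.det y) (Matrix.GeneralLinearGroup.det x)]
    simp
  have := congrArg (fun u : Fˣ => (u : F)) h1
  exact this

/-- the cardinality of the scalars divides `q - 1` -/
theorem card_scalars_dvd : Nat.card (scalars (Fin n) F) ∣ Fintype.card F - 1 := by
  have h := Subgroup.card_range_dvd
    (Units.map (Matrix.scalar (Fin n) : F →+* Matrix (Fin n) (Fin n) F).toMonoidHom)
  rw [Nat.card_units, Nat.card_eq_fintype_card (α := F)] at h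
  unfold scalars
  exact h

theorem sympOut_odd_in (hB : BasisStmt n F) (hn : 3 ≤ n) (H N : Subgroup (GL (Fin n) F)) (hNAI : NAIin H N)
    (hN : IsMinNrm H N) (hab : CommScalar N) (r : ℕ) (hr : r.Prime) (hodd : Odd r)
    (hexp : ∀ x ∈ N, x ^ r ∈ scalars (Fin n) F) :
    ∃ R : Subgroup (GL (Fin n) F), R ≤ N ∧ SympOut H R r r := by
  -- the power map is multiplicative
  have hmul : ∀ x ∈ N, ∀ y ∈ N, (x * y) ^ r = x ^ r * y ^ r := by
    intro x hx y hy
    have hcZ : y * x * y⁻¹ * x⁻¹ ∈ scalars (Fin n) F := hab y hy x hx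
    have hcr := comm_pow_eq_one hab hx hy (hexp x hx)
    obtain ⟨m, hm, hpow⟩ := pow_mul_of_central (comm_rel x y) (scalar_commute hcZ x)
      (scalar_commute hcZ y) r
    obtain ⟨s, hs⟩ := hodd
    have hm' : m = r * s := by
      subst hs
      have : 2 * m = 2 * ((2 * s + 1) * s) := by
        rw [hm]; simp only [Nat.add_sub_cancel]; ring
      omega
    rw [hpow, hm', pow_mul, hcr, one_pow, one_mul]
  -- a non-trivial commutator
  obtain ⟨x₀, hx₀, y₀, hy₀, hxy⟩ := exists_noncomm hNAI hN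
  set c₀ := y₀ * x₀ * y₀⁻¹ * x₀⁻¹ with hc₀
  have hc₀Z : c₀ ∈ scalars (Fin n) F := hab y₀ hy₀ x₀ hx₀
  have hc₀N : c₀ ∈ N := N.mul_mem (N.mul_mem (N.mul_mem hy₀ hx₀) (N.inv_mem hy₀)) (N.inv_mem hx₀)
  have hc₀r : c₀ ^ r = 1 := comm_pow_eq_one hab hx₀ hy₀ (hexp x₀ hx₀)
  have hc₀1 : c₀ ≠ 1 := by
    intro h
    apply hxy
    have := comm_rel x₀ y₀
    rw [← hc₀, h, one_mul] at this
    exact this
  have hord : orderOf c₀ = r := by
    have := Fact.mk hr
    exact orderOf_eq_prime hc₀r hc₀1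
  have hrn : r ∣ n := by
    rw [← hord]
    exact orderOf_dvd_of_pow_eq_one (scalar_pow_card_of_det hc₀Z (det_comm_eq_one x₀ y₀))
  have hrle : r ≤ n := Nat.le_of_dvd (by omega) hrn
  have he2 : r < n ^ 2 := by nlinarith
  obtain ⟨hnrm, hirr, hcs, hcard, hcent, hchar⟩ :=
    powKer_facts hNAI hN hab hB hr.pos he2 hmul hexp
  set R := powKer N r hmul with hR
  have hc₀R : c₀ ∈ R := ⟨hc₀N, hc₀r⟩
  -- the scalars of `R`
  have hT : Nat.card (R ⊓ scalars (Fin n) F : Subgroup (GL (Fin n) F)) = r := by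
    have hcyc := isCyclic_of_le_scalars (inf_le_right : R ⊓ scalars (Fin n) F ≤ scalars (Fin n) F)
    have hpow : ∀ a : (R ⊓ scalars (Fin n) F : Subgroup (GL (Fin n) F)), a ^ r = 1 := by
      rintro ⟨a, ha⟩
      ext1
      simpa using ha.1.2
    have hle := card_le_of_isCyclic_of_pow hr.pos hpow
    have hdvd : r ∣ Nat.card (R ⊓ scalars (Fin n) F : Subgroup (GL (Fin n) F)) := by
      have h1 := orderOf_dvd_natCard
        (⟨c₀, hc₀R, hc₀Z⟩ : (R ⊓ scalars (Fin n) F : Subgroup (GL (Fin n) F)))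
      rwa [← Subgroup.orderOf_coe, hord] at h1
    exact le_antisymm hle (Nat.le_of_dvd Nat.card_pos hdvd)
  have hrq : r ∣ Fintype.card F - 1 := by
    rw [← hT]
    exact (Subgroup.card_dvd_of_le inf_le_right).trans card_scalars_dvd
  have hq1 : 1 ≤ Fintype.card F := Fintype.card_pos
  refine ⟨R, powKer_le, ?_⟩
  refine
    { prime := hr
      coprime := ?_
      nrm := hnrm
      absIrred := hirr
      commScalar := hcs
      symplecticType :=
        { prime := hr
          pGroup := ?_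
          cyclic_of_characteristic := hchar
          exponent_eq := ?_ }
      card_center := by rw [hcent, hT]
      dvd := hrq
      scalar_pow := fun x hx _ => hx.2
      card_eq := by rw [hcard, hT, Fintype.card_fin] }
  · intro hdq
    have h1 : r ∣ Fintype.card F - (Fintype.card F - 1) := Nat.dvd_sub hdq hrq
    have h2 : Fintype.card F - (Fintype.card F - 1) = 1 := by omega
    rw [h2] at h1
    exact hr.one_lt.ne' (Nat.dvd_one.mp h1)
  · intro g
    refine ⟨1, ?_⟩
    ext1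
    simpa using g.2.2
  · have hgcd : Nat.gcd 2 r = 1 := Nat.coprime_two_left.mpr hodd
    rw [hgcd, mul_one]
    have hdvd : Monoid.exponent R ∣ r := by
      rw [Monoid.exponent_dvd_iff_forall_pow_eq_one]
      intro g
      ext1
      simpa using g.2.2
    rcases (Nat.dvd_prime hr).mp hdvd with h | h
    · exfalso
      rw [Monoid.exp_eq_one_iff] at h
      have := h.elim (⟨c₀, hc₀R⟩ : R) 1
      exact hc₀1 (congrArg Subtype.val this)
    · exact h

/-- ASCH-[BASIS] (helper47) + ASCH-[BURNSIDE] (helper39) -/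
theorem basisStmt (hn : 0 < n) : BasisStmt n F := fun S hS hc =>
  Cfsg.Agent.Lib.Helper47.AschBasis.card_eq_of_commScalar_of_span hn S hS hc
    (Cfsg.Agent.Lib.Helper99.Asch.span_eq_top_of_absIrred S hS)

theorem sympOut_odd_of (hB : BasisStmt n F) (hn : 3 ≤ n) (H N : Subgroup (GL (Fin n) F)) (hNAI : NAI H)
    (hN : IsMinNrm H N) (hab : CommScalar N) (r : ℕ) (hr : r.Prime) (hodd : Odd r)
    (hexp : ∀ x ∈ N, x ^ r ∈ scalars (Fin n) F) :
    ∃ R : Subgroup (GL (Fin n) F), SympOut H R r r := by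
  obtain ⟨R, _, hR⟩ := sympOut_odd_in hB hn H N (NAIin_of_NAI hNAI) hN hab r hr hodd hexp
  exact ⟨R, hR⟩

end Cfsg.Agent.Lib.Helper70.AschSymp

namespace Cfsg.Agent.Lib.Helper99.Asch

open Cfsg Cfsg.Geo

variable {n : ℕ} {F : Type*} [Field F] [Fintype F]

/-- ASCH-[RODD] (exact sheet statement) -/
theorem sympOut_odd (hn : 3 ≤ n) (H N : Subgroup (GL (Fin n) F)) (hNAI : NAI H)
    (hN : IsMinNrm H N) (hab : CommScalar N) (r : ℕ) (hr : r.Prime) (hodd : Odd r)
    (hexp : ∀ x ∈ N, x ^ r ∈ scalars (Fin n) F) :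
    ∃ R : Subgroup (GL (Fin n) F), SympOut H R r r :=
  Cfsg.Agent.Lib.Helper70.AschSymp.sympOut_odd_of
    (Cfsg.Agent.Lib.Helper70.AschSymp.basisStmt (by omega)) hn H N hNAI hN hab r hr hodd hexp

end Cfsg.Agent.Lib.Helper99.Asch
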