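/-
helper70, project ASCH (helper99, S5630).  MODULE ASCH-[RTWO]: `sympOut_two`.
`sympOut_two_of` takes the statement of ASCH-[BASIS] (`card_eq_of_commScalar`) as a hypothesis.

Proof.  As in [RODD] with `R = {x ∈ N | x⁴ = 1}`: commutators `c` satisfy `c² = 1`, `(x y)² = c x² y²` and, `c, x², y²` being
scalars, `(x y)⁴ = x⁴ y⁴`.  `4 < n²` since `n ≥ 3`, so `R` is not scalar by the counting argument with [BASIS].  The scalars of `R`
form a cyclic group `T` of exponent dividing 4 containing a non-trivial commutator (of order 2): if some element of `T` has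
order 4 then `|T| = 4`, otherwise `|T| = 2`.  `|T|` divides `|Z|`, which divides `q - 1`; in particular `q` is odd.  The exponent of
`R` is `4`: it divides `4`, and exponent `≤ 2` would make `R` abelian, hence scalar.
-/
import Mathlib
import Cfsg.Prelude.Def_GeometricClasses
import Cfsg.Agent.Lib.Helper99.AschDefs
import Cfsg.Agent.Lib.Helper70.AschSymp
import Cfsg.Agent.Lib.Helper70.AschRodd

set_option autoImplicit false

namespace Cfsg.Agent.Lib.Helper70.AschSymp

open Cfsg Cfsg.Geo Cfsg.Agent.Lib.Helper99.Asch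

variable {n : ℕ} {F : Type*} [Field F] [Fintype F]

theorem sympOut_two_in (hB : BasisStmt n F) (hn : 3 ≤ n) (H N : Subgroup (GL (Fin n) F)) (hNAI : NAIin H N)
    (hN : IsMinNrm H N) (hab : CommScalar N)
    (hexp : ∀ x ∈ N, x ^ 2 ∈ scalars (Fin n) F) :
    ∃ R : Subgroup (GL (Fin n) F), R ≤ N ∧ (SympOut H R 2 2 ∨ SympOut H R 2 4) := by
  have hscal : ∀ x ∈ N, x ^ 4 ∈ scalars (Fin n) F := by
    intro x hx
    have : x ^ 4 = x ^ 2 * x ^ 2 := by rw [← pow_add]
    rw [this]
    exact (scalars (Fin n) F).mul_mem (hexp x hx) (hexp x hx)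
  -- the fourth power map is multiplicative
  have hmul : ∀ x ∈ N, ∀ y ∈ N, (x * y) ^ 4 = x ^ 4 * y ^ 4 := by
    intro x hx y hy
    have hcZ : y * x * y⁻¹ * x⁻¹ ∈ scalars (Fin n) F := hab y hy x hx
    have hc2 := comm_pow_eq_one hab hx hy (hexp x hx)
    obtain ⟨m, hm, hpow⟩ := pow_mul_of_central (comm_rel x y) (scalar_commute hcZ x)
      (scalar_commute hcZ y) 2
    have hm' : m = 1 := by omega
    rw [hm', pow_one] at hpow
    set c := y * x * y⁻¹ * x⁻¹ with hc
    have h1 : (x * y) ^ 4 = ((x * y) ^ 2) ^ 2 := by rw [← pow_mul]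
    have hx2 : Commute (c * x ^ 2) (y ^ 2) := (scalar_commute (hexp y hy) (c * x ^ 2)).symm
    have hcx : Commute c (x ^ 2) := scalar_commute hcZ (x ^ 2)
    rw [h1, hpow, hx2.mul_pow, hcx.mul_pow, hc2, one_mul, ← pow_mul, ← pow_mul]
  have he2 : 4 < n ^ 2 := by nlinarith
  -- a non-trivial commutator
  obtain ⟨x₀, hx₀, y₀, hy₀, hxy⟩ := exists_noncomm hNAI hN
  set c₀ := y₀ * x₀ * y₀⁻¹ * x₀⁻¹ with hc₀
  have hc₀Z : c₀ ∈ scalars (Fin n) F := hab y₀ hy₀ x₀ hx₀
  have hc₀N : c₀ ∈ N := N.mul_mem (N.mul_mem (N.mul_mem hy₀ hx₀) (N.inv_mem hy₀)) (N.inv_mem hx₀)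
  have hc₀2 : c₀ ^ 2 = 1 := comm_pow_eq_one hab hx₀ hy₀ (hexp x₀ hx₀)
  have hc₀1 : c₀ ≠ 1 := by
    intro h
    apply hxy
    have := comm_rel x₀ y₀
    rw [← hc₀, h, one_mul] at this
    exact this
  have hord : orderOf c₀ = 2 := by
    have := Fact.mk Nat.prime_two
    exact orderOf_eq_prime hc₀2 hc₀1
  have hnot := powKer_not_le hNAI hN hab hB (by norm_num : 0 < 4) he2 hmul hscal
  obtain ⟨hnrm, hirr, hcs, hcard, hcent, hchar⟩ :=
    powKer_facts hNAI hN hab hB (by norm_num : 0 < 4) he2 hmul hscal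
  set R := powKer N 4 hmul with hR
  have hc₀R : c₀ ∈ R := by
    refine ⟨hc₀N, ?_⟩
    have : c₀ ^ 4 = (c₀ ^ 2) ^ 2 := by rw [← pow_mul]
    rw [this, hc₀2, one_pow]
  set T : Subgroup (GL (Fin n) F) := R ⊓ scalars (Fin n) F with hT
  have hcyc : IsCyclic T := isCyclic_of_le_scalars inf_le_right
  have hTq : Nat.card T ∣ Fintype.card F - 1 :=
    (Subgroup.card_dvd_of_le inf_le_right).trans card_scalars_dvd
  have h2T : 2 ∣ Nat.card T := by
    have h1 := orderOf_dvd_natCard (⟨c₀, hc₀R, hc₀Z⟩ : T)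
    rwa [← Subgroup.orderOf_coe, hord] at h1
  have hq1 : 1 ≤ Fintype.card F := Fintype.card_pos
  have hcop : ¬ 2 ∣ Fintype.card F := by
    intro h
    have := h2T.trans hTq
    omega
  -- exponent four
  have hexp4 : Monoid.exponent R = 2 * Nat.gcd 2 2 := by
    have hdvd : Monoid.exponent R ∣ 2 ^ 2 := by
      rw [Monoid.exponent_dvd_iff_forall_pow_eq_one]
      intro g
      ext1
      simpa using g.2.2
    obtain ⟨j, hj, hje⟩ := (Nat.dvd_prime_pow Nat.prime_two).mp hdvd
    interval_cases j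
    · exfalso
      rw [pow_zero, Monoid.exp_eq_one_iff] at hje
      have := hje.elim (⟨c₀, hc₀R⟩ : R) 1
      exact hc₀1 (congrArg Subtype.val this)
    · exfalso
      rw [pow_one] at hje
      apply hnot
      intro x hx
      apply mem_scalars_of_comm hirr
      intro s hs
      have := mul_comm_of_exponent_two hje (⟨x, hx⟩ : R) ⟨s, hs⟩
      exact congrArg Subtype.val this
    · rw [hje]; rfl
  have hST : IsSymplecticTypeGroup 2 R :=
    { prime := Nat.prime_two
      pGroup := by
        intro g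
        refine ⟨2, ?_⟩
        ext1
        simpa using g.2.2
      cyclic_of_characteristic := hchar
      exponent_eq := hexp4 }
  have hpow4 : ∀ a : T, a ^ 4 = 1 := by
    rintro ⟨a, ha⟩
    ext1
    simpa using ha.1.2
  have hle4 : Nat.card T ≤ 4 := card_le_of_isCyclic_of_pow (by norm_num) hpow4
  refine ⟨R, powKer_le, ?_⟩
  by_cases hcase : ∀ a : T, a ^ 2 = 1
  · -- all scalars of `R` have square one
    left
    have hle2 : Nat.card T ≤ 2 := card_le_of_isCyclic_of_pow (by norm_num) hcase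
    have hT2 : Nat.card T = 2 := le_antisymm hle2 (Nat.le_of_dvd Nat.card_pos h2T)
    exact
      { prime := Nat.prime_two
        coprime := hcop
        nrm := hnrm
        absIrred := hirr
        commScalar := hcs
        symplecticType := hST
        card_center := by rw [hcent, hT2]
        dvd := by rw [← hT2]; exact hTq
        scalar_pow := fun x hx hxZ => by
          have := hcase ⟨x, hx, hxZ⟩
          exact congrArg Subtype.val this
        card_eq := by rw [hcard, hT2, Fintype.card_fin] }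
  · right
    push Not at hcase
    obtain ⟨a, ha⟩ := hcase
    have hord4 : orderOf a = 2 ^ (1 + 1) := by
      have := Fact.mk Nat.prime_two
      apply orderOf_eq_prime_pow
      · simpa using ha
      · simpa using hpow4 a
    have h4T : 4 ∣ Nat.card T := by
      have h1 := orderOf_dvd_natCard a
      rwa [hord4] at h1
    have hT4 : Nat.card T = 4 := le_antisymm hle4 (Nat.le_of_dvd Nat.card_pos h4T)
    exact
      { prime := Nat.prime_two
        coprime := hcop
        nrm := hnrm
        absIrred := hirr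
        commScalar := hcs
        symplecticType := hST
        card_center := by rw [hcent, hT4]
        dvd := by rw [← hT4]; exact hTq
        scalar_pow := fun x hx _ => hx.2
        card_eq := by rw [hcard, hT4, Fintype.card_fin] }

theorem sympOut_two_of (hB : BasisStmt n F) (hn : 3 ≤ n) (H N : Subgroup (GL (Fin n) F)) (hNAI : NAI H)
    (hN : IsMinNrm H N) (hab : CommScalar N)
    (hexp : ∀ x ∈ N, x ^ 2 ∈ scalars (Fin n) F) :
    ∃ R : Subgroup (GL (Fin n) F), SympOut H R 2 2 ∨ SympOut H R 2 4 := by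
  obtain ⟨R, _, hR⟩ := sympOut_two_in hB hn H N (NAIin_of_NAI hNAI) hN hab hexp
  exact ⟨R, hR⟩

end Cfsg.Agent.Lib.Helper70.AschSymp

namespace Cfsg.Agent.Lib.Helper99.Asch

open Cfsg Cfsg.Geo

variable {n : ℕ} {F : Type*} [Field F] [Fintype F]

/-- ASCH-[RTWO] (exact sheet statement) -/
theorem sympOut_two (hn : 3 ≤ n) (H N : Subgroup (GL (Fin n) F)) (hNAI : NAI H)
    (hN : IsMinNrm H N) (hab : CommScalar N)
    (hexp : ∀ x ∈ N, x ^ 2 ∈ scalars (Fin n) F) :
    ∃ R : Subgroup (GL (Fin n) F), SympOut H R 2 2 ∨ SympOut H R 2 4 :=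
  Cfsg.Agent.Lib.Helper70.AschSymp.sympOut_two_of
    (Cfsg.Agent.Lib.Helper70.AschSymp.basisStmt (by omega)) hn H N hNAI hN hab hexp

end Cfsg.Agent.Lib.Helper99.Asch
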