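import Mathlib
import Cfsg.Agent.Lib.Helper72.Wielandt

/-!
# Wielandt's second maximizer lemma (helper70)

If `A < G` has full normal closure and the join `Y` of all proper subgroups `H ≥ A` with
`A^H = H` is proper, then `A` lies in a unique maximal subgroup.
-/

set_option autoImplicit false
open scoped Pointwise

namespace Cfsg.Agent.Lib.Helper70.Maximizer

open Cfsg.Agent.Lib.Helper72

universe u
variable {G : Type u} [Group G]

/-- conjugate of a subgroup -/
abbrev cj (g : G) (X : Subgroup G) : Subgroup G := MulAut.conj g • X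

theorem cj_mul (g h : G) (X : Subgroup G) : cj (g * h) X = cj g (cj h X) := by
  unfold cj; rw [map_mul, mul_smul]

theorem cj_one (X : Subgroup G) : cj 1 X = X := by
  unfold cj; rw [map_one, one_smul]

theorem cj_inv_cj (g : G) (X : Subgroup G) : cj g⁻¹ (cj g X) = X := by
  rw [← cj_mul, inv_mul_cancel, cj_one]

theorem cj_cj_inv (g : G) (X : Subgroup G) : cj g (cj g⁻¹ X) = X := by
  rw [← cj_mul, mul_inv_cancel, cj_one]

theorem cj_le_cj_iff (g : G) {X Y : Subgroup G} : cj g X ≤ cj g Y ↔ X ≤ Y :=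
  Subgroup.pointwise_smul_le_pointwise_smul_iff

theorem cj_le_iff (g : G) {X Y : Subgroup G} : cj g X ≤ Y ↔ X ≤ cj g⁻¹ Y := by
  rw [← cj_le_cj_iff g⁻¹, cj_inv_cj]

theorem le_cj_iff (g : G) {X Y : Subgroup G} : X ≤ cj g Y ↔ cj g⁻¹ X ≤ Y := by
  rw [← cj_le_cj_iff g⁻¹, cj_inv_cj]

theorem cj_injective (g : G) {X Y : Subgroup G} (h : cj g X = cj g Y) : X = Y := by
  have := congrArg (cj g⁻¹) h
  rwa [cj_inv_cj, cj_inv_cj] at this

theorem card_cj (g : G) (X : Subgroup G) : Nat.card (cj g X) = Nat.card X :=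
  Nat.card_congr (Subgroup.equivSMul (MulAut.conj g) X).toEquiv.symm

theorem cj_eq_self_of_mem {g : G} {H : Subgroup G} (hg : g ∈ H) : cj g H = H :=
  Subgroup.conj_smul_eq_self_of_mem hg

theorem cj_le_of_mem {g : G} {X H : Subgroup G} (hX : X ≤ H) (hg : g ∈ H) : cj g X ≤ H := by
  rw [← cj_eq_self_of_mem hg]; exact (cj_le_cj_iff g).mpr hX

theorem cj_top (g : G) : cj g (⊤ : Subgroup G) = ⊤ := by
  rw [eq_top_iff, le_cj_iff]; exact le_top

theorem cj_ne_top (g : G) {X : Subgroup G} (h : X ≠ ⊤) : cj g X ≠ ⊤ := by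
  intro h'
  apply h
  have := congrArg (cj g⁻¹) h'
  rwa [cj_inv_cj, cj_top] at this

theorem isCoatom_cj (g : G) {M : Subgroup G} (hM : IsCoatom M) : IsCoatom (cj g M) := by
  refine ⟨cj_ne_top g hM.1, ?_⟩
  intro X hX
  have h1 : M < cj g⁻¹ X := by
    refine lt_of_le_of_ne ((cj_le_iff g).mp hX.le) ?_
    intro h
    apply hX.ne
    rw [h, cj_cj_inv]
  have := hM.2 _ h1
  have h2 := congrArg (cj g) this
  rwa [cj_cj_inv, cj_top] at h2

theorem cj_lt_of_lt_card [Finite G] {X Y : Subgroup G} (hXY : X ≤ Y) (hne : X ≠ Y) :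
    Nat.card X < Nat.card Y := by
  by_contra h
  exact hne (Subgroup.eq_of_le_of_card_ge hXY (not_lt.mp h))

theorem eq_of_le_of_cj [Finite G] {g h : G} {A : Subgroup G} (hle : cj g A ≤ cj h A) :
    cj g A = cj h A := by
  apply Subgroup.eq_of_le_of_card_ge hle
  rw [card_cj, card_cj]

/-- the subgroup generated by the conjugates `A^s`, `s ∈ S`. -/
def gen (A : Subgroup G) (S : Set G) : Subgroup G := ⨆ s ∈ S, cj s A

theorem cj_le_gen {A : Subgroup G} {S : Set G} {s : G} (hs : s ∈ S) : cj s A ≤ gen A S :=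
  le_biSup (fun s => cj s A) hs

theorem gen_le {A X : Subgroup G} {S : Set G} (h : ∀ s ∈ S, cj s A ≤ X) : gen A S ≤ X :=
  iSup₂_le h

theorem gen_mono {A : Subgroup G} {S T : Set G} (h : S ⊆ T) : gen A S ≤ gen A T :=
  gen_le (fun _ hs => cj_le_gen (h hs))

theorem gen_mono_left {A B : Subgroup G} (S : Set G) (h : A ≤ B) : gen A S ≤ gen B S :=
  gen_le (fun _ hs => ((cj_le_cj_iff _).mpr h).trans (cj_le_gen hs))

theorem cj_gen_le {A : Subgroup G} {S T : Set G} {x : G} (h : ∀ s ∈ S, x * s ∈ T) :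
    cj x (gen A S) ≤ gen A T := by
  rw [cj_le_iff]
  apply gen_le
  intro s hs
  rw [← cj_le_iff, ← cj_mul]
  exact cj_le_gen (h s hs)

theorem le_gen {A : Subgroup G} (T : Subgroup G) : A ≤ gen A (T : Set G) := by
  have := cj_le_gen (A := A) (S := (T : Set G)) T.one_mem
  rwa [cj_one] at this

theorem gen_le_self {A T : Subgroup G} (h : A ≤ T) : gen A (T : Set G) ≤ T :=
  gen_le (fun _ hs => cj_le_of_mem h hs)

theorem le_normalizer_gen [Finite G] (A T : Subgroup G) :
    T ≤ Subgroup.normalizer ((gen A (T : Set G) : Subgroup G) : Set G) := by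
  apply le_normalizer_of_conj_smul_le
  intro x hx
  exact cj_gen_le (fun s hs => T.mul_mem hx hs)

theorem cj_gen_eq [Finite G] (A T : Subgroup G) {x : G} (hx : x ∈ T) :
    cj x (gen A (T : Set G)) = gen A (T : Set G) :=
  conj_smul_eq_of_mem_normalizer (le_normalizer_gen A T hx)

theorem gen_eq_of_le_normalizer {A T : Subgroup G}
    (h : T ≤ Subgroup.normalizer (A : Set G)) : gen A (T : Set G) = A := by
  apply le_antisymm
  · apply gen_le
    intro s hs
    exact (conj_smul_eq_of_mem_normalizer (h hs)).le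
  · exact le_gen T

/-- a subgroup normalised by `T` and containing `A` contains `gen A T`. -/
theorem gen_le_of_normalizer {A N T : Subgroup G} (hA : A ≤ N)
    (hT : T ≤ Subgroup.normalizer (N : Set G)) : gen A (T : Set G) ≤ N := by
  apply gen_le
  intro s hs
  calc cj s A ≤ cj s N := (cj_le_cj_iff s).mpr hA
    _ = N := conj_smul_eq_of_mem_normalizer (hT hs)

/-- a subnormal subgroup whose relative normal closure is everything is everything. -/
theorem RelSN_eq_of_gen_eq {A H : Subgroup G} (h : RelSN A H) :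
    gen A (H : Set G) = H → A = H := by
  induction h with
  | refl H => intro _; rfl
  | step A B H hAB hBH hN ih =>
    intro hgen
    have h1 : gen B (H : Set G) = H :=
      le_antisymm (gen_le_self hBH.le) (hgen.symm.le.trans (gen_mono_left _ hAB))
    have h2 : B = H := ih h1
    subst h2
    rw [gen_eq_of_le_normalizer hN] at hgen
    exact hgen

/-- the subnormal closure exists. -/
theorem exists_sn_closure [Finite G] (A : Subgroup G) :
    ∀ X : Subgroup G, A ≤ X → ∃ S : Subgroup G, A ≤ S ∧ RelSN S X ∧ gen A (S : Set G) = S := by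
  intro X
  induction X using WellFoundedLT.induction with
  | ind X ih =>
    intro hAX
    by_cases h : gen A (X : Set G) = X
    · exact ⟨X, hAX, RelSN.refl X, h⟩
    · have hlt : gen A (X : Set G) < X := lt_of_le_of_ne (gen_le_self hAX) h
      obtain ⟨S, hAS, hSX, hS⟩ := ih _ hlt (le_gen X)
      exact ⟨S, hAS, hSX.trans (RelSN.of_normal hlt.le (le_normalizer_gen A X)), hS⟩

/-- bridging the statement's normal closure condition. -/
theorem normalClosure_subgroupOf_eq_top_iff [Finite G] {A H : Subgroup G} (hAH : A ≤ H) :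
    Subgroup.normalClosure ((A.subgroupOf H : Subgroup ↥H) : Set ↥H) = ⊤ ↔
      gen A (H : Set G) = H := by
  constructor
  · intro h
    apply le_antisymm (gen_le_self hAH)
    -- comap of gen is normal in H and contains A.subgroupOf H
    have hnorm : ((gen A (H : Set G)).subgroupOf H).Normal :=
      Subgroup.normal_subgroupOf_of_le_normalizer (le_normalizer_gen A H)
    have hle : Subgroup.normalClosure ((A.subgroupOf H : Subgroup ↥H) : Set ↥H) ≤
        (gen A (H : Set G)).subgroupOf H := by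
      apply Subgroup.normalClosure_le_normal
      intro x hx
      exact (le_gen H) hx
    rw [h] at hle
    intro x hx
    have : (⟨x, hx⟩ : H) ∈ (gen A (H : Set G)).subgroupOf H := hle (Subgroup.mem_top _)
    exact this
  · intro h
    rw [eq_top_iff]
    -- the image of the normal closure contains each conjugate
    have key : gen A (H : Set G) ≤
        (Subgroup.normalClosure ((A.subgroupOf H : Subgroup ↥H) : Set ↥H)).map H.subtype := by
      apply gen_le
      intro s hs a ha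
      obtain ⟨b, hb, rfl⟩ := ha
      have hbH : b ∈ H := hAH hb
      refine ⟨(⟨s, hs⟩ : H) * ⟨b, hbH⟩ * (⟨s, hs⟩ : H)⁻¹, ?_, ?_⟩
      · apply Subgroup.Normal.conj_mem Subgroup.normalClosure_normal
        apply Subgroup.subset_normalClosure
        exact hb
      · simp [MulAut.conj_apply]
    intro x _
    have hx : (x : G) ∈ gen A (H : Set G) := by rw [h]; exact x.2
    obtain ⟨y, hy, hyx⟩ := key hx
    have : y = x := Subtype.ext hyx
    rwa [this] at hy

/-- the family of the statement. -/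
def calH (A : Subgroup G) : Set (Subgroup G) :=
  {H : Subgroup G | A ≤ H ∧ H ≠ ⊤ ∧
    Subgroup.normalClosure ((A.subgroupOf H : Subgroup ↥H) : Set ↥H) = ⊤}

theorem mem_calH_iff [Finite G] {A H : Subgroup G} :
    H ∈ calH A ↔ A ≤ H ∧ H ≠ ⊤ ∧ gen A (H : Set G) = H := by
  constructor
  · rintro ⟨h1, h2, h3⟩
    exact ⟨h1, h2, (normalClosure_subgroupOf_eq_top_iff h1).mp h3⟩
  · rintro ⟨h1, h2, h3⟩
    exact ⟨h1, h2, (normalClosure_subgroupOf_eq_top_iff h1).mpr h3⟩

/-- the join of the family. -/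
def Yj (A : Subgroup G) : Subgroup G := sSup (calH A)

theorem self_mem_calH [Finite G] {A : Subgroup G} (hA : A ≠ ⊤) : A ∈ calH A := by
  rw [mem_calH_iff]
  exact ⟨le_rfl, hA, gen_eq_of_le_normalizer Subgroup.le_normalizer⟩

theorem le_Yj [Finite G] {A : Subgroup G} (hA : A ≠ ⊤) : A ≤ Yj A :=
  le_sSup (self_mem_calH hA)

theorem gen_Yj [Finite G] {A : Subgroup G} (hA : A ≠ ⊤) : gen A (Yj A : Set G) = Yj A := by
  apply le_antisymm (gen_le_self (le_Yj hA))
  apply sSup_le
  intro H hH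
  have hH' := mem_calH_iff.mp hH
  calc H = gen A (H : Set G) := hH'.2.2.symm
    _ ≤ gen A (Yj A : Set G) := gen_mono (fun x hx => (le_sSup hH) hx)

theorem gen_top_eq_normalClosure [Finite G] (A : Subgroup G) :
    gen A ((⊤ : Subgroup G) : Set G) = Subgroup.normalClosure (A : Set G) := by
  apply le_antisymm
  · apply gen_le
    intro s _ a ha
    obtain ⟨b, hb, rfl⟩ := ha
    have : (MulAut.conj s) b = s * b * s⁻¹ := by simp [MulAut.conj_apply]
    show (MulAut.conj s) b ∈ _
    rw [this]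
    exact Subgroup.Normal.conj_mem Subgroup.normalClosure_normal b
      (Subgroup.subset_normalClosure hb) s
  · have hnorm : (gen A ((⊤ : Subgroup G) : Set G)).Normal := by
      rw [← Subgroup.normalizer_eq_top_iff, eq_top_iff]
      exact le_normalizer_gen A ⊤
    apply Subgroup.normalClosure_le_normal
    exact le_gen ⊤

/-- subnormal with full normal closure means everything -/
theorem RelSN_top_eq [Finite G] {B : Subgroup G} (h : RelSN B ⊤)
    (hB : Subgroup.normalClosure (B : Set G) = ⊤) : B = ⊤ := by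
  apply RelSN_eq_of_gen_eq h
  rw [gen_top_eq_normalClosure, hB]

theorem normalClosure_eq_top_of_le [Finite G] {A B : Subgroup G} (g : G)
    (hA : Subgroup.normalClosure (A : Set G) = ⊤) (h : cj g A ≤ B) :
    Subgroup.normalClosure (B : Set G) = ⊤ := by
  rw [eq_top_iff, ← hA]
  apply Subgroup.normalClosure_le_normal
  intro a ha
  have h1 : (MulAut.conj g) a ∈ cj g A := ⟨a, ha, rfl⟩
  have h2 : (MulAut.conj g) a ∈ Subgroup.normalClosure (B : Set G) :=
    Subgroup.subset_normalClosure (h h1)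
  have h3 := Subgroup.Normal.conj_mem Subgroup.normalClosure_normal _ h2 g⁻¹
  simpa [MulAut.conj_apply, mul_assoc] using h3

/-- Lemma B: `Y` is contained in a largest proper subgroup. -/
theorem exists_max_over_Yj [Finite G] {A : Subgroup G}
    (hA : Subgroup.normalClosure (A : Set G) = ⊤) (hAG : A ≠ ⊤) (hY : Yj A ≠ ⊤) :
    ∃ M : Subgroup G, IsCoatom M ∧ Yj A ≤ M ∧
      ∀ H : Subgroup G, Yj A ≤ H → H ≠ ⊤ → H ≤ M := by
  have hsn : ∀ H : Subgroup G, Yj A ≤ H → H < ⊤ → RelSN (Yj A) H := by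
    intro H hYH hH
    obtain ⟨S, hAS, hSH, hS⟩ := exists_sn_closure A H ((le_Yj hAG).trans hYH)
    have hSne : S ≠ ⊤ := fun h => hH.ne (top_le_iff.mp (h ▸ hSH.le))
    have hSY : S ≤ Yj A := le_sSup (mem_calH_iff.mpr ⟨hAS, hSne, hS⟩)
    have h1 : RelSN (S ⊓ Yj A) (Yj A) := hSH.inf (Yj A) hYH
    have h2 : gen (S ⊓ Yj A) (Yj A : Set G) = Yj A := by
      apply le_antisymm (gen_le_self inf_le_right)
      calc Yj A = gen A (Yj A : Set G) := (gen_Yj hAG).symm
        _ ≤ gen (S ⊓ Yj A) (Yj A : Set G) := gen_mono_left _ (le_inf hAS (le_Yj hAG))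
    have h3 : S ⊓ Yj A = Yj A := RelSN_eq_of_gen_eq h1 h2
    have h4 : Yj A ≤ S := inf_eq_right.mp h3
    have h5 : S = Yj A := le_antisymm hSY h4
    rwa [h5] at hSH
  have hnot : ¬ RelSN (Yj A) ⊤ := by
    intro h
    apply hY
    exact RelSN_top_eq h (normalClosure_eq_top_of_le 1 hA (by rw [cj_one]; exact le_Yj hAG))
  obtain ⟨M, hYM, hMlt, hM⟩ := zipper_rel ⊤ (Yj A) le_top hsn hnot
  refine ⟨M, ⟨hMlt.ne, ?_⟩, hYM, fun H hYH hH => hM H hYH (lt_top_iff_ne_top.mpr hH)⟩
  intro X hX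
  by_contra hXt
  exact absurd (hM X (hYM.trans hX.le) (lt_top_iff_ne_top.mpr hXt)) (not_le_of_gt hX)

theorem coatom_eq_of_le {K L : Subgroup G} (hK : IsCoatom K) (hL : IsCoatom L) (h : K ≤ L) :
    K = L := by
  by_contra hne
  exact hL.1 (hK.2 L (lt_of_le_of_ne h hne))

theorem RelSN_bot (H : Subgroup G) : RelSN (⊥ : Subgroup G) H := by
  apply RelSN.of_normal bot_le
  intro x _
  rw [Subgroup.mem_normalizer_iff]
  intro y
  simp only [Subgroup.mem_bot]
  constructor
  · intro h; rw [h]; simp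
  · intro h
    have : x * y = x := by
      have := congrArg (· * x) h
      simpa using this
    exact mul_eq_left.mp this

theorem RelSN_gen [Finite G] {A H : Subgroup G} {S : Set G}
    (h : ∀ s ∈ S, RelSN (cj s A) H) : RelSN (gen A S) H := by
  classical
  have hfin : S.Finite := Set.toFinite S
  have hgen : gen A S = hfin.toFinset.sup (fun s => cj s A) := by
    rw [Finset.sup_eq_iSup]
    unfold gen
    simp only [Set.Finite.mem_toFinset]
  rw [hgen]
  apply Finset.sup_induction (p := fun X => RelSN X H)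
  · exact RelSN_bot H
  · intro X hX Z hZ
    exact hX.sup hZ
  · intro s hs
    exact h s ((Set.Finite.mem_toFinset hfin).mp hs)

/-- the context of a minimal counterexample. -/
structure Ctx (A M : Subgroup G) : Prop where
  hA : Subgroup.normalClosure (A : Set G) = ⊤
  hM : IsCoatom M
  hAM : A ≤ M
  good : ∀ K : Subgroup G, IsCoatom K → A ≤ K → K ≠ M → RelSN A K
  IH : ∀ B P : Subgroup G, Nat.card A < Nat.card B →
      Subgroup.normalClosure (B : Set G) = ⊤ → P ≠ ⊤ →
      (∀ H : Subgroup G, B ≤ H → H ≠ ⊤ → gen B (H : Set G) = H → H ≤ P) →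
      ∀ L₁ L₂ : Subgroup G, IsCoatom L₁ → IsCoatom L₂ → B ≤ L₁ → B ≤ L₂ → L₁ = L₂

namespace Ctx

variable {A M : Subgroup G}

theorem good_cj (c : Ctx A M) (g : G) {L : Subgroup G} (hL : IsCoatom L)
    (hAL : cj g A ≤ L) (hne : L ≠ cj g M) : RelSN (cj g A) L := by
  have h1 : IsCoatom (cj g⁻¹ L) := isCoatom_cj _ hL
  have h2 : A ≤ cj g⁻¹ L := (cj_le_iff g).mp hAL
  have h3 : cj g⁻¹ L ≠ M := by
    intro h
    apply hne
    rw [← h, cj_cj_inv]
  have h4 := (c.good _ h1 h2 h3).smul g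
  have h5 : MulAut.conj g • cj g⁻¹ L = L := cj_cj_inv g L
  rwa [h5] at h4

theorem good_cj' [Finite G] (c : Ctx A M) (g : G) {H : Subgroup G} (hH : H ≠ ⊤)
    (hAH : cj g A ≤ H) (hne : ¬ H ≤ cj g M) : RelSN (cj g A) H := by
  obtain ⟨L, hL, hHL⟩ := (eq_top_or_exists_le_coatom H).resolve_left hH
  have h1 : L ≠ cj g M := by
    intro h
    exact hne (h ▸ hHL)
  exact (c.good_cj g hL (hAH.trans hHL) h1).restrict hAH hHL

theorem mem_of_cj_eq [Finite G] (c : Ctx A M) {g : G} (h : cj g M = M) : g ∈ M := by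
  have h1 : g ∈ Subgroup.normalizer (M : Set G) := mem_normalizer_of_conj_smul_le h.le
  rcases eq_or_lt_of_le (Subgroup.le_normalizer (H := M)) with h2 | h2
  · rw [h2]; exact h1
  · exfalso
    have h3 : Subgroup.normalizer (M : Set G) = ⊤ := c.hM.2 _ h2
    have h4 : M.Normal := Subgroup.normalizer_eq_top_iff.mp h3
    have h5 : Subgroup.normalClosure (A : Set G) ≤ M := Subgroup.normalClosure_le_normal c.hAM
    rw [c.hA] at h5
    exact c.hM.1 (top_le_iff.mp h5)

theorem card_lt_of_cj_ne [Finite G] {S : Set G} {s : G} (hs : s ∈ S)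
    (hne : cj s A ≠ gen A S) : Nat.card A < Nat.card (gen A S) := by
  rw [← card_cj s A]
  exact cj_lt_of_lt_card (cj_le_gen hs) hne

/-- P3 -/
theorem P3 [Finite G] (c : Ctx A M) (S : Set G)
    (hne : ∃ s ∈ S, cj s A ≠ gen A S)
    (huniq : ∀ s ∈ S, ∀ t ∈ S, gen A S ≤ cj s M → gen A S ≤ cj t M → cj s M = cj t M)
    {L₁ L₂ : Subgroup G} (hL₁ : IsCoatom L₁) (hL₂ : IsCoatom L₂)
    (h₁ : gen A S ≤ L₁) (h₂ : gen A S ≤ L₂) : L₁ = L₂ := by
  obtain ⟨s₁, hs₁, hs₁ne⟩ := hne
  have hcard := card_lt_of_cj_ne hs₁ hs₁ne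
  have hnc : Subgroup.normalClosure ((gen A S : Subgroup G) : Set G) = ⊤ :=
    normalClosure_eq_top_of_le s₁ c.hA (cj_le_gen hs₁)
  have hBne : gen A S ≠ ⊤ := fun h => hL₁.1 (top_le_iff.mp (h ▸ h₁))
  -- every member of calH either equals B or lies in a bad subgroup
  have hkey : ∀ H : Subgroup G, gen A S ≤ H → H ≠ ⊤ → gen (gen A S) (H : Set G) = H →
      H = gen A S ∨ ∃ s ∈ S, H ≤ cj s M := by
    intro H hBH hH hgen
    by_cases hex : ∃ s ∈ S, H ≤ cj s M
    · exact Or.inr hex
    · left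
      push Not at hex
      have hsn : RelSN (gen A S) H :=
        RelSN_gen (fun s hs => c.good_cj' s hH ((cj_le_gen hs).trans hBH) (hex s hs))
      exact (RelSN_eq_of_gen_eq hsn hgen).symm
  by_cases hcase : ∃ s₀ ∈ S, gen A S ≤ cj s₀ M
  · obtain ⟨s₀, hs₀, hBs₀⟩ := hcase
    refine c.IH (gen A S) (cj s₀ M) hcard hnc (isCoatom_cj s₀ c.hM).1 ?_ L₁ L₂ hL₁ hL₂ h₁ h₂
    intro H hBH hH hgen
    rcases hkey H hBH hH hgen with h | ⟨s, hs, hHs⟩
    · rw [h]; exact hBs₀
    · have := huniq s hs s₀ hs₀ (hBH.trans hHs) hBs₀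
      rw [← this]; exact hHs
  · push Not at hcase
    refine c.IH (gen A S) (gen A S) hcard hnc hBne ?_ L₁ L₂ hL₁ hL₂ h₁ h₂
    intro H hBH hH hgen
    rcases hkey H hBH hH hgen with h | ⟨s, hs, hHs⟩
    · exact h.le
    · exact absurd (hBH.trans hHs) (hcase s hs)

theorem gen_pair (A : Subgroup G) (g h : G) : gen A ({g, h} : Set G) = cj g A ⊔ cj h A := by
  apply le_antisymm
  · apply gen_le
    intro s hs
    rcases hs with rfl | hs
    · exact le_sup_left
    · rw [Set.mem_singleton_iff] at hs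
      subst hs
      exact le_sup_right
  · exact sup_le (cj_le_gen (by simp)) (cj_le_gen (by simp))

/-- P3 for pairs: two distinct conjugates generating a subgroup inside two different maximal
subgroups have different bad subgroups and lie in both of them. -/
theorem P3b [Finite G] (c : Ctx A M) {g h : G} (hne : cj g A ≠ cj h A)
    {L₁ L₂ : Subgroup G} (hL₁ : IsCoatom L₁) (hL₂ : IsCoatom L₂) (hL : L₁ ≠ L₂)
    (h₁ : cj g A ⊔ cj h A ≤ L₁) (h₂ : cj g A ⊔ cj h A ≤ L₂) :
    cj g M ≠ cj h M ∧ cj g A ≤ cj h M ∧ cj h A ≤ cj g M := by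
  by_contra hcon
  apply hL
  have hgen := gen_pair A g h
  refine c.P3 ({g, h} : Set G) ⟨g, by simp, ?_⟩ ?_ hL₁ hL₂ (hgen ▸ h₁) (hgen ▸ h₂)
  · rw [hgen]
    intro heq
    apply hne
    have h3 : cj h A ≤ cj g A := by
      calc cj h A ≤ cj g A ⊔ cj h A := le_sup_right
        _ = cj g A := heq.symm
    exact (eq_of_le_of_cj h3).symm
  · rw [hgen]
    intro s hs t ht hs' ht'
    by_contra hst
    apply hcon
    rcases hs with rfl | hs <;> rcases ht with rfl | ht
    · exact absurd rfl hst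
    · rw [Set.mem_singleton_iff] at ht
      subst ht
      exact ⟨hst, le_sup_left.trans ht', le_sup_right.trans hs'⟩
    · rw [Set.mem_singleton_iff] at hs
      subst hs
      exact ⟨fun h => hst h.symm, le_sup_left.trans hs', le_sup_right.trans ht'⟩
    · rw [Set.mem_singleton_iff] at hs ht
      subst hs; subst ht
      exact absurd rfl hst

/-- Lemma J: a relative normal closure not inside `M` lies in a unique maximal subgroup. -/
theorem unique_of_gen_not_le [Finite G] (c : Ctx A M) (T : Subgroup G)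
    (hT : ¬ gen A (T : Set G) ≤ M)
    {L₁ L₂ : Subgroup G} (hL₁ : IsCoatom L₁) (hL₂ : IsCoatom L₂)
    (h₁ : gen A (T : Set G) ≤ L₁) (h₂ : gen A (T : Set G) ≤ L₂) : L₁ = L₂ := by
  refine c.P3 (T : Set G) ⟨1, T.one_mem, ?_⟩ ?_ hL₁ hL₂ h₁ h₂
  · rw [cj_one]
    intro h
    apply hT
    rw [← h]
    exact c.hAM
  · intro s hs t _ hs' _
    exfalso
    apply hT
    have h1 := (cj_le_cj_iff s⁻¹).mpr hs'
    rwa [cj_inv_cj, cj_gen_eq A T (T.inv_mem hs)] at h1

/-- Lemma K: inside every other maximal subgroup `K` there is a subgroup `U ∋ A`, not inside `M`,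
whose conjugates of `A` all lie in `M`, and which lies in no maximal subgroup other than `K`. -/
theorem exists_U [Finite G] (c : Ctx A M) {K : Subgroup G} (hK : IsCoatom K) (hAK : A ≤ K)
    (hKM : K ≠ M) :
    ∃ U : Subgroup G, A ≤ U ∧ U ≤ K ∧ ¬ U ≤ M ∧ gen A (U : Set G) ≤ M ∧
      ∀ L : Subgroup G, IsCoatom L → U ≤ L → L = K := by
  have hsn : RelSN A K := c.good K hK hAK hKM
  have main : ∀ T : Subgroup G, A ≤ T → T ≤ K → ¬ T ≤ M →
      (∀ L : Subgroup G, IsCoatom L → T ≤ L → L = K) →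
      ∃ U : Subgroup G, A ≤ U ∧ U ≤ K ∧ ¬ U ≤ M ∧ gen A (U : Set G) ≤ M ∧
        ∀ L : Subgroup G, IsCoatom L → U ≤ L → L = K := by
    intro T
    induction T using WellFoundedLT.induction with
    | ind T ih =>
      intro hAT hTK hTM hTL
      by_cases hcase : gen A (T : Set G) ≤ M
      · exact ⟨T, hAT, hTK, hTM, hcase, hTL⟩
      · have hne : gen A (T : Set G) ≠ T := by
          intro h
          have h1 : A = T := RelSN_eq_of_gen_eq (hsn.restrict hAT hTK) h
          exact hTM (h1 ▸ c.hAM)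
        have hlt : gen A (T : Set G) < T := lt_of_le_of_ne (gen_le_self hAT) hne
        refine ih _ hlt (le_gen T) (hlt.le.trans hTK) hcase ?_
        intro L hL hTL'
        exact c.unique_of_gen_not_le T hcase hL hK hTL' (hlt.le.trans hTK)
  refine main K hAK le_rfl ?_ ?_
  · intro h
    exact hKM (coatom_eq_of_le hK c.hM h)
  · intro L hL hKL
    exact (coatom_eq_of_le hK hL hKL).symm

end Ctx

/-- the subgroup generated by the conjugates of `A` inside `I`. -/
def R (A I : Subgroup G) : Subgroup G := gen A {g : G | cj g A ≤ I}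

theorem R_le (A I : Subgroup G) : R A I ≤ I := gen_le (fun _ hs => hs)

theorem cj_le_R {A I : Subgroup G} {g : G} (h : cj g A ≤ I) : cj g A ≤ R A I :=
  cj_le_gen (S := {g : G | cj g A ≤ I}) h

theorem R_R (A I : Subgroup G) : R A (R A I) = R A I := by
  apply le_antisymm (R_le A _)
  apply gen_le
  intro g hg
  exact cj_le_R (cj_le_R hg)

theorem R_mono (A : Subgroup G) {I J : Subgroup G} (h : I ≤ J) : R A I ≤ R A J :=
  gen_mono (fun _ hg => le_trans hg h)

/-- flats -/
def IsFlat (A F : Subgroup G) : Prop :=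
  R A F = F ∧ ∃ L₁ L₂ : Subgroup G, IsCoatom L₁ ∧ IsCoatom L₂ ∧ L₁ ≠ L₂ ∧ F ≤ L₁ ∧ F ≤ L₂

namespace Ctx

variable {A M : Subgroup G}

/-- Lemma L. -/
theorem flat_cj_le [Finite G] (c : Ctx A M) {F : Subgroup G} (hF : IsFlat A F) {g h : G}
    (hg : cj g A ≤ F) (hh : cj h A ≤ F) : cj g A ≤ cj h M := by
  by_cases hne : cj g A = cj h A
  · rw [hne]; exact (cj_le_cj_iff h).mpr c.hAM
  · obtain ⟨_, L₁, L₂, hL₁, hL₂, hL, h₁, h₂⟩ := hF
    exact (c.P3b hne hL₁ hL₂ hL ((sup_le hg hh).trans h₁) ((sup_le hg hh).trans h₂)).2.1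

theorem flat_le [Finite G] (c : Ctx A M) {F : Subgroup G} (hF : IsFlat A F) {h : G}
    (hh : cj h A ≤ F) : F ≤ cj h M := by
  rw [← hF.1]
  exact gen_le (fun g hg => c.flat_cj_le hF hg hh)

/-- Lemma M. -/
theorem maxflat_absorb [Finite G] (c : Ctx A M) {B : Subgroup G} (hB : IsFlat A B)
    (hmax : ∀ F : Subgroup G, IsFlat A F → B ≤ F → F ≤ B) {g h : G}
    (hg : cj g A ≤ B) (hh : cj h A ≤ B) (hgh : cj g M ≠ cj h M) {k : G}
    (hk : cj k A ≤ cj g M ⊓ cj h M) : cj k A ≤ B := by
  have hflat : IsFlat A (R A (cj g M ⊓ cj h M)) :=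
    ⟨R_R A _, cj g M, cj h M, isCoatom_cj g c.hM, isCoatom_cj h c.hM, hgh,
      (R_le A _).trans inf_le_left, (R_le A _).trans inf_le_right⟩
  have hle : B ≤ R A (cj g M ⊓ cj h M) := by
    calc B = R A B := hB.1.symm
      _ ≤ R A (cj g M ⊓ cj h M) := R_mono A (le_inf (c.flat_le hB hg) (c.flat_le hB hh))
  exact (cj_le_R hk).trans (hmax _ hflat hle)

/-- Lemma N'. -/
theorem maxflat_normalizer [Finite G] (c : Ctx A M) {B : Subgroup G} (hB : IsFlat A B)
    (hmax : ∀ F : Subgroup G, IsFlat A F → B ≤ F → F ≤ B) {x g h g' h' : G}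
    (hg : cj g A ≤ B) (hh : cj h A ≤ B) (hg' : cj g' A ≤ B) (hh' : cj h' A ≤ B)
    (hgh : cj g M ≠ cj h M) (hxg : cj x (cj g M) = cj g' M) (hxh : cj x (cj h M) = cj h' M) :
    x ∈ Subgroup.normalizer (B : Set G) := by
  apply mem_normalizer_of_conj_smul_le
  show cj x B ≤ B
  have hg'h' : cj g' M ≠ cj h' M := by
    rw [← hxg, ← hxh]
    intro h
    exact hgh (cj_injective x h)
  have key : cj x (R A B) ≤ B := by
    rw [cj_le_iff]
    apply gen_le
    intro k hk
    rw [← cj_le_iff, ← cj_mul]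
    apply c.maxflat_absorb hB hmax hg' hh' hg'h'
    rw [cj_mul, ← hxg, ← hxh]
    apply le_inf
    · exact (cj_le_cj_iff x).mpr (c.flat_cj_le hB hk hg)
    · exact (cj_le_cj_iff x).mpr (c.flat_cj_le hB hk hh)
  rwa [hB.1] at key

/-- the final contradiction: every maximal subgroup containing `A` is `M`. -/
theorem unique_max [Finite G] (c : Ctx A M) {K : Subgroup G} (hK : IsCoatom K) (hAK : A ≤ K) :
    K = M := by
  by_contra hKM
  obtain ⟨U, hAU, hUK, hUM, hgenU, hUL⟩ := c.exists_U hK hAK hKM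
  obtain ⟨u, huU, huM⟩ := SetLike.not_le_iff_exists.mp hUM
  -- the second maximal subgroup
  have hK₂ : IsCoatom (cj u M) := isCoatom_cj u c.hM
  have hAK₂ : A ≤ cj u M := by
    rw [le_cj_iff]
    exact (cj_le_gen (S := (U : Set G)) (U.inv_mem huU)).trans hgenU
  have hK₂M : cj u M ≠ M := fun h => huM (c.mem_of_cj_eq h)
  obtain ⟨U₂, hAU₂, hU₂K, hU₂M, hgenU₂, hU₂L⟩ := c.exists_U hK₂ hAK₂ hK₂M
  -- a maximal flat over gen A U
  have hF₀ : IsFlat A (gen A (U : Set G)) := by
    refine ⟨?_, M, K, c.hM, hK, fun h => hKM h.symm, hgenU, (gen_le_self hAU).trans hUK⟩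
    apply le_antisymm (R_le A _)
    exact gen_le (fun s hs => cj_le_R (cj_le_gen hs))
  obtain ⟨B, hF₀B, hBmax⟩ := Finite.exists_le_maximal (p := fun F => IsFlat A F) hF₀
  have hB : IsFlat A B := hBmax.prop
  have hmax : ∀ F : Subgroup G, IsFlat A F → B ≤ F → F ≤ B := fun F hF hBF =>
    hBmax.le_of_ge hF hBF
  have hidxU : ∀ t ∈ U, cj t A ≤ B := fun t ht => (cj_le_gen (S := (U : Set G)) ht).trans hF₀B
  have h1B : cj 1 A ≤ B := hidxU 1 U.one_mem
  have huB : cj u A ≤ B := hidxU u huU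
  have h1u : cj 1 M ≠ cj u M := by rw [cj_one]; exact fun h => hK₂M h.symm
  -- U normalizes B
  have hUN : U ≤ Subgroup.normalizer (B : Set G) := by
    intro x hx
    refine c.maxflat_normalizer hB hmax h1B huB (hidxU x (by simpa using hx))
      (hidxU (x * u) (U.mul_mem hx huU)) h1u ?_ ?_
    · rw [← cj_mul, mul_one]
    · rw [← cj_mul]
  -- U₂ normalizes B
  have hU₂N : U₂ ≤ Subgroup.normalizer (B : Set G) := by
    intro x hx
    have hxK₂ : x ∈ cj u M := hU₂K hx
    have hxB : cj x A ≤ B := by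
      apply c.maxflat_absorb hB hmax h1B huB h1u
      apply le_inf
      · rw [cj_one]
        exact (cj_le_gen (S := (U₂ : Set G)) hx).trans hgenU₂
      · exact cj_le_of_mem hAK₂ hxK₂
    refine c.maxflat_normalizer hB hmax h1B huB hxB huB h1u ?_ ?_
    · rw [← cj_mul, mul_one]
    · exact cj_eq_self_of_mem hxK₂
  -- the normalizer of B is proper
  have hNB : Subgroup.normalizer (B : Set G) ≠ ⊤ := by
    intro h
    have h4 : B.Normal := Subgroup.normalizer_eq_top_iff.mp h
    have h5 : Subgroup.normalClosure (A : Set G) ≤ B :=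
      Subgroup.normalClosure_le_normal (by rw [cj_one] at h1B; exact h1B)
    rw [c.hA] at h5
    have h6 : B ≤ M := by
      have := c.flat_le hB h1B
      rwa [cj_one] at this
    exact c.hM.1 (top_le_iff.mp (h5.trans h6))
  obtain ⟨L, hL, hNL⟩ := (eq_top_or_exists_le_coatom _).resolve_left hNB
  have e1 : L = K := hUL L hL (hUN.trans hNL)
  have e2 : L = cj u M := hU₂L L hL (hU₂N.trans hNL)
  have e3 : K = cj u M := e1.symm.trans e2
  have e4 : cj u⁻¹ K = K := cj_eq_self_of_mem (K.inv_mem (hUK huU))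
  apply hKM
  rw [← e4, e3, cj_inv_cj]

end Ctx

theorem Yj_mono_of_gen [Finite G] {A S : Subgroup G} (hAS : A ≤ S)
    (hS : gen A (S : Set G) = S) : Yj S ≤ Yj A := by
  apply sSup_le
  intro H hH
  obtain ⟨hSH, hHne, hgen⟩ := mem_calH_iff.mp hH
  apply le_sSup
  rw [mem_calH_iff]
  refine ⟨hAS.trans hSH, hHne, le_antisymm (gen_le_self (hAS.trans hSH)) ?_⟩
  have h1 : S ≤ gen A (H : Set G) := by
    calc S = gen A (S : Set G) := hS.symm
      _ ≤ gen A (H : Set G) := gen_mono (fun x hx => hSH hx)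
  calc H = gen S (H : Set G) := hgen.symm
    _ ≤ gen A (H : Set G) := gen_le_of_normalizer h1 (le_normalizer_gen A H)

/-- **Wielandt's second maximizer lemma.** -/
theorem second_maximizer_aux [Finite G] : ∀ n : ℕ, ∀ A : Subgroup G,
    Nat.card G - Nat.card A ≤ n →
    Subgroup.normalClosure (A : Set G) = ⊤ → A ≠ ⊤ →
    Yj A = ⊤ ∨ ∃! M : Subgroup G, IsCoatom M ∧ A ≤ M := by
  intro n
  induction n with
  | zero =>
    intro A hcard _ hAG
    exfalso
    apply hAG
    apply Subgroup.eq_top_of_le_card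
    omega
  | succ n ih =>
    intro A hcard hA hAG
    by_cases hY : Yj A = ⊤
    · exact Or.inl hY
    · right
      obtain ⟨M, hM, hYM, hMmax⟩ := exists_max_over_Yj hA hAG hY
      have hAM : A ≤ M := (le_Yj hAG).trans hYM
      have hcardle : ∀ B : Subgroup G, Nat.card A < Nat.card B → Nat.card G - Nat.card B ≤ n := by
        intro B hB
        have := Subgroup.card_le_card_group B
        omega
      have c : Ctx A M := by
        refine ⟨hA, hM, hAM, ?_, ?_⟩
        · intro K hK hAK hKM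
          obtain ⟨S, hAS, hSK, hS⟩ := exists_sn_closure A K hAK
          have hSne : S ≠ ⊤ := fun h => hK.1 (top_le_iff.mp (h ▸ hSK.le))
          have hSM : S ≤ M := (le_sSup (mem_calH_iff.mpr ⟨hAS, hSne, hS⟩)).trans hYM
          by_cases hSA : S = A
          · rwa [hSA] at hSK
          · exfalso
            have hlt : Nat.card A < Nat.card S := cj_lt_of_lt_card hAS (fun h => hSA h.symm)
            have hnc : Subgroup.normalClosure (S : Set G) = ⊤ :=
              normalClosure_eq_top_of_le 1 hA (by rw [cj_one]; exact hAS)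
            rcases ih S (hcardle S hlt) hnc hSne with h | h
            · exact hY (top_le_iff.mp (h ▸ Yj_mono_of_gen hAS hS))
            · exact hKM (h.unique ⟨hK, hSK.le⟩ ⟨hM, hSM⟩)
        · intro B P hlt hnc hP hall L₁ L₂ hL₁ hL₂ h₁ h₂
          have hBne : B ≠ ⊤ := fun h => hL₁.1 (top_le_iff.mp (h ▸ h₁))
          rcases ih B (hcardle B hlt) hnc hBne with h | h
          · exfalso
            apply hP
            rw [eq_top_iff, ← h]
            apply sSup_le
            intro H hH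
            obtain ⟨hBH, hHne, hgen⟩ := mem_calH_iff.mp hH
            exact hall H hBH hHne hgen
          · exact h.unique ⟨hL₁, h₁⟩ ⟨hL₂, h₂⟩
      refine ⟨M, ⟨hM, hAM⟩, ?_⟩
      rintro K ⟨hK, hAK⟩
      exact c.unique_max hK hAK

theorem second_maximizer [Finite G] (A : Subgroup G)
    (hA : Subgroup.normalClosure (A : Set G) = ⊤) (hAG : A ≠ ⊤) :
    sSup {H : Subgroup G | A ≤ H ∧ H ≠ ⊤ ∧
        Subgroup.normalClosure ((A.subgroupOf H : Subgroup ↥H) : Set ↥H) = ⊤} = ⊤ ∨
      ∃! M : Subgroup G, IsCoatom M ∧ A ≤ M :=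
  second_maximizer_aux _ A le_rfl hA hAG

end Cfsg.Agent.Lib.Helper70.Maximizer
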