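import Mathlib
import Cfsg.Prelude.Def_PLocal

/-!
Regular `p`-groups in the sense of `Cfsg.IsRegularPGroup` (the version with all `p^n`-th powers):
`a^(p^k) = b^(p^k) ↔ (a b⁻¹)^(p^k) = 1`, by induction on the group order.
-/

set_option autoImplicit false

namespace Cfsg.Agent.Lib.Helper70

open Cfsg
open scoped commutatorElement

universe u

section basics
variable {G : Type*} [Group G]

theorem powerClosure_map {H : Type*} [Group H] (f : G →* H) (p n : ℕ) (K : Subgroup G) :
    powerClosure p n (K.map f) = (powerClosure p n K).map f := by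
  unfold powerClosure
  rw [MonoidHom.map_closure]
  congr 1
  ext y
  constructor
  · rintro ⟨x, ⟨x', hx', rfl⟩, rfl⟩
    exact ⟨x' ^ p ^ n, ⟨x', hx', rfl⟩, by simp⟩
  · rintro ⟨z, ⟨x, hx, rfl⟩, rfl⟩
    exact ⟨f x, ⟨x, hx, rfl⟩, by simp⟩

theorem powerClosure_eq_bot (p n : ℕ) (K : Subgroup G) (hK : ∀ x ∈ K, x ^ p ^ n = 1) :
    powerClosure p n K = ⊥ := by
  unfold powerClosure
  rw [Subgroup.closure_eq_bot_iff]
  rintro y ⟨x, hx, rfl⟩
  exact hK x hx

theorem powerClosure_mono (p n : ℕ) {K L : Subgroup G} (h : K ≤ L) :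
    powerClosure p n K ≤ powerClosure p n L := by
  unfold powerClosure
  apply Subgroup.closure_mono
  rintro y ⟨x, hx, rfl⟩
  exact ⟨x, h hx, rfl⟩

/-- regularity passes to subgroups -/
theorem regular_subgroup {p : ℕ} (hG : IsRegularPGroup p G) (H : Subgroup G) :
    IsRegularPGroup p H := by
  refine ⟨hG.1.to_subgroup H, ?_⟩
  intro a b n
  obtain ⟨c, hc, hab⟩ := hG.2 (a : G) (b : G) n
  have e1 : Subgroup.closure ({(a : G), (b : G)} : Set G) =
      (Subgroup.closure ({a, b} : Set H)).map H.subtype := by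
    rw [MonoidHom.map_closure]
    congr 1
    simp [Set.image_pair]
  rw [e1, ← Subgroup.map_commutator, powerClosure_map] at hc
  obtain ⟨c', hc', rfl⟩ := hc
  refine ⟨c', hc', ?_⟩
  apply Subtype.ext
  simpa using hab

/-- if `G = ⟨g, h⟩` and `⁅g, h⁻¹⁆` lies in the normal subgroup `K`, then `G' ≤ K`. -/
theorem commutator_mem_of_gen (g h : G) (hgen : Subgroup.closure ({g, h} : Set G) = ⊤)
    (K : Subgroup G) [K.Normal] (hc : ⁅g, h⁻¹⁆ ∈ K) : ∀ x y : G, ⁅x, y⁆ ∈ K := by
  set π := QuotientGroup.mk' K with hπ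
  have hcomm : Commute (π g) (π h) := by
    have h1 : π ⁅g, h⁻¹⁆ = 1 := by
      rw [hπ, QuotientGroup.mk'_apply, QuotientGroup.eq_one_iff]; exact hc
    rw [map_commutatorElement, commutatorElement_eq_one_iff_commute, map_inv] at h1
    exact Commute.inv_right_iff.mp h1
  have hgen' : Subgroup.closure ({π g, π h} : Set (G ⧸ K)) = ⊤ := by
    have := congrArg (Subgroup.map π) hgen
    rw [MonoidHom.map_closure, Subgroup.map_top_of_surjective π (QuotientGroup.mk'_surjective K),
      Set.image_pair] at this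
    exact this
  -- everything commutes with π g and π h
  have h1 : ∀ z ∈ ({π g, π h} : Set (G ⧸ K)), ∀ w : G ⧸ K, Commute w z := by
    intro z hz w
    have hw : w ∈ Subgroup.closure ({π g, π h} : Set (G ⧸ K)) := by rw [hgen']; trivial
    have hle : Subgroup.closure ({π g, π h} : Set (G ⧸ K)) ≤
        Subgroup.centralizer ({z} : Set (G ⧸ K)) := by
      rw [Subgroup.closure_le]
      intro v hv
      rw [SetLike.mem_coe, Subgroup.mem_centralizer_iff]
      intro z' hz'
      rw [Set.mem_singleton_iff] at hz'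
      subst hz'
      rcases hz with rfl | hz
      · rcases hv with rfl | hv
        · rfl
        · rw [Set.mem_singleton_iff] at hv; subst hv; exact hcomm.eq
      · rw [Set.mem_singleton_iff] at hz; subst hz
        rcases hv with rfl | hv
        · exact hcomm.eq.symm
        · rw [Set.mem_singleton_iff] at hv; subst hv; rfl
    have := hle hw
    rw [Subgroup.mem_centralizer_iff] at this
    exact (this z rfl).symm
  have h2 : ∀ u v : G ⧸ K, Commute u v := by
    intro u v
    have hv : v ∈ Subgroup.closure ({π g, π h} : Set (G ⧸ K)) := by rw [hgen']; trivial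
    have hle : Subgroup.closure ({π g, π h} : Set (G ⧸ K)) ≤
        Subgroup.centralizer ({u} : Set (G ⧸ K)) := by
      rw [Subgroup.closure_le]
      intro z hz
      rw [SetLike.mem_coe, Subgroup.mem_centralizer_iff]
      intro u' hu'
      rw [Set.mem_singleton_iff] at hu'
      subst hu'
      exact (h1 z hz u').eq
    have := hle hv
    rw [Subgroup.mem_centralizer_iff] at this
    exact this u rfl
  intro x y
  have : π ⁅x, y⁆ = 1 := by
    rw [map_commutatorElement, commutatorElement_eq_one_iff_commute]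
    exact h2 _ _
  rw [hπ, QuotientGroup.mk'_apply, QuotientGroup.eq_one_iff] at this
  exact this

/-- Lemma C: with `G = ⟨g, h⟩`, `K` normal of exponent dividing `p^k` and `⁅g, h⁻¹⁆ ∈ K`,
the `p^k`-power map is multiplicative. -/
theorem mul_pow_of_normal_exponent {p : ℕ} (hG : IsRegularPGroup p G) (k : ℕ) (g h : G)
    (hgen : Subgroup.closure ({g, h} : Set G) = ⊤) (K : Subgroup G) [K.Normal]
    (hK : ∀ x ∈ K, x ^ p ^ k = 1) (hc : ⁅g, h⁻¹⁆ ∈ K) (x y : G) :
    (x * y) ^ p ^ k = x ^ p ^ k * y ^ p ^ k := by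
  obtain ⟨c, hc', hxy⟩ := hG.2 x y k
  have hle : ⁅Subgroup.closure ({x, y} : Set G), Subgroup.closure ({x, y} : Set G)⁆ ≤ K := by
    rw [Subgroup.commutator_le]
    intro u _ v _
    exact commutator_mem_of_gen g h hgen K hc u v
  have : powerClosure p k ⁅Subgroup.closure ({x, y} : Set G), Subgroup.closure ({x, y} : Set G)⁆
      = ⊥ := by
    rw [eq_bot_iff, ← powerClosure_eq_bot p k K hK]
    exact powerClosure_mono p k hle
  rw [this, Subgroup.mem_bot] at hc'
  rw [hxy, hc', mul_one]

/-- `Ω_k(M)` as a subgroup of `G`, given the implication `x^q = y^q → (x y⁻¹)^q = 1` in `M`. -/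
def omegaSub (M : Subgroup G) (q : ℕ)
    (hA : ∀ x y : M, x ^ q = y ^ q → (x * y⁻¹) ^ q = 1) : Subgroup G where
  carrier := {x | x ∈ M ∧ x ^ q = 1}
  one_mem' := ⟨M.one_mem, one_pow q⟩
  mul_mem' := by
    rintro x y ⟨hx, hx1⟩ ⟨hy, hy1⟩
    refine ⟨M.mul_mem hx hy, ?_⟩
    have := hA ⟨x, hx⟩ ⟨y⁻¹, M.inv_mem hy⟩ (by
      apply Subtype.ext
      simp [hx1, hy1])
    simpa using congrArg Subtype.val this
  inv_mem' := by
    rintro x ⟨hx, hx1⟩
    exact ⟨M.inv_mem hx, by rw [inv_pow, hx1, inv_one]⟩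

theorem mem_omegaSub (M : Subgroup G) (q : ℕ)
    (hA : ∀ x y : M, x ^ q = y ^ q → (x * y⁻¹) ^ q = 1) (x : G) :
    x ∈ omegaSub M q hA ↔ x ∈ M ∧ x ^ q = 1 := Iff.rfl

theorem omegaSub_normal (M : Subgroup G) [M.Normal] (q : ℕ)
    (hA : ∀ x y : M, x ^ q = y ^ q → (x * y⁻¹) ^ q = 1) : (omegaSub M q hA).Normal := by
  constructor
  rintro x ⟨hx, hx1⟩ g
  refine ⟨Subgroup.Normal.conj_mem inferInstance x hx g, ?_⟩
  rw [conj_pow, hx1, mul_one, mul_inv_cancel]

end basics

/-- Main theorem, by induction on the order. -/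
theorem regular_pow_eq_iff_aux {p : ℕ} [Fact p.Prime] :
    ∀ (n : ℕ) (G : Type u) [Group G] [Finite G], Nat.card G ≤ n → IsRegularPGroup p G →
      ∀ (a b : G) (k : ℕ), a ^ p ^ k = b ^ p ^ k ↔ (a * b⁻¹) ^ p ^ k = 1 := by
  intro n
  induction n with
  | zero =>
    intro G _ _ hcard
    have : 0 < Nat.card G := Nat.card_pos
    omega
  | succ n ih =>
    intro G _ _ hcard hG a b k
    -- proper subgroups satisfy the statement
    have hsub : ∀ H : Subgroup G, H ≠ ⊤ → ∀ (x y : H), x ^ p ^ k = y ^ p ^ k ↔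
        (x * y⁻¹) ^ p ^ k = 1 := by
      intro H hH x y
      have hlt : Nat.card H < Nat.card G := by
        rcases lt_or_eq_of_le (Subgroup.card_le_card_group (H := H)) with h | h
        · exact h
        · exact absurd ((Subgroup.card_eq_iff_eq_top H).mp h) hH
      exact ih H (by omega) (regular_subgroup hG H) x y k
    by_cases hcomm : Commute a b
    · -- commuting case
      rw [(hcomm.inv_right).mul_pow, inv_pow, mul_inv_eq_one]
    by_cases hgen : Subgroup.closure ({a, b} : Set G) = ⊤
    swap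
    · -- proper subgroup generated by a, b
      have ha : a ∈ Subgroup.closure ({a, b} : Set G) := Subgroup.subset_closure (by simp)
      have hb : b ∈ Subgroup.closure ({a, b} : Set G) := Subgroup.subset_closure (by simp)
      have := hsub _ hgen ⟨a, ha⟩ ⟨b, hb⟩
      simp only [Subtype.ext_iff, Subgroup.coe_pow, Subgroup.coe_mul, Subgroup.coe_inv,
        Subgroup.coe_one] at this
      exact this
    -- G = ⟨a, b⟩ non-abelian
    have hnil : Group.IsNilpotent G := hG.1.isNilpotent
    have hcoatom_normal : ∀ M : Subgroup G, IsCoatom M → M.Normal := fun M hM =>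
      Subgroup.NormalizerCondition.normal_of_coatom M Group.normalizerCondition_of_isNilpotent hM
    -- general construction: for `g` with `G = ⟨g, b⟩`, not commuting with `b`
    have main : ∀ g : G, Subgroup.closure ({g, b} : Set G) = ⊤ → ¬ Commute g b →
        ∃ (K : Subgroup G) (_ : K.Normal), (∀ x ∈ K, x ^ p ^ k = 1) ∧
          (g ^ p ^ k = 1 → ⁅g, b⁻¹⁆ ∈ K) ∧
          (g ^ p ^ k = (b⁻¹ * g * b) ^ p ^ k → ⁅g, b⁻¹⁆ ∈ K) := by
      intro g hg hgb
      have hz : Subgroup.zpowers g ≠ ⊤ := by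
        intro htop
        apply hgb
        have : b ∈ Subgroup.zpowers g := by rw [htop]; trivial
        obtain ⟨i, rfl⟩ := this
        exact (Commute.refl g).zpow_right i
      obtain ⟨M, hM, hgM⟩ := (eq_top_or_exists_le_coatom (Subgroup.zpowers g)).resolve_left hz
      have hMn : M.Normal := hcoatom_normal M hM
      have hgM' : g ∈ M := hgM (Subgroup.mem_zpowers g)
      have hA : ∀ x y : M, x ^ p ^ k = y ^ p ^ k → (x * y⁻¹) ^ p ^ k = 1 :=
        fun x y => (hsub M hM.1 x y).mp
      have hconj : b⁻¹ * g * b ∈ M := by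
        have := hMn.conj_mem g hgM' b⁻¹
        simpa using this
      have hcomm_eq : ⁅g, b⁻¹⁆ = g * (b⁻¹ * g * b)⁻¹ := by
        rw [commutatorElement_def]; group
      refine ⟨omegaSub M (p ^ k) hA, omegaSub_normal M (p ^ k) hA, fun x hx => hx.2, ?_, ?_⟩
      · intro hg1
        rw [hcomm_eq]
        apply Subgroup.mul_mem
        · exact ⟨hgM', hg1⟩
        · apply Subgroup.inv_mem
          refine ⟨hconj, ?_⟩
          have e : b⁻¹ * g * b = b⁻¹ * g * b⁻¹⁻¹ := by rw [inv_inv]
          rw [e, conj_pow, hg1, mul_one, mul_inv_cancel]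
      · intro hgq
        rw [hcomm_eq]
        refine ⟨M.mul_mem hgM' (M.inv_mem hconj), ?_⟩
        have := hA ⟨g, hgM'⟩ ⟨b⁻¹ * g * b, hconj⟩ (by
          apply Subtype.ext
          simpa using hgq)
        simpa using congrArg Subtype.val this
    constructor
    · intro hab
      obtain ⟨K, hKn, hK, -, h2⟩ := main a hgen hcomm
      have hc : ⁅a, b⁻¹⁆ ∈ K := by
        apply h2
        have e : b⁻¹ * a * b = b⁻¹ * a * b⁻¹⁻¹ := by rw [inv_inv]
        rw [e, conj_pow, hab]
        group
      rw [mul_pow_of_normal_exponent hG k a b hgen K hK hc a b⁻¹, hab, inv_pow, mul_inv_cancel]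
    · intro hab
      set u := a * b⁻¹ with hu
      have hau : a = u * b := by rw [hu]; group
      have hgen' : Subgroup.closure ({u, b} : Set G) = ⊤ := by
        rw [eq_top_iff, ← hgen, Subgroup.closure_le]
        intro z hz
        rcases hz with rfl | hz
        · rw [hau]
          exact Subgroup.mul_mem _ (Subgroup.subset_closure (by simp))
            (Subgroup.subset_closure (by simp))
        · rw [Set.mem_singleton_iff] at hz; subst hz
          exact Subgroup.subset_closure (by simp)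
      have hcomm' : ¬ Commute u b := by
        intro h
        apply hcomm
        rw [hau]
        exact h.mul_left (Commute.refl b)
      obtain ⟨K, hKn, hK, h1, -⟩ := main u hgen' hcomm'
      have hc : ⁅u, b⁻¹⁆ ∈ K := h1 hab
      rw [hau, mul_pow_of_normal_exponent hG k u b hgen' K hK hc u b, hab, one_mul]

/-- In a regular `p`-group: `a^(p^k) = b^(p^k) ↔ (a b⁻¹)^(p^k) = 1`. -/
theorem regular_pow_eq_iff {G : Type u} [Group G] [Finite G] {p : ℕ} [Fact p.Prime]
    (hG : IsRegularPGroup p G) (a b : G) (k : ℕ) :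
    a ^ p ^ k = b ^ p ^ k ↔ (a * b⁻¹) ^ p ^ k = 1 :=
  regular_pow_eq_iff_aux (Nat.card G) G le_rfl hG a b k

end Cfsg.Agent.Lib.Helper70
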