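import Mathlib

/-!
A Host–Kra style cube argument: for a filtration `F 0 ≥ F 1 ≥ …` of a group `G` with
`⁅F i, F j⁆ ≤ F (i+j)`, an element of the cube group `Finset ι → G` generated by the
"upper face" elements `cubeGen S g` (`g ∈ F |S|`, `S ⊆ A`) which vanishes on all proper subsets of
`A` takes a value in `F |A|` at `A`.
-/

set_option autoImplicit false

namespace Cfsg.Agent.Lib.Helper70

open scoped commutatorElement

section cube
variable {ι : Type*} [DecidableEq ι] {G : Type*} [Group G]

/-- the element of the cube group supported on the upper face `{T | S ⊆ T}` -/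
def cubeGen (S : Finset ι) : G →* (Finset ι → G) where
  toFun g := fun T => if S ⊆ T then g else 1
  map_one' := by funext T; simp
  map_mul' g h := by funext T; by_cases hS : S ⊆ T <;> simp [hS]

@[simp] theorem cubeGen_apply (S T : Finset ι) (g : G) :
    cubeGen S g T = if S ⊆ T then g else 1 := rfl

/-- conjugation formula -/
theorem cubeGen_conj (S T : Finset ι) (g h : G) :
    cubeGen T h * cubeGen S g * (cubeGen T h)⁻¹ = cubeGen (T ∪ S) ⁅h, g⁆ * cubeGen S g := by
  funext U
  simp only [Pi.mul_apply, Pi.inv_apply, cubeGen_apply, Finset.union_subset_iff]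
  by_cases hT : T ⊆ U <;> by_cases hS : S ⊆ U <;> simp [hT, hS, commutatorElement_def]

/-- A filtration of a group by subgroups, compatible with commutators. -/
structure IsFiltration (F : ℕ → Subgroup G) : Prop where
  anti : Antitone F
  comm : ∀ i j, ⁅F i, F j⁆ ≤ F (i + j)

theorem IsFiltration.shift {F : ℕ → Subgroup G} (hF : IsFiltration F) :
    IsFiltration (fun i => F (i + 1)) where
  anti := fun i j h => hF.anti (Nat.add_le_add_right h 1)
  comm := fun i j => (hF.comm (i + 1) (j + 1)).trans (hF.anti (by omega))

/-- the Host–Kra group of the filtration on the face `A` -/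
def hkGroup (F : ℕ → Subgroup G) (A : Finset ι) : Subgroup (Finset ι → G) :=
  Subgroup.closure {v | ∃ S, S ⊆ A ∧ ∃ g ∈ F S.card, v = cubeGen S g}

theorem cubeGen_mem_hkGroup (F : ℕ → Subgroup G) {A S : Finset ι} (hS : S ⊆ A) {g : G}
    (hg : g ∈ F S.card) : cubeGen S g ∈ hkGroup F A :=
  Subgroup.subset_closure ⟨S, hS, g, hg, rfl⟩

/-- values of elements of the Host–Kra group lie in `F 0` -/
theorem hkGroup_apply_mem {F : ℕ → Subgroup G} (hF : IsFiltration F) {A : Finset ι}
    {v : Finset ι → G} (hv : v ∈ hkGroup F A) (T : Finset ι) : v T ∈ F 0 := by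
  unfold hkGroup at hv
  induction hv using Subgroup.closure_induction with
  | mem v hv =>
    obtain ⟨S, _, g, hg, rfl⟩ := hv
    rw [cubeGen_apply]
    split_ifs
    · exact hF.anti (Nat.zero_le _) hg
    · exact one_mem _
  | one => exact one_mem _
  | mul u v _ _ hu hv => exact mul_mem hu hv
  | inv u _ hu => exact inv_mem hu

/-- the Host–Kra group of `F` normalizes that of the shifted filtration -/
theorem hkGroup_conj_mem {F : ℕ → Subgroup G} (hF : IsFiltration F) (A : Finset ι)
    {u : Finset ι → G} (hu : u ∈ hkGroup F A) :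
    (∀ n ∈ hkGroup (fun i => F (i + 1)) A, u * n * u⁻¹ ∈ hkGroup (fun i => F (i + 1)) A) ∧
    (∀ n ∈ hkGroup (fun i => F (i + 1)) A, u⁻¹ * n * u ∈ hkGroup (fun i => F (i + 1)) A) := by
  -- generators
  have hgen : ∀ (T : Finset ι), T ⊆ A → ∀ h ∈ F T.card,
      ∀ n ∈ hkGroup (fun i => F (i + 1)) A,
        cubeGen T h * n * (cubeGen T h)⁻¹ ∈ hkGroup (fun i => F (i + 1)) A := by
    intro T hT h hh n hn
    unfold hkGroup at hn
    induction hn using Subgroup.closure_induction with
    | mem n hn =>
      obtain ⟨S, hS, g, hg, rfl⟩ := hn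
      rw [cubeGen_conj]
      refine mul_mem ?_ (cubeGen_mem_hkGroup _ hS hg)
      refine cubeGen_mem_hkGroup _ (Finset.union_subset hT hS) ?_
      have h1 : ⁅h, g⁆ ∈ F (T.card + (S.card + 1)) :=
        hF.comm _ _ (Subgroup.commutator_mem_commutator hh hg)
      have h2 : (T ∪ S).card + 1 ≤ T.card + (S.card + 1) := by
        have := Finset.card_union_le T S
        omega
      exact hF.anti h2 h1
    | one => simp
    | mul a b _ _ ha hb =>
      have : cubeGen T h * (a * b) * (cubeGen T h)⁻¹ =
          (cubeGen T h * a * (cubeGen T h)⁻¹) * (cubeGen T h * b * (cubeGen T h)⁻¹) := by group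
      rw [this]
      exact mul_mem ha hb
    | inv a _ ha =>
      have : cubeGen T h * a⁻¹ * (cubeGen T h)⁻¹ = (cubeGen T h * a * (cubeGen T h)⁻¹)⁻¹ := by
        group
      rw [this]
      exact inv_mem ha
  unfold hkGroup at hu
  induction hu using Subgroup.closure_induction with
  | mem u hu =>
    obtain ⟨T, hT, h, hh, rfl⟩ := hu
    refine ⟨hgen T hT h hh, ?_⟩
    intro n hn
    have := hgen T hT h⁻¹ (inv_mem hh) n hn
    rwa [map_inv, inv_inv] at this
  | one => simp
  | mul a b _ _ ha hb =>
    refine ⟨fun n hn => ?_, fun n hn => ?_⟩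
    · have : a * b * n * (a * b)⁻¹ = a * (b * n * b⁻¹) * a⁻¹ := by group
      rw [this]
      exact ha.1 _ (hb.1 n hn)
    · have : (a * b)⁻¹ * n * (a * b) = b⁻¹ * (a⁻¹ * n * a) * b := by group
      rw [this]
      exact hb.2 _ (ha.2 n hn)
  | inv a _ ha =>
    refine ⟨fun n hn => ?_, fun n hn => ?_⟩
    · have : a⁻¹ * n * a⁻¹⁻¹ = a⁻¹ * n * a := by group
      rw [this]
      exact ha.2 n hn
    · have : a⁻¹⁻¹ * n * a⁻¹ = a * n * a⁻¹ := by group
      rw [this]
      exact ha.1 n hn

/-- decomposition of the Host–Kra group along a new coordinate `a` -/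
theorem hkGroup_insert {F : ℕ → Subgroup G} (hF : IsFiltration F) {A : Finset ι} {a : ι}
    (_ha : a ∉ A) {v : Finset ι → G} (hv : v ∈ hkGroup F (insert a A)) :
    (fun T : Finset ι => v (T.erase a)) ∈ hkGroup F A ∧
    (fun T : Finset ι => (v (T.erase a))⁻¹ * v (insert a T)) ∈ hkGroup (fun i => F (i + 1)) A := by
  unfold hkGroup at hv
  induction hv using Subgroup.closure_induction with
  | mem v hv =>
    obtain ⟨S, hS, g, hg, rfl⟩ := hv
    by_cases haS : a ∈ S
    · have h0 : (fun T : Finset ι => cubeGen S g (T.erase a)) = (1 : Finset ι → G) := by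
        funext T
        have : ¬ S ⊆ T.erase a := fun h => Finset.notMem_erase a T (h haS)
        simp [this]
      have h1 : (fun T : Finset ι => (cubeGen S g (T.erase a))⁻¹ * cubeGen S g (insert a T)) =
          cubeGen (S.erase a) g := by
        funext T
        have : ¬ S ⊆ T.erase a := fun h => Finset.notMem_erase a T (h haS)
        simp [this, Finset.subset_insert_iff]
      rw [h0, h1]
      refine ⟨one_mem _, cubeGen_mem_hkGroup _ (Finset.subset_insert_iff.mp hS) ?_⟩
      rw [Finset.card_erase_of_mem haS]
      have : 0 < S.card := Finset.card_pos.mpr ⟨a, haS⟩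
      rw [Nat.sub_add_cancel this]
      exact hg
    · have hSA : S ⊆ A := (Finset.subset_insert_iff_of_notMem haS).mp hS
      have h0 : (fun T : Finset ι => cubeGen S g (T.erase a)) = cubeGen S g := by
        funext T
        simp [Finset.subset_erase, haS]
      have h1 : (fun T : Finset ι => (cubeGen S g (T.erase a))⁻¹ * cubeGen S g (insert a T)) =
          (1 : Finset ι → G) := by
        funext T
        simp only [cubeGen_apply, Finset.subset_erase, haS, not_false_eq_true, and_true,
          Finset.subset_insert_iff, Finset.erase_eq_of_notMem haS, Pi.one_apply]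
        split_ifs <;> simp
      rw [h0, h1]
      exact ⟨cubeGen_mem_hkGroup _ hSA hg, one_mem _⟩
  | one =>
    refine ⟨?_, ?_⟩
    · have : (fun T : Finset ι => (1 : Finset ι → G) (T.erase a)) = 1 := rfl
      rw [this]; exact one_mem _
    · have : (fun T : Finset ι => ((1 : Finset ι → G) (T.erase a))⁻¹ *
          (1 : Finset ι → G) (insert a T)) = 1 := by
        funext T; simp
      rw [this]; exact one_mem _
  | mul u v _ _ hu hv =>
    refine ⟨?_, ?_⟩
    · have : (fun T : Finset ι => (u * v) (T.erase a)) =
          (fun T : Finset ι => u (T.erase a)) * (fun T : Finset ι => v (T.erase a)) := rfl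
      rw [this]
      exact mul_mem hu.1 hv.1
    · have : (fun T : Finset ι => ((u * v) (T.erase a))⁻¹ * (u * v) (insert a T)) =
          ((fun T : Finset ι => v (T.erase a))⁻¹ * (fun T : Finset ι => (u (T.erase a))⁻¹ * u (insert a T)) *
            (fun T : Finset ι => v (T.erase a))) * (fun T : Finset ι => (v (T.erase a))⁻¹ * v (insert a T)) := by
        funext T
        simp only [Pi.mul_apply, Pi.inv_apply]
        group
      rw [this]
      exact mul_mem ((hkGroup_conj_mem hF A hv.1).2 _ hu.2) hv.2
  | inv u _ hu =>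
    refine ⟨?_, ?_⟩
    · have : (fun T : Finset ι => u⁻¹ (T.erase a)) = (fun T : Finset ι => u (T.erase a))⁻¹ := rfl
      rw [this]
      exact inv_mem hu.1
    · have : (fun T : Finset ι => (u⁻¹ (T.erase a))⁻¹ * u⁻¹ (insert a T)) =
          (fun T : Finset ι => u (T.erase a)) * (fun T : Finset ι => (u (T.erase a))⁻¹ * u (insert a T))⁻¹ *
            (fun T : Finset ι => u (T.erase a))⁻¹ := by
        funext T
        simp only [Pi.mul_apply, Pi.inv_apply]
        group
      rw [this]
      exact (hkGroup_conj_mem hF A hu.1).1 _ (inv_mem hu.2)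

/-- Main cube theorem. -/
theorem hkGroup_top_mem (A : Finset ι) :
    ∀ {F : ℕ → Subgroup G}, IsFiltration F → ∀ v ∈ hkGroup F A,
      (∀ T, T ⊂ A → v T = 1) → v A ∈ F A.card := by
  induction A using Finset.induction_on with
  | empty =>
    intro F hF v hv _
    exact hkGroup_apply_mem hF hv ∅
  | insert a A ha ih =>
    intro F hF v hv hvan
    obtain ⟨_, h2⟩ := hkGroup_insert hF ha hv
    have hA : A ⊂ insert a A := Finset.ssubset_insert ha
    have key := ih hF.shift _ h2 (by
      intro T hT
      have haT : a ∉ T := fun h => ha (hT.1 h)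
      have e1 : v (T.erase a) = 1 := by
        rw [Finset.erase_eq_of_notMem haT]
        exact hvan T (hT.trans hA)
      have e2 : v (insert a T) = 1 := by
        apply hvan
        refine ⟨Finset.insert_subset_insert a hT.1, ?_⟩
        intro h
        apply hT.2
        intro x hx
        have hxa : x ≠ a := fun h' => ha (h' ▸ hx)
        have := h (Finset.mem_insert_of_mem hx)
        rcases Finset.mem_insert.mp this with h' | h'
        · exact absurd h' hxa
        · exact h'
      change (v (T.erase a))⁻¹ * v (insert a T) = 1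
      rw [e1, e2]; simp)
    have e3 : v (A.erase a) = 1 := by
      rw [Finset.erase_eq_of_notMem ha]
      exact hvan A hA
    change (v (A.erase a))⁻¹ * v (insert a A) ∈ F (A.card + 1) at key
    rw [e3, inv_one, one_mul] at key
    rw [Finset.card_insert_of_notMem ha]
    exact key

end cube

end Cfsg.Agent.Lib.Helper70
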