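import Mathlib
import Cfsg.Agent.Lib.Helper70.Cube

/-!
The Hall–Petrescu identity: for `x y : G` there are elements `hpCoeff x y j` in the `j`-th term
(1-indexed) of the lower central series with
`x^k y^k = (xy)^k · c_0^{C(k,0)} c_1^{C(k,1)} ⋯ c_k^{C(k,k)}` for all `k` (and `c_0 = c_1 = 1`).
-/

set_option autoImplicit false

namespace Cfsg.Agent.Lib.Helper70

open scoped commutatorElement

section hp
variable {G : Type*} [Group G]

/-- `(xy)^{-k} x^k y^k` -/
def hpOmega (x y : G) (k : ℕ) : G := ((x * y) ^ k)⁻¹ * x ^ k * y ^ k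

/-- the Hall–Petrescu coefficients -/
noncomputable def hpCoeff (x y : G) (k : ℕ) : G :=
  (((List.range k).attach.map (fun j => hpCoeff x y j.1 ^ Nat.choose k j.1)).prod)⁻¹ *
    hpOmega x y k
termination_by k
decreasing_by exact List.mem_range.mp j.2

/-- the ordered partial products `∏_{j<m} c_j^{C(k,j)}` -/
noncomputable def hpProd (x y : G) (k m : ℕ) : G :=
  ((List.range m).map (fun j => hpCoeff x y j ^ Nat.choose k j)).prod

theorem hpCoeff_eq (x y : G) (k : ℕ) :
    hpCoeff x y k = (hpProd x y k k)⁻¹ * hpOmega x y k := by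
  rw [hpCoeff, hpProd]
  congr 3
  exact List.attach_map_val (l := List.range k) (f := fun j => hpCoeff x y j ^ Nat.choose k j)

theorem hpProd_succ (x y : G) (k m : ℕ) :
    hpProd x y k (m + 1) = hpProd x y k m * hpCoeff x y m ^ Nat.choose k m := by
  rw [hpProd, hpProd, List.range_succ, List.map_append, List.prod_append]
  simp

theorem hpProd_self_succ (x y : G) (k : ℕ) : hpProd x y k (k + 1) = hpOmega x y k := by
  rw [hpProd_succ, Nat.choose_self, pow_one, hpCoeff_eq]
  group

theorem hpProd_of_lt (x y : G) {k m : ℕ} (h : k < m) : hpProd x y k m = hpOmega x y k := by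
  induction m with
  | zero => omega
  | succ m ih =>
    rcases Nat.lt_succ_iff_lt_or_eq.mp h with h' | h'
    · rw [hpProd_succ, ih h', Nat.choose_eq_zero_of_lt h', pow_zero, mul_one]
    · subst h'
      exact hpProd_self_succ x y k

/-- the Hall–Petrescu identity -/
theorem hallPetrescu (x y : G) (k : ℕ) :
    x ^ k * y ^ k = (x * y) ^ k * hpProd x y k (k + 1) := by
  rw [hpProd_self_succ, hpOmega]
  group

end hp

section layer
variable {ι : Type*} [DecidableEq ι] [Fintype ι] {G : Type*} [Group G]

theorem countP_toList' {α : Type*} [DecidableEq α] (s : Finset α) (p : α → Prop) [DecidablePred p] :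
    s.toList.countP (fun a => decide (p a)) = (s.filter p).card := by
  rw [List.countP_eq_length_filter,
    ← List.toFinset_card_of_nodup ((Finset.nodup_toList s).filter _)]
  congr 1
  ext a
  simp

omit [Fintype ι] in
theorem list_prod_cubeGen_apply (l : List (Finset ι)) (g : G) (T : Finset ι) :
    ((l.map (fun S => cubeGen S g)).prod) T = g ^ (l.countP (fun S => decide (S ⊆ T))) := by
  induction l with
  | nil => simp
  | cons S l ih =>
    rw [List.map_cons, List.prod_cons, Pi.mul_apply, ih, List.countP_cons, cubeGen_apply]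
    by_cases h : S ⊆ T
    · simp [h, pow_succ']
    · simp [h]

/-- the product of all `cubeGen S g` with `|S| = j` -/
noncomputable def cubeLayer (j : ℕ) (g : G) : Finset ι → G :=
  (((Finset.powersetCard j (Finset.univ : Finset ι)).toList).map (fun S => cubeGen S g)).prod

theorem cubeLayer_apply (j : ℕ) (g : G) (T : Finset ι) :
    cubeLayer j g T = g ^ (T.card.choose j) := by
  rw [cubeLayer, list_prod_cubeGen_apply, countP_toList']
  congr 1
  rw [← Finset.card_powersetCard]
  congr 1
  ext S
  simp only [Finset.mem_filter, Finset.mem_powersetCard, Finset.subset_univ, true_and]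
  tauto

theorem cubeLayer_mem (F : ℕ → Subgroup G) (j : ℕ) {g : G} (hg : g ∈ F j) :
    (cubeLayer j g : Finset ι → G) ∈ hkGroup F (Finset.univ : Finset ι) := by
  rw [cubeLayer]
  apply Subgroup.list_prod_mem
  intro v hv
  obtain ⟨S, hS, rfl⟩ := List.mem_map.mp hv
  rw [Finset.mem_toList, Finset.mem_powersetCard] at hS
  exact cubeGen_mem_hkGroup F hS.1 (by rw [hS.2]; exact hg)

end layer

section main
variable {G : Type*} [Group G]

/-- the lower central filtration, 1-indexed, with `F 0 = F 1 = ⊤` -/
def lcsFiltration (G : Type*) [Group G] (k : ℕ) : Subgroup G :=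
  (⊤ : Subgroup G).lowerCentralSeries (k - 1)

theorem three_subgroups' (A B C N : Subgroup G) [N.Normal]
    (h1 : ⁅⁅B, C⁆, A⁆ ≤ N) (h2 : ⁅⁅C, A⁆, B⁆ ≤ N) : ⁅⁅A, B⁆, C⁆ ≤ N := by
  have key : ∀ X : Subgroup G, X ≤ N ↔ X.map (QuotientGroup.mk' N) = ⊥ := by
    intro X
    rw [Subgroup.map_eq_bot_iff, QuotientGroup.ker_mk']
  rw [key] at h1 h2 ⊢
  rw [Subgroup.map_commutator, Subgroup.map_commutator] at h1 h2 ⊢
  exact Subgroup.commutator_commutator_eq_bot_of_rotate h1 h2

/-- `[γ_{i+1}, γ_{j+1}] ≤ γ_{i+j+2}` -/
theorem lcs_comm_le (i j : ℕ) :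
    ⁅(⊤ : Subgroup G).lowerCentralSeries i, (⊤ : Subgroup G).lowerCentralSeries j⁆ ≤
      (⊤ : Subgroup G).lowerCentralSeries (i + j + 1) := by
  induction j generalizing i with
  | zero => simp [Subgroup.lowerCentralSeries_succ]
  | succ j ih =>
    rw [Subgroup.lowerCentralSeries_succ, Subgroup.commutator_comm]
    have : ((⊤ : Subgroup G).lowerCentralSeries (i + (j + 1) + 1)).Normal := inferInstance
    apply three_subgroups'
    · have h1 : ⁅(⊤ : Subgroup G), (⊤ : Subgroup G).lowerCentralSeries i⁆ ≤
          (⊤ : Subgroup G).lowerCentralSeries (i + 1) := by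
        rw [Subgroup.commutator_comm, Subgroup.lowerCentralSeries_succ]
      have h2 := ih (i + 1)
      have e : i + 1 + j + 1 = i + (j + 1) + 1 := by ring
      rw [e] at h2
      exact (Subgroup.commutator_mono h1 le_rfl).trans h2
    · have h1 := ih i
      have h2 : ⁅(⊤ : Subgroup G).lowerCentralSeries (i + j + 1), (⊤ : Subgroup G)⁆ ≤
          (⊤ : Subgroup G).lowerCentralSeries (i + (j + 1) + 1) := by
        rw [Subgroup.lowerCentralSeries_succ]
        rfl
      exact (Subgroup.commutator_mono h1 le_rfl).trans h2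

theorem lcsFiltration_isFiltration (G : Type*) [Group G] : IsFiltration (lcsFiltration G) where
  anti := fun i j h => Subgroup.lowerCentralSeries_antitone _ (Nat.sub_le_sub_right h 1)
  comm := by
    intro i j
    unfold lcsFiltration
    rcases Nat.eq_zero_or_pos i with rfl | hi
    · -- ⁅⊤, γ⁆ ≤ γ
      simp only [Nat.zero_sub, Subgroup.lowerCentralSeries_zero, zero_add]
      exact Subgroup.commutator_le_right _ _
    rcases Nat.eq_zero_or_pos j with rfl | hj
    · simp only [Nat.zero_sub, Subgroup.lowerCentralSeries_zero, add_zero]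
      exact Subgroup.commutator_le_left _ _
    · have := lcs_comm_le (G := G) (i - 1) (j - 1)
      have e : i - 1 + (j - 1) + 1 = i + j - 1 := by omega
      rw [e] at this
      exact this

/-- The Hall–Petrescu coefficients lie in the lower central series. -/
theorem hpCoeff_mem (x y : G) (k : ℕ) : hpCoeff x y k ∈ lcsFiltration G k := by
  induction k using Nat.strong_induction_on with
  | _ k ih =>
  have hF := lcsFiltration_isFiltration G
  -- the cube over `Fin k`
  let w : Finset (Fin k) → G :=
    (cubeLayer 1 (x * y))⁻¹ * cubeLayer 1 x * cubeLayer 1 y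
  let D : Finset (Fin k) → G :=
    ((List.range k).map (fun j => (cubeLayer j (hpCoeff x y j) : Finset (Fin k) → G))).prod
  have htop : ∀ g : G, g ∈ lcsFiltration G 1 := by
    intro g
    unfold lcsFiltration
    simp
  have hw : w ∈ hkGroup (lcsFiltration G) (Finset.univ : Finset (Fin k)) :=
    mul_mem (mul_mem (inv_mem (cubeLayer_mem _ 1 (htop _))) (cubeLayer_mem _ 1 (htop _)))
      (cubeLayer_mem _ 1 (htop _))
  have hD : D ∈ hkGroup (lcsFiltration G) (Finset.univ : Finset (Fin k)) := by
    apply Subgroup.list_prod_mem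
    intro v hv
    obtain ⟨j, hj, rfl⟩ := List.mem_map.mp hv
    exact cubeLayer_mem _ j (ih j (List.mem_range.mp hj))
  have hwT : ∀ T : Finset (Fin k), w T = hpOmega x y T.card := by
    intro T
    simp only [w, Pi.mul_apply, Pi.inv_apply, cubeLayer_apply, Nat.choose_one_right, hpOmega]
  have hDT : ∀ T : Finset (Fin k), D T = hpProd x y T.card k := by
    intro T
    simp only [D]
    rw [Pi.list_prod_apply, List.map_map, hpProd]
    congr 1
    apply List.map_congr_left
    intro j _
    simp [cubeLayer_apply]
  have key := hkGroup_top_mem (Finset.univ : Finset (Fin k)) hF (D⁻¹ * w)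
    (mul_mem (inv_mem hD) hw) (by
      intro T hT
      have hcard : T.card < k := by
        have := Finset.card_lt_card hT
        simpa using this
      rw [Pi.mul_apply, Pi.inv_apply, hwT, hDT, hpProd_of_lt x y hcard]
      simp)
  rw [Pi.mul_apply, Pi.inv_apply, hwT, hDT, Finset.card_univ, Fintype.card_fin,
    ← hpCoeff_eq] at key
  exact key

end main

end Cfsg.Agent.Lib.Helper70
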