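import Mathlib
import Cfsg.Prelude.Def_PLocal
import Cfsg.Agent.Lib.Helper70.RegularP
import Cfsg.Agent.Lib.Helper1.PGroupMax

/-!
Single-exponent regularity `RegN p n G` (the `p^n`-th power identity of `Cfsg.IsRegularPGroup` for one `n`),
and the step `RegN p 1 G → RegN p n G → RegN p (n+1) G` for finite `p`-groups (P. Hall).
-/

set_option autoImplicit false

namespace Cfsg.Agent.Lib.Helper70

open Cfsg
open scoped commutatorElement

universe u

/-- the `p^n`-power identity of regular `p`-groups, for a single `n`. -/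
def RegN (p n : ℕ) (G : Type*) [Group G] : Prop :=
  ∀ a b : G, ∃ c ∈ powerClosure p n
      ⁅Subgroup.closure ({a, b} : Set G), Subgroup.closure ({a, b} : Set G)⁆,
    (a * b) ^ (p ^ n) = a ^ (p ^ n) * b ^ (p ^ n) * c

theorem regN_zero (p : ℕ) (G : Type*) [Group G] : RegN p 0 G := by
  intro a b
  exact ⟨1, one_mem _, by simp⟩

theorem RegN.subgroup {G : Type*} [Group G] {p n : ℕ} (hG : RegN p n G) (H : Subgroup G) :
    RegN p n H := by
  intro a b
  obtain ⟨c, hc, hab⟩ := hG (a : G) (b : G)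
  have e1 : Subgroup.closure ({(a : G), (b : G)} : Set G) =
      (Subgroup.closure ({a, b} : Set H)).map H.subtype := by
    rw [MonoidHom.map_closure]
    congr 1
    simp [Set.image_pair]
  rw [e1, ← Subgroup.map_commutator, powerClosure_map] at hc
  obtain ⟨c', hc', rfl⟩ := hc
  refine ⟨c', hc', ?_⟩
  apply Subtype.ext
  simpa using hab

/-- in a finite `p`-group the commutator subgroup lies in every maximal subgroup -/
theorem commutator_le_coatom' {G : Type*} [Group G] [Finite G] {p : ℕ} [Fact p.Prime]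
    (hG : IsPGroup p G) {M : Subgroup G} (hM : IsCoatom M) : commutator G ≤ M := by
  have : M.Normal := Cfsg.Agent.Lib.Helper1.coatom_normal_of_isPGroup hG hM
  have hidx : M.index = p := Cfsg.Agent.Lib.Helper1.coatom_index_of_isPGroup hG hM
  have hcard : Nat.card (G ⧸ M) = p := by rw [← Subgroup.index_eq_card]; exact hidx
  have : IsCyclic (G ⧸ M) := isCyclic_of_prime_card hcard
  rw [← Subgroup.Normal.quotient_commutative_iff_commutator_le]
  exact ⟨⟨fun a b => IsCyclic.commGroup.mul_comm a b⟩⟩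

/-- if `G = ⟨x, d⟩` with `d ∈ G'` in a finite `p`-group, then `x` and `d` commute. -/
theorem commute_of_closure_pair_eq_top' {G : Type*} [Group G] [Finite G] {p : ℕ} [Fact p.Prime]
    (hG : IsPGroup p G) (x d : G) (hd : d ∈ commutator G)
    (h : Subgroup.closure ({x, d} : Set G) = ⊤) : Commute x d := by
  by_cases hx : Subgroup.zpowers x = ⊤
  · have hd' : d ∈ Subgroup.zpowers x := by rw [hx]; trivial
    obtain ⟨k, rfl⟩ := Subgroup.mem_zpowers_iff.mp hd'
    exact (Commute.refl x).zpow_right k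
  · exfalso
    obtain ⟨M, hM, hle⟩ := (eq_top_or_exists_le_coatom (Subgroup.zpowers x)).resolve_left hx
    have hdM : d ∈ M := commutator_le_coatom' hG hM hd
    have hxM : x ∈ M := hle (Subgroup.mem_zpowers x)
    have : Subgroup.closure ({x, d} : Set G) ≤ M := by
      rw [Subgroup.closure_le]
      rintro y (rfl | hy)
      · exact hxM
      · rw [Set.mem_singleton_iff] at hy; subst hy; exact hdM
    rw [h] at this
    exact hM.1 (top_le_iff.mp this)

/-- if `q`-th powers of `H` are closed under products, every element of the power closure is a `q`-th power -/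
theorem mem_powerClosure_of_mul_closed' {G : Type*} [Group G] (p n : ℕ) (H : Subgroup G)
    (hmul : ∀ a ∈ H, ∀ b ∈ H, ∃ c ∈ H, a ^ p ^ n * b ^ p ^ n = c ^ p ^ n) :
    ∀ y ∈ powerClosure p n H, ∃ x ∈ H, y = x ^ p ^ n := by
  intro y hy
  unfold powerClosure at hy
  induction hy using Subgroup.closure_induction with
  | mem y hy => exact hy
  | one => exact ⟨1, H.one_mem, by simp⟩
  | mul y z _ _ ihy ihz =>
    obtain ⟨a, ha, rfl⟩ := ihy
    obtain ⟨b, hb, rfl⟩ := ihz
    obtain ⟨c, hc, h⟩ := hmul a ha b hb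
    exact ⟨c, hc, h⟩
  | inv y _ ihy =>
    obtain ⟨a, ha, rfl⟩ := ihy
    exact ⟨a⁻¹, H.inv_mem ha, by simp⟩

/-- products of `p^n`-th powers are `p^n`-th powers in a finite `p`-group with `RegN p n`. -/
theorem RegN.pow_mul_pow_aux {p : ℕ} [Fact p.Prime] (n : ℕ) :
    ∀ (N : ℕ) (G : Type u) [Group G] [Finite G], Nat.card G = N → IsPGroup p G → RegN p n G →
      ∀ a b : G, ∃ c : G, a ^ p ^ n * b ^ p ^ n = c ^ p ^ n := by
  intro N
  induction N using Nat.strong_induction_on with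
  | _ N ih =>
  intro G _ _ hN hp hG a b
  have ihK : ∀ K : Subgroup G, K ≠ ⊤ → ∀ x ∈ K, ∀ y ∈ K, ∃ z ∈ K,
      x ^ p ^ n * y ^ p ^ n = z ^ p ^ n := by
    intro K hK x hx y hy
    have hlt : Nat.card K < N := by
      rw [← hN, ← K.card_mul_index]
      exact lt_mul_of_one_lt_right Nat.card_pos (Subgroup.one_lt_index_of_ne_top hK)
    obtain ⟨z, hz⟩ := ih (Nat.card K) hlt K rfl (hp.to_subgroup K) (hG.subgroup K) ⟨x, hx⟩ ⟨y, hy⟩
    refine ⟨z, z.2, ?_⟩
    simpa using congrArg Subtype.val hz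
  by_cases hK : Subgroup.closure ({a, b} : Set G) = ⊤
  · obtain ⟨c0, hc0, hab⟩ := hG a b
    rw [hK] at hc0
    by_cases htriv : Subsingleton G
    · exact ⟨1, by rw [Subsingleton.elim a 1, Subsingleton.elim b 1]; simp⟩
    have : Nontrivial G := not_subsingleton_iff_nontrivial.mp htriv
    have : Group.IsNilpotent G := hp.isNilpotent
    have hDlt : commutator G ≠ ⊤ := (Group.IsSolvable.commutator_lt_top_of_nontrivial G).ne
    have hD : ∀ y ∈ powerClosure p n (commutator G), ∃ x ∈ commutator G, y = x ^ p ^ n :=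
      mem_powerClosure_of_mul_closed' p n (commutator G) (ihK (commutator G) hDlt)
    have hc0' : c0⁻¹ ∈ powerClosure p n (commutator G) := by
      apply inv_mem
      rw [commutator_def]
      exact hc0
    obtain ⟨d, hd, hdq⟩ := hD _ hc0'
    have hab' : a ^ p ^ n * b ^ p ^ n = (a * b) ^ p ^ n * d ^ p ^ n := by
      rw [← hdq, hab]; group
    by_cases hL : Subgroup.closure ({a * b, d} : Set G) = ⊤
    · have hcomm : Commute (a * b) d := commute_of_closure_pair_eq_top' hp (a * b) d hd hL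
      exact ⟨a * b * d, by rw [hab', hcomm.mul_pow]⟩
    · obtain ⟨z, _, hz⟩ := ihK _ hL (a * b) (Subgroup.subset_closure (by simp)) d
        (Subgroup.subset_closure (by simp))
      exact ⟨z, by rw [hab', hz]⟩
  · obtain ⟨z, _, hz⟩ := ihK _ hK a (Subgroup.subset_closure (by simp)) b
      (Subgroup.subset_closure (by simp))
    exact ⟨z, hz⟩

section main
variable {G : Type*} [Group G] [Finite G] {p : ℕ} [Fact p.Prime]

/-- `℧_n(H) = {x^(p^n) : x ∈ H}`. -/
theorem RegN.mem_powerClosure {n : ℕ} (hp : IsPGroup p G) (hG : RegN p n G) (H : Subgroup G) :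
    ∀ y ∈ powerClosure p n H, ∃ x ∈ H, y = x ^ p ^ n := by
  apply mem_powerClosure_of_mul_closed'
  intro a ha b hb
  obtain ⟨c, hc⟩ := RegN.pow_mul_pow_aux (p := p) n (Nat.card H) H rfl (hp.to_subgroup H)
    (hG.subgroup H) ⟨a, ha⟩ ⟨b, hb⟩
  refine ⟨c, c.2, ?_⟩
  simpa using congrArg Subtype.val hc

omit [Finite G] in
theorem powerClosure_le_self (p n : ℕ) (H : Subgroup G) : powerClosure p n H ≤ H := by
  unfold powerClosure
  rw [Subgroup.closure_le]
  rintro y ⟨x, hx, rfl⟩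
  exact H.pow_mem hx _

/-- `[℧_n(H), ℧_n(H)] ≤ ℧_n(H')`. -/
theorem RegN.commutator_powerClosure_le {n : ℕ} (hp : IsPGroup p G) (hG : RegN p n G)
    (H : Subgroup G) :
    ⁅powerClosure p n H, powerClosure p n H⁆ ≤ powerClosure p n ⁅H, H⁆ := by
  rw [Subgroup.commutator_le]
  intro g1 hg1 g2 hg2
  obtain ⟨x, hx, rfl⟩ := hG.mem_powerClosure hp H g1 hg1
  have hy : g2 ∈ H := powerClosure_le_self p n H hg2
  obtain ⟨c, hc, huv⟩ := hG x (g2 * x⁻¹ * g2⁻¹)
  have hv : g2 * x⁻¹ * g2⁻¹ ∈ H := H.mul_mem (H.mul_mem hy (H.inv_mem hx)) (H.inv_mem hy)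
  have hle : Subgroup.closure ({x, g2 * x⁻¹ * g2⁻¹} : Set G) ≤ H := by
    rw [Subgroup.closure_le]
    rintro z (rfl | hz)
    · exact hx
    · rw [Set.mem_singleton_iff] at hz; subst hz; exact hv
  have hc' : c ∈ powerClosure p n ⁅H, H⁆ :=
    powerClosure_mono p n (Subgroup.commutator_mono hle hle) hc
  have hcomm : ⁅x, g2⁆ ∈ ⁅H, H⁆ := Subgroup.commutator_mem_commutator hx hy
  have h1 : ⁅x, g2⁆ ^ p ^ n ∈ powerClosure p n ⁅H, H⁆ :=
    Subgroup.subset_closure ⟨_, hcomm, rfl⟩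
  have h2 : ⁅x ^ p ^ n, g2⁆ = ⁅x, g2⁆ ^ p ^ n * c⁻¹ := by
    have e1 : x * (g2 * x⁻¹ * g2⁻¹) = ⁅x, g2⁆ := by
      rw [commutatorElement_def]; group
    rw [e1] at huv
    rw [huv, commutatorElement_def]
    have e2 : (g2 * x⁻¹ * g2⁻¹) ^ p ^ n = g2 * (x ^ p ^ n)⁻¹ * g2⁻¹ := by
      rw [conj_pow, inv_pow]
    rw [e2]; group
  rw [h2]
  exact mul_mem h1 (inv_mem hc')

/-- `℧_1(℧_n(L)) ≤ ℧_{n+1}(L)`. -/
theorem RegN.powerClosure_one_powerClosure_le {n : ℕ} (hp : IsPGroup p G) (hG : RegN p n G)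
    (L : Subgroup G) :
    powerClosure p 1 (powerClosure p n L) ≤ powerClosure p (n + 1) L := by
  conv_lhs => unfold powerClosure
  rw [Subgroup.closure_le]
  rintro y ⟨x, hx, rfl⟩
  obtain ⟨z, hz, rfl⟩ := hG.mem_powerClosure hp L x hx
  refine Subgroup.subset_closure ⟨z, hz, ?_⟩
  rw [← pow_mul, pow_one, pow_succ]

/-- Hall: `1`-regular and `n`-regular imply `(n+1)`-regular. -/
theorem RegN.succ {n : ℕ} (hp : IsPGroup p G) (h1 : RegN p 1 G) (hn : RegN p n G) :
    RegN p (n + 1) G := by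
  intro a b
  set H := Subgroup.closure ({a, b} : Set G) with hH
  have haH : a ∈ H := Subgroup.subset_closure (by simp)
  have hbH : b ∈ H := Subgroup.subset_closure (by simp)
  have hH'le : ⁅H, H⁆ ≤ H := by
    rw [Subgroup.commutator_le]
    intro g1 h1 g2 h2
    rw [commutatorElement_def]
    exact H.mul_mem (H.mul_mem (H.mul_mem h1 h2) (H.inv_mem h1)) (H.inv_mem h2)
  obtain ⟨c, hc, hab⟩ := hn a b
  obtain ⟨d, hd, rfl⟩ := hn.mem_powerClosure hp ⁅H, H⁆ c hc
  obtain ⟨e1, he1, h1e⟩ := h1 (a ^ p ^ n) (b ^ p ^ n * d ^ p ^ n)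
  obtain ⟨e2, he2, h2e⟩ := h1 (b ^ p ^ n) (d ^ p ^ n)
  -- the subgroup W = ℧_n(H)
  have haW : a ^ p ^ n ∈ powerClosure p n H := Subgroup.subset_closure ⟨a, haH, rfl⟩
  have hbW : b ^ p ^ n ∈ powerClosure p n H := Subgroup.subset_closure ⟨b, hbH, rfl⟩
  have hdW : d ^ p ^ n ∈ powerClosure p n H := Subgroup.subset_closure ⟨d, hH'le hd, rfl⟩
  have key : ∀ u v : G, u ∈ powerClosure p n H → v ∈ powerClosure p n H →
      powerClosure p 1 ⁅Subgroup.closure ({u, v} : Set G), Subgroup.closure ({u, v} : Set G)⁆ ≤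
        powerClosure p (n + 1) ⁅H, H⁆ := by
    intro u v hu hv
    have hle : Subgroup.closure ({u, v} : Set G) ≤ powerClosure p n H := by
      rw [Subgroup.closure_le]
      rintro z (rfl | hz)
      · exact hu
      · rw [Set.mem_singleton_iff] at hz; subst hz; exact hv
    refine le_trans (powerClosure_mono p 1 ?_) (hn.powerClosure_one_powerClosure_le hp ⁅H, H⁆)
    exact le_trans (Subgroup.commutator_mono hle hle) (hn.commutator_powerClosure_le hp H)
  have he1' := key _ _ haW (mul_mem hbW hdW) he1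
  have he2' := key _ _ hbW hdW he2
  have hd' : d ^ p ^ (n + 1) ∈ powerClosure p (n + 1) ⁅H, H⁆ :=
    Subgroup.subset_closure ⟨d, hd, rfl⟩
  refine ⟨d ^ p ^ (n + 1) * e2 * e1, mul_mem (mul_mem hd' he2') he1', ?_⟩
  rw [pow_one] at h1e h2e
  calc (a * b) ^ p ^ (n + 1) = ((a * b) ^ p ^ n) ^ p := by rw [← pow_mul, pow_succ]
    _ = (a ^ p ^ n * (b ^ p ^ n * d ^ p ^ n)) ^ p := by rw [hab, mul_assoc]
    _ = (a ^ p ^ n) ^ p * ((b ^ p ^ n) ^ p * (d ^ p ^ n) ^ p * e2) * e1 := by rw [h1e, h2e]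
    _ = a ^ p ^ (n + 1) * b ^ p ^ (n + 1) * (d ^ p ^ (n + 1) * e2 * e1) := by
      rw [← pow_mul, ← pow_mul, ← pow_mul, ← pow_succ]; group

/-- a finite `p`-group that is `1`-regular is `n`-regular for all `n`. -/
theorem RegN.all (hp : IsPGroup p G) (h1 : RegN p 1 G) : ∀ n, RegN p n G := by
  intro n
  induction n with
  | zero => exact regN_zero p G
  | succ n ih => exact RegN.succ hp h1 ih

end main

end Cfsg.Agent.Lib.Helper70
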