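import Mathlib
import Cfsg.Agent.Lib.Helper40.UnitaryBasic
import Cfsg.Agent.Lib.Helper36.HermOrtho
import Cfsg.Agent.Lib.Helper40.PSLOrders
import Cfsg.Agent.Lib.Helper40.Singer
import Cfsg.Agent.Lib.Helper40.SU3Coxeter

/-!
# The Singer torus of `SU_n(q)`, `n` odd (helper70, module SINGODD of S2511 for helper40)

Multiplication by an element of order `N = (q ^ n + 1) / (q + 1)` of the extension `E` of degree `n`
of `F = F_{q²}` preserves the hermitian form `Tr_{E/F}(x ^ (q ^ n) * y)`; written in an orthonormal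
basis (helper36) it is an element of `SU_n(q)` whose `i`-th power is scalar iff `N ∣ i * (q + 1)`.
This generalises helper40's `exists_SU3_coxeter`.
-/

set_option autoImplicit false
set_option linter.unusedSectionVars false

namespace Cfsg.Agent.Lib.Helper70.SUSingerOdd

open Matrix Polynomial Module
open Cfsg.Agent.Lib.Helper40

section herm
variable {F : Type*} [Field F] [Fintype F] {K : Type*} [Field K] [Finite K] [Algebra F K]

/-- the hermitian trace form on an extension of odd degree `n` of `F_{q²}` and an orthonormal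
basis of it -/
theorem exists_herm_orthonormal_odd (p : ℕ) [Fact p.Prime] [CharP F p] (k : ℕ) (hk : 1 ≤ k)
    (hF : Fintype.card F = (p ^ k) ^ 2) (n m : ℕ) (hnm : n = 2 * m + 1) (hK : finrank F K = n) :
    ∃ (B : K → K → F) (e : Fin n → K),
      (∀ x y, B x y = Algebra.trace F K (x ^ ((p ^ k) ^ n) * y)) ∧
      (∀ i j, B (e i) (e j) = if i = j then 1 else 0) ∧
      (∀ (c : Fin n → F) (d : Fin n → F),
        B (∑ i, c i • e i) (∑ i, d i • e i) = ∑ i, (c i) ^ (p ^ k) * d i) ∧
      LinearIndependent F e := by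
  have hpp : p.Prime := Fact.out
  have : CharP K p := charP_of_injective_algebraMap (algebraMap F K).injective p
  have hq2 : 2 ≤ p ^ k := by
    calc 2 ≤ p := hpp.two_le
      _ = p ^ 1 := (pow_one p).symm
      _ ≤ p ^ k := Nat.pow_le_pow_right hpp.pos hk
  have hcardK : Nat.card K = ((p ^ k) ^ 2) ^ n := by
    rw [Module.natCard_eq_pow_finrank (K := F) (V := K), hK, Nat.card_eq_fintype_card, hF]
  have hx6 : ∀ x : K, x ^ ((p ^ k) ^ n * (p ^ k) ^ n) = x := by
    intro x
    have h := pow_natCard_pow x 1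
    rw [pow_one, hcardK] at h
    have e : ((p ^ k) ^ 2) ^ n = (p ^ k) ^ n * (p ^ k) ^ n := by
      rw [← pow_mul, two_mul, pow_add]
    rw [← e]
    exact h
  have hc2 : ∀ c : F, c ^ ((p ^ k) ^ 2) = c := by
    intro c
    rw [← hF]
    exact FiniteField.pow_card c
  have hc2m : ∀ (j : ℕ) (c : F), c ^ (((p ^ k) ^ 2) ^ j) = c := by
    intro j c
    rw [← hF]
    exact FiniteField.pow_card_pow j c
  have hc3 : ∀ c : F, c ^ ((p ^ k) ^ n) = c ^ (p ^ k) := by
    intro c
    have e : (p ^ k) ^ n = ((p ^ k) ^ 2) ^ m * p ^ k := by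
      rw [hnm, pow_succ, pow_mul]
    rw [e, pow_mul, hc2m]
  set σ : F →+* F := iterateFrobenius F p k with hσdef
  have hσ : ∀ c, σ c = c ^ (p ^ k) := fun c => by rw [hσdef, iterateFrobenius_def]
  have hσ2 : ∀ a : F, σ (σ a) = a := by
    intro a
    rw [hσ, hσ, ← pow_mul, ← sq, hc2]
  have hσne : σ ≠ RingHom.id F := by
    intro h
    obtain ⟨a, ha0, ha⟩ :=
      exists_orderOf_eq_of_dvd_card_sub_one (F := F) (Fintype.card F - 1) dvd_rfl
    have h1 : a ^ (p ^ k) = a := by
      rw [← hσ, h, RingHom.id_apply]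
    have h2 : a ^ (p ^ k - 1) = 1 := by
      have : a ^ (p ^ k - 1) * a = 1 * a := by
        rw [← pow_succ, Nat.sub_add_cancel (by omega), h1, one_mul]
      exact mul_right_cancel₀ ha0 this
    have h3 := (ha _).mp h2
    rw [hF] at h3
    have h4 := Nat.le_of_dvd (by omega) h3
    have h5 : p ^ k < (p ^ k) ^ 2 := by nlinarith
    omega
  have hq3 : (p ^ k) ^ n = p ^ (k * n) := (pow_mul p k n).symm
  let B : K →ₛₗ[σ] K →ₗ[F] F := LinearMap.mk₂'ₛₗ σ (RingHom.id F)
    (fun x y => Algebra.trace F K (x ^ ((p ^ k) ^ n) * y))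
    (fun x₁ x₂ y => by
      simp only [hq3]
      rw [add_pow_char_pow, add_mul, map_add])
    (fun c x y => by
      rw [_root_.smul_pow, hc3, smul_mul_assoc, map_smul, hσ])
    (fun x y₁ y₂ => by
      rw [mul_add, map_add])
    (fun c x y => by
      rw [mul_smul_comm, map_smul, RingHom.id_apply])
  have hBdef : ∀ x y, B x y = Algebra.trace F K (x ^ ((p ^ k) ^ n) * y) := fun x y => rfl
  have hS : B.IsSymm := by
    refine ⟨fun x y => ?_⟩
    rw [hBdef, hBdef, hσ, ← hc3, hq3, ← trace_pow_char_pow, ← hq3, mul_pow, ← pow_mul, hx6,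
      mul_comm]
  have hND : B.Nondegenerate := by
    constructor
    · intro x hx
      have h1 := (traceForm_nondegenerate F K).1 (x ^ ((p ^ k) ^ n)) (fun y => by
        rw [Algebra.traceForm_apply]
        exact hx y)
      exact pow_eq_zero_iff (by positivity) |>.mp h1
    · intro y hy
      exact (traceForm_nondegenerate F K).2 y (fun x => by
        rw [Algebra.traceForm_apply]
        have := hy (x ^ ((p ^ k) ^ n))
        rw [hBdef, ← pow_mul, hx6] at this
        exact this)
  obtain ⟨e, he⟩ :=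
    Cfsg.Agent.Lib.Helper36.exists_orthonormal_family_aux σ hσne hσ2 n K B hS hND hK
  refine ⟨fun x y => B x y, e, hBdef, he, ?_,
    Cfsg.Agent.Lib.Helper36.linearIndependent_of_orthonormal σ B e he⟩
  intro c d
  simp only [map_sum, LinearMap.sum_apply, LinearMap.map_smulₛₗ, LinearMap.smul_apply, map_smul, he,
    smul_eq_mul, mul_ite, mul_one, mul_zero, Finset.sum_ite_eq', Finset.mem_univ, if_true, hσ]
  exact Finset.sum_congr rfl (fun i _ => mul_comm _ _)

end herm

section arith

/-- arithmetic of `q ^ n + 1 = N * (q + 1)` -/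
theorem singer_arith (q n N : ℕ) (hq : 2 ≤ q) (hN : q ^ n + 1 = N * (q + 1)) :
    ∃ M : ℕ, (q ^ 2) ^ n - 1 = N * M * (q ^ 2 - 1) := by
  obtain ⟨M, hM⟩ : q - 1 ∣ q ^ n - 1 := Nat.sub_one_dvd_pow_sub_one q n
  refine ⟨M, ?_⟩
  have h1 : 1 ≤ q ^ n := Nat.one_le_pow _ _ (by omega)
  have h2 : 1 ≤ (q ^ 2) ^ n := Nat.one_le_pow _ _ (Nat.one_le_pow _ _ (by omega))
  have h3 : 1 ≤ q ^ 2 := Nat.one_le_pow _ _ (by omega)
  have h4 : 1 ≤ q := by omega
  have e1 : (q ^ 2) ^ n - 1 = (q ^ n + 1) * (q ^ n - 1) := by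
    zify [h1, h2]
    ring
  have e2 : q ^ 2 - 1 = (q + 1) * (q - 1) := by
    zify [h3, h4]
    ring
  rw [e1, e2, hN, hM]
  ring

end arith

section exist
variable {F : Type*} [Field F] [Fintype F]

/-- MODULE SINGODD: a Singer-type element of `SU_n(q)` for `n` odd: the powers that are scalar are
controlled by `N = (q ^ n + 1) / (q + 1)` -/
theorem exists_SU_singer_odd (p : ℕ) [Fact p.Prime] [CharP F p]
    (k : ℕ) (hF : Fintype.card F = (p ^ k) ^ 2) (n : ℕ) (hn : Odd n) (N : ℕ)
    (hN : (p ^ k) ^ n + 1 = N * (p ^ k + 1)) :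
    ∃ X : ↥(Cfsg.SU n F (p ^ k)), ∀ i : ℕ,
      (∃ c : F, ((X : Matrix.SpecialLinearGroup (Fin n) F) : Matrix (Fin n) (Fin n) F) ^ i = c • 1) ↔
        N ∣ i * (p ^ k + 1) := by
  classical
  have hpp : p.Prime := Fact.out
  obtain ⟨m, hnm⟩ := hn
  have hn1 : 1 ≤ n := by omega
  have : NeZero n := ⟨by omega⟩
  -- `k ≥ 1`
  have hk : 1 ≤ k := by
    rcases Nat.eq_zero_or_pos k with h0 | h0
    · exfalso
      rw [h0, pow_zero, one_pow] at hF
      have : 1 < Fintype.card F := Fintype.one_lt_card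
      omega
    · exact h0
  set q := p ^ k with hq
  have hq2 : 2 ≤ q := by
    calc 2 ≤ p := hpp.two_le
      _ = p ^ 1 := (pow_one p).symm
      _ ≤ p ^ k := Nat.pow_le_pow_right hpp.pos hk
  have hq1 : 1 ≤ q := by omega
  obtain ⟨M, hM⟩ := singer_arith q n N hq2 hN
  let E := FiniteField.Extension F p n
  have hK : finrank F E = n := FiniteField.finrank_extension F p n
  have hdvd : N ∣ Fintype.card F ^ n - 1 := by
    rw [hF, hM]
    exact ⟨M * (q ^ 2 - 1), by ring⟩
  obtain ⟨u, hu⟩ := exists_orderOf_units_extension (F := F) p n N hdvd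
  obtain ⟨B, e, hBdef, he, hBe, hli⟩ :=
    exists_herm_orthonormal_odd (K := E) p k hk hF n m hnm hK
  set lam : E := (u : E) with hlamdef
  have hlamN : lam ^ N = 1 := by
    rw [← hu, hlamdef, ← Units.val_pow_eq_pow_val, pow_orderOf_eq_one, Units.val_one]
  have hlam_ord : ∀ i, lam ^ i = 1 → N ∣ i := by
    intro i hi
    rw [← hu]
    apply orderOf_dvd_of_pow_eq_one
    apply Units.ext
    rw [Units.val_pow_eq_pow_val]
    exact hi
  have hlam0 : lam ≠ 0 := u.ne_zero
  have hlamn : lam ^ (q ^ n + 1) = 1 := by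
    rw [hN, pow_mul, hlamN, one_pow]
  let b : Basis (Fin n) F E :=
    basisOfLinearIndependentOfCardEqFinrank' e hli (by simp [hK])
  have hb : ∀ i, b i = e i := fun i => by
    rw [coe_basisOfLinearIndependentOfCardEqFinrank']
  set L : E →ₐ[F] Matrix (Fin n) (Fin n) F := Algebra.leftMulMatrix b with hL
  have hLinj : Function.Injective L := Algebra.leftMulMatrix_injective b
  have hcardE : Nat.card E = Fintype.card F ^ n := by
    rw [FiniteField.natCard_extension F p n, Nat.card_eq_fintype_card]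
  -- determinant
  have hdet : (L lam).det = 1 := by
    rw [hL, ← Algebra.norm_eq_matrix_det b lam]
    apply (algebraMap F E).injective
    rw [FiniteField.algebraMap_norm_eq_pow, map_one, hcardE, Nat.card_eq_fintype_card, hF, hM]
    have hpos : 0 < q ^ 2 - 1 := by
      have : 2 ^ 2 ≤ q ^ 2 := Nat.pow_le_pow_left hq2 2
      omega
    rw [Nat.mul_div_cancel _ hpos, pow_mul, hlamN, one_pow]
  -- unitary
  have hunit : (L lam)ᵀ * (L lam).map (· ^ q) = 1 := by
    have hBinv : ∀ x y, B (lam * x) (lam * y) = B x y := by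
      intro x y
      rw [hBdef, hBdef, mul_pow]
      congr 1
      have h1 : lam ^ (q ^ n) * lam = 1 := by
        rw [← pow_succ]
        exact hlamn
      calc lam ^ q ^ n * x ^ q ^ n * (lam * y)
          = (lam ^ (q ^ n) * lam) * (x ^ q ^ n * y) := by ring
        _ = _ := by rw [h1, one_mul]
    have hrep : ∀ j, lam * e j = ∑ i, (L lam) i j • e i := by
      intro j
      conv_lhs => rw [← b.sum_repr (lam * e j)]
      apply Finset.sum_congr rfl
      intro i _
      rw [hL, Algebra.leftMulMatrix_eq_repr_mul, hb, hb]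
    have h1 : ((L lam).map (· ^ q))ᵀ * (L lam) = 1 := by
      ext j l
      rw [Matrix.mul_apply, Matrix.one_apply, ← he j l, ← hBinv, hrep j, hrep l, hBe]
      rfl
    have h2 := _root_.mul_eq_one_comm.mp h1
    have h3 := congrArg Matrix.transpose h2
    rw [Matrix.transpose_mul, Matrix.transpose_transpose, Matrix.transpose_one] at h3
    exact _root_.mul_eq_one_comm.mp h3
  let X0 : Matrix.SpecialLinearGroup (Fin n) F := ⟨L lam, hdet⟩
  have hX0 : X0 ∈ Cfsg.SU n F (p ^ k) := mem_SU_of_transpose_mul_map p k X0 hunit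
  refine ⟨⟨X0, hX0⟩, ?_⟩
  intro i
  change (∃ c : F, (L lam) ^ i = c • 1) ↔ _
  have hsc : ∀ c : F, (c • 1 : Matrix (Fin n) (Fin n) F) = L (algebraMap F E c) := by
    intro c
    rw [AlgHom.commutes, Algebra.algebraMap_eq_smul_one]
  have hcF : ∀ c : F, c ^ (q ^ n) = c ^ q := by
    intro c
    have e1 : q ^ n = (q ^ 2) ^ m * q := by
      rw [hnm, pow_succ, pow_mul]
    rw [e1, pow_mul, ← hF, FiniteField.pow_card_pow]
  rw [← map_pow]
  constructor
  · rintro ⟨c, hc⟩
    rw [hsc c] at hc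
    have hc' : lam ^ i = algebraMap F E c := hLinj hc
    have hc0 : c ≠ 0 := by
      intro h0
      rw [h0, map_zero] at hc'
      exact (pow_ne_zero i hlam0) hc'
    -- `c ^ (q + 1) = 1`
    have h1 : (lam ^ i) ^ (q ^ n + 1) = 1 := by
      rw [← pow_mul, mul_comm, pow_mul, hlamn, one_pow]
    have h2 : c ^ (q + 1) = 1 := by
      apply (algebraMap F E).injective
      rw [map_one, map_pow, pow_succ, ← map_pow, ← hcF, map_pow, ← hc', ← pow_succ]
      exact h1
    apply hlam_ord
    rw [pow_mul, hc', ← map_pow, h2, map_one]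
  · intro hdvd'
    have h3 : (lam ^ i) ^ (q + 1) = 1 := by
      obtain ⟨t, ht⟩ := hdvd'
      rw [← pow_mul, ht, pow_mul, hlamN, one_pow]
    have h4 : (lam ^ i) ^ (Fintype.card F - 1) = 1 := by
      have h6 : Fintype.card F - 1 = (q + 1) * (q - 1) := by
        rw [hF]
        have : 1 ≤ q ^ 2 := Nat.one_le_pow _ _ hq1
        zify [this, hq1]
        ring
      rw [h6, pow_mul, h3, one_pow]
    obtain ⟨a, ha⟩ := exists_algebraMap_eq_of_pow_card_sub_one (F := F) (lam ^ i) h4
    exact ⟨a, by rw [hsc a, ha]⟩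

end exist

end Cfsg.Agent.Lib.Helper70.SUSingerOdd
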