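import Mathlib
import Cfsg.Agent.Lib.Helper6.SuzOrd3
import Cfsg.Agent.Lib.Helper29.SuzTorus

/-!
# Suzuki's order theorem, MODULE C2 (helper70, for helper6): the trick and Case II

* `trick`: for an involution `τ` with `τ a = b` and `v ∈ U` with `v b = Fix τ` there is a central
  involution `z` of `U` with `v⁻¹ (z τ) v = (z τ)²`.
* `caseII`: if no two involutions have a product of order three, then `|Z(U)| = 2 ^ f` with `f ≥ 3`
  odd and `|U| = |Z(U)|²`.
-/

set_option autoImplicit false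
set_option linter.unusedSectionVars false
set_option linter.style.haveILetI false

namespace Cfsg.Agent.Lib.Helper70.SuzCaseII

open MulAction Cfsg.Agent.Lib.Helper6 Cfsg.Agent.Lib.Helper6.SuzOrd
  Cfsg.Agent.Lib.Helper25.ZassInv Cfsg.Agent.Lib.Helper29.SuzTorus

section arith

theorem two_pow_odd_mod_five (m : ℕ) : 2 ^ (2 * m + 1) % 5 = 2 ∨ 2 ^ (2 * m + 1) % 5 = 3 := by
  induction m with
  | zero => left; norm_num
  | succ m ih =>
    have e : 2 ^ (2 * (m + 1) + 1) = 2 ^ (2 * m + 1) * 4 := by ring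
    rw [e]
    omega

theorem three_dvd_two_pow_even_sub_one (m : ℕ) : 3 ∣ 2 ^ (2 * m) - 1 := by
  rw [pow_mul]
  exact Nat.sub_one_dvd_pow_sub_one (2 ^ 2) m

theorem five_not_dvd_cube_add_one {q : ℕ} (hq : q % 5 = 2 ∨ q % 5 = 3) : ¬ 5 ∣ q ^ 3 + 1 := by
  intro h
  have h1 : (q ^ 3 + 1) % 5 = 0 := Nat.mod_eq_zero_of_dvd h
  have h2 : (q ^ 3) % 5 = ((q % 5) ^ 3) % 5 := Nat.pow_mod q 3 5
  rcases hq with h | h <;> rw [h] at h2 <;> omega

end arith

variable {G Ω : Type*} [Group G] [MulAction G Ω] {a : Ω} {U : Subgroup G} (D : KData G Ω a U)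
  [Finite G] [Finite Ω]

include D in
/-- the trick -/
theorem trick {τ : G} {b : Ω} (hb : b ≠ a) (hτ2 : τ * τ = 1) (hτa : τ • a = b) {v : G}
    (hv : v ∈ U) (hfix : τ • (v • b) = v • b) :
    ∃ z ∈ cen U, z ≠ 1 ∧ v⁻¹ * (z * τ) * v = (z * τ) * (z * τ) := by
  have hτinv : τ⁻¹ = τ := inv_eq_of_mul_eq_one_left hτ2
  have hτ1 : τ ≠ 1 := by
    intro h
    rw [h, one_smul] at hτa
    exact hb hτa.symm
  have hτb : τ • b = a := by rw [← hτa, ← mul_smul, hτ2, one_smul]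
  obtain ⟨z, hz⟩ : ∃ z : G, z = (τ * v⁻¹) * τ * (τ * v⁻¹)⁻¹ := ⟨_, rfl⟩
  have hz' : z = τ * v⁻¹ * τ * v * τ := by
    rw [hz]
    calc τ * v⁻¹ * τ * (τ * v⁻¹)⁻¹ = τ * v⁻¹ * τ * v * τ⁻¹ := by group
      _ = τ * v⁻¹ * τ * v * τ := by rw [hτinv]
  have hz1 : z ≠ 1 := by
    intro h
    apply hτ1
    rw [hz] at h
    have := congrArg (fun w => (τ * v⁻¹)⁻¹ * w * (τ * v⁻¹)) h
    simpa [mul_assoc] using this
  have hz2 : z * z = 1 := by
    rw [hz]
    calc τ * v⁻¹ * τ * (τ * v⁻¹)⁻¹ * (τ * v⁻¹ * τ * (τ * v⁻¹)⁻¹)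
        = (τ * v⁻¹) * (τ * τ) * (τ * v⁻¹)⁻¹ := by group
      _ = 1 := by rw [hτ2]; group
  have hza : z • a = a := by
    rw [hz']
    simp only [mul_smul]
    rw [hτa, hfix, inv_smul_smul, hτb]
  obtain ⟨hzc, -⟩ := D.inv_iff_cen.mp ⟨hz1, hz2, hza⟩
  refine ⟨z, hzc, hz1, ?_⟩
  have e1 : τ * z * τ = v⁻¹ * τ * v := by
    rw [hz']
    calc τ * (τ * v⁻¹ * τ * v * τ) * τ = (τ * τ) * v⁻¹ * τ * v * (τ * τ) := by group
      _ = v⁻¹ * τ * v := by rw [hτ2]; group
  have hvz : v⁻¹ * z = z * v⁻¹ := (mem_cen.mp hzc).2 v⁻¹ (U.inv_mem hv)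
  calc v⁻¹ * (z * τ) * v = (v⁻¹ * z) * τ * v := by group
    _ = z * v⁻¹ * τ * v := by rw [hvz]
    _ = z * (v⁻¹ * τ * v) := by group
    _ = z * (τ * z * τ) := by rw [e1]
    _ = (z * τ) * (z * τ) := by group

include D in
/-- Case II: no two involutions with a product of order three -/
theorem caseII
    (hno3 : ¬ ∃ j1 j2 : G, (j1 ≠ 1 ∧ j1 * j1 = 1) ∧ (j2 ≠ 1 ∧ j2 * j2 = 1) ∧ j1 * j2 ≠ 1 ∧
      (j1 * j2) ^ 3 = 1) :
    ∃ f : ℕ, Odd f ∧ 3 ≤ f ∧ Nat.card (cen U) = 2 ^ f ∧ Nat.card U = (2 ^ f) ^ 2 := by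
  have S := D.toASys
  obtain ⟨b, hb⟩ := D.exists_ne
  -- the involution `τ` interchanging `a` and `b`
  obtain ⟨τ, hτa, hτb⟩ := D.h2 a b b a (Ne.symm hb) hb
  have hτ2 : τ * τ = 1 := D.swap_sq (Ne.symm hb) hτa hτb
  have hτ1 : τ ≠ 1 := by
    intro h
    rw [h, one_smul] at hτa
    exact hb hτa.symm
  obtain ⟨c0, hc0, -⟩ := D.inv_fix hτ1 hτ2
  have hc0a : c0 ≠ a := by
    intro h
    rw [h, hτa] at hc0
    exact hb hc0
  obtain ⟨v, hv, hvb⟩ := D.U_trans hb hc0a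
  have hfix : τ • (v • b) = v • b := by rw [hvb, hc0]
  obtain ⟨z, hzc, hz1, hconj1⟩ := trick D hb hτ2 hτa hv hfix
  have hz2 : z * z = 1 := D.cen_sq hzc
  have hza : z • a = a := D.cen_fix hzc
  obtain ⟨g, hg⟩ : ∃ g : G, g = z * τ := ⟨_, rfl⟩
  rw [← hg] at hconj1
  have hga : g • a ≠ a := by
    rw [hg, mul_smul, hτa]
    exact D.smul_ne_a hza hb
  have hg1 : g ≠ 1 := by
    intro h
    rw [h, one_smul] at hga
    exact hga rfl
  have hconj2 : (v * v)⁻¹ * g * (v * v) = g ^ 4 := by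
    calc (v * v)⁻¹ * g * (v * v) = v⁻¹ * (v⁻¹ * g * v) * v := by group
      _ = v⁻¹ * (g * g) * v := by rw [hconj1]
      _ = (v⁻¹ * g * v) * (v⁻¹ * g * v) := by group
      _ = (g * g) * (g * g) := by rw [hconj1]
      _ = g ^ 4 := by simp [pow_succ, mul_assoc]
  -- `v` is not central
  have hvc : v ∉ cen U := by
    intro hvc
    have hvv : v * v = 1 := D.cen_sq hvc
    rw [hvv, inv_one, one_mul, mul_one] at hconj2
    have h3 : g ^ 3 = 1 := by
      have : g ^ 3 * g = 1 * g := by rw [← pow_succ, one_mul]; exact hconj2.symm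
      exact mul_right_cancel this
    exact hno3 ⟨z, τ, ⟨hz1, hz2⟩, ⟨hτ1, hτ2⟩, hg ▸ hg1, hg ▸ h3⟩
  -- the central involution `z2 = v * v`
  obtain ⟨z2, hz2def⟩ : ∃ z2 : G, z2 = v * v := ⟨_, rfl⟩
  have hz2c : z2 ∈ cen U := by rw [hz2def]; exact D.sq_mem_cen hv
  have hz2ne : z2 ≠ 1 := by
    intro h
    have hv1 : v ≠ 1 := by
      intro h1
      apply hvc
      rw [h1]
      exact (cen U).one_mem
    have hvv : v * v = 1 := by rw [← hz2def]; exact h
    exact hvc (D.inv_iff_cen.mp ⟨hv1, hvv, D.U_fix hv⟩).1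
  have hz2inv : z2⁻¹ = z2 := D.cen_inv_eq hz2c
  have hz2sq : z2 * z2 = 1 := D.cen_sq hz2c
  rw [← hz2def, hz2inv] at hconj2
  have hφ : MulAut.conj z2 g = g ^ 4 := by
    rw [MulAut.conj_apply, hz2inv]
    exact hconj2
  have hφφ : MulAut.conj z2 (MulAut.conj z2 g) = g := by
    rw [MulAut.conj_apply, MulAut.conj_apply, hz2inv]
    calc z2 * (z2 * g * z2) * z2 = (z2 * z2) * g * (z2 * z2) := by group
      _ = g := by rw [hz2sq]; group
  have h16 : g ^ 16 = g := by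
    have h1 : MulAut.conj z2 (g ^ 4) = g ^ 16 := by
      rw [map_pow, hφ, ← pow_mul]
    rw [← h1, ← hφ]
    exact hφφ
  have h15 : g ^ 15 = 1 := by
    have : g ^ 15 * g = 1 * g := by rw [← pow_succ, one_mul]; exact h16
    exact mul_right_cancel this
  have hcomm5 : g ^ 5 * z2 = z2 * g ^ 5 := by
    have h1 : MulAut.conj z2 (g ^ 5) = g ^ 5 := by
      rw [map_pow, hφ, ← pow_mul]
      calc g ^ (4 * 5) = g ^ 15 * g ^ 5 := by rw [← pow_add]
        _ = g ^ 5 := by rw [h15, one_mul]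
    rw [MulAut.conj_apply] at h1
    calc g ^ 5 * z2 = (z2 * g ^ 5 * z2⁻¹) * z2 := by rw [h1]
      _ = z2 * g ^ 5 := by group
  have hg5U : g ^ 5 ∈ U := D.cent_le_U hz2c hz2ne hcomm5
  have hg5 : g ^ 5 = 1 := by
    obtain ⟨k, hk⟩ := D.hU2 ⟨g ^ 5, hg5U⟩
    have hk' : (g ^ 5) ^ 2 ^ k = 1 := by
      have := congrArg Subtype.val hk
      simpa using this
    have h3 : (g ^ 5) ^ 3 = 1 := by rw [← pow_mul]; exact h15
    have hd1 : orderOf (g ^ 5) ∣ 2 ^ k := orderOf_dvd_of_pow_eq_one hk'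
    have hd2 : orderOf (g ^ 5) ∣ 3 := orderOf_dvd_of_pow_eq_one h3
    have hcop : Nat.Coprime (2 ^ k) 3 := Nat.Coprime.pow_left _ (by norm_num)
    have h4 : orderOf (g ^ 5) ∣ 1 := by
      have := Nat.dvd_gcd hd1 hd2
      rwa [hcop] at this
    exact orderOf_eq_one_iff.mp (Nat.dvd_one.mp h4)
  haveI : Fact (Nat.Prime 5) := ⟨by norm_num⟩
  have hord : orderOf g = 5 := orderOf_eq_prime hg5 hg1
  -- the two-point stabiliser
  set d := Nat.card ↥(stabilizer G a ⊓ stabilizer G b : Subgroup G) with hd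
  have hq : Nat.card (cen U) = d + 1 := D.card_cen_eq hb
  have hdodd : Odd d := D.stab2_odd (Ne.symm hb)
  have hd1 : d ≠ 1 := by
    obtain ⟨k, hk1, hka, hkb⟩ := D.exists_stab2_ne_one (Ne.symm hb)
    intro h
    have hsub : Subsingleton ↥(stabilizer G a ⊓ stabilizer G b : Subgroup G) :=
      (Nat.card_eq_one_iff_unique.mp h).1
    apply hk1
    have := Subsingleton.elim (⟨k, ⟨hka, hkb⟩⟩ : ↥(stabilizer G a ⊓ stabilizer G b : Subgroup G)) 1
    exact congrArg Subtype.val this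
  -- (i) `3 ∤ d`
  have h3d : ¬ 3 ∣ d := by
    intro h
    haveI : Fact (Nat.Prime 3) := ⟨Nat.prime_three⟩
    obtain ⟨k, hk⟩ := exists_prime_orderOf_dvd_card' 3 h
    have hk1 : (k : G) ≠ 1 := by
      intro h1
      have : k = 1 := Subtype.ext h1
      rw [this, orderOf_one] at hk
      omega
    have hk3 : (k : G) ^ 3 = 1 := by
      have : k ^ 3 = 1 := by rw [← hk]; exact pow_orderOf_eq_one k
      have := congrArg Subtype.val this
      simpa using this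
    have hka : (k : G) • a = a := k.2.1
    have hkb : (k : G) • b = b := k.2.2
    have hs1 : (τ * (k : G)) • a = b := by rw [mul_smul, hka, hτa]
    have hs2 : (τ * (k : G)) • b = a := by rw [mul_smul, hkb, hτb]
    have hs : (τ * (k : G)) * (τ * (k : G)) = 1 := D.swap_sq (Ne.symm hb) hs1 hs2
    have hs0 : τ * (k : G) ≠ 1 := by
      intro h1
      rw [h1, one_smul] at hs1
      exact hb hs1.symm
    have hprod : τ * (τ * (k : G)) = (k : G) := by rw [← mul_assoc, hτ2, one_mul]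
    exact hno3 ⟨τ, τ * (k : G), ⟨hτ1, hτ2⟩, ⟨hs0, hs⟩, by rw [hprod]; exact hk1,
      by rw [hprod]; exact hk3⟩
  -- `q = 2 ^ f`
  obtain ⟨e, -, he⟩ := D.card_U_pow
  have hqdvd : Nat.card (cen U) ∣ 2 ^ e := by
    rw [← he]
    exact Subgroup.card_dvd_of_le D.cen_le
  obtain ⟨f, -, hf⟩ := (Nat.dvd_prime_pow Nat.prime_two).mp hqdvd
  have hfodd : Odd f := by
    by_contra hne
    rw [Nat.not_odd_iff_even] at hne
    obtain ⟨m, hm⟩ := hne
    apply h3d
    have : d = 2 ^ (2 * m) - 1 := by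
      have : f = 2 * m := by omega
      rw [← this, ← hf, hq]
      omega
    rw [this]
    exact three_dvd_two_pow_even_sub_one m
  obtain ⟨m, hm⟩ := hfodd
  have hmod : Nat.card (cen U) % 5 = 2 ∨ Nat.card (cen U) % 5 = 3 := by
    rw [hf, hm]
    exact two_pow_odd_mod_five m
  have h5d : ¬ 5 ∣ d := by
    intro h
    have : d % 5 = 0 := Nat.mod_eq_zero_of_dvd h
    rw [hq] at hmod
    omega
  -- (ii) `g` fixes no point
  have hSd : Nat.card (cen U) - 1 = d := by rw [hq, Nat.add_sub_cancel]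
  have hgfpf : ∀ p : Ω, g • p ≠ p := by
    intro p hp
    have hzg : g • (z • p) = z • p := by
      -- `z` inverts `g`
      have e1 : g * z = z * g⁻¹ := by
        rw [hg]
        have hzinv : z⁻¹ = z := inv_eq_of_mul_eq_one_left hz2
        have hτinv : τ⁻¹ = τ := inv_eq_of_mul_eq_one_left hτ2
        rw [mul_inv_rev, hzinv, hτinv]
        exact mul_assoc z τ z
      have e2 : g⁻¹ • p = p := by rw [inv_smul_eq_iff, hp]
      rw [← mul_smul, e1, mul_smul, e2]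
    by_cases hzp : z • p = p
    · have hpa : p = a := D.inv_fix_a hz1 hz2 hza hzp
      rw [hpa] at hp
      exact hga hp
    · have hmem : g ∈ (stabilizer G p ⊓ stabilizer G (z • p) : Subgroup G) := ⟨hp, hzg⟩
      have h1 : orderOf (⟨g, hmem⟩ : ↥(stabilizer G p ⊓ stabilizer G (z • p) : Subgroup G)) ∣
          Nat.card ↥(stabilizer G p ⊓ stabilizer G (z • p) : Subgroup G) := orderOf_dvd_natCard _
      rw [Subgroup.orderOf_mk, hord, S.card_stab2 p (z • p) (Ne.symm hzp), hSd] at h1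
      exact h5d h1
  have h5n : 5 ∣ Nat.card U + 1 := by
    have hfree : ∀ t ∈ Subgroup.zpowers g, t ≠ 1 → ∀ p : Ω, t • p ≠ p := by
      intro t ht ht1
      obtain ⟨i, rfl⟩ := Subgroup.mem_zpowers_iff.mp ht
      refine free_of_commute S hgfpf ?_ ht1
      exact (Commute.zpow_left (Commute.refl g) i).eq
    have := card_dvd_of_free S (Subgroup.zpowers g) hfree
    rwa [Nat.card_zpowers, hord] at this
  refine ⟨f, ⟨m, hm⟩, ?_, hf, ?_⟩
  · -- `f ≥ 3`
    have hd3 : 3 ≤ d := by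
      obtain ⟨j, hj⟩ := hdodd
      omega
    have hq4 : 4 ≤ 2 ^ f := by rw [← hf, hq]; omega
    by_contra hlt
    have : f = 1 := by omega
    rw [this] at hq4
    omega
  · rcases D.card_U_cases with h | h
    · rw [h, hf]
    · exfalso
      rw [h] at h5n
      exact five_not_dvd_cube_add_one hmod h5n

end Cfsg.Agent.Lib.Helper70.SuzCaseII
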