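import Cfsg.Agent.Lib.Helper70.YoshidaWreath

/-!
# Yoshida's argument in an abstract transfer setting (helper70 library)

`exists_engel_witness_gen`: the Engel-commutator witness of `Yoshida.exists_engel_witness`, for a finite group `G`, a subgroup `N` of
index prime to `p` with a character `θ` of order `p`, a `p`-subgroup `P` (not necessarily Sylow) and a `P`-invariant subgroup `D ≤ P`
killed by the transfer of `θ`, where the values of `θ` on conjugates of elements of `D` are controlled by a function `ϑ` (`hfus`), equal to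
`ϑ` itself at the cosets fixed by `P` (`hbase`).  This is the form needed for fusion systems (`G` the group of automorphisms of a
characteristic biset).  `exists_surjective_of_engel` is the wreath-product tail for an abstract `p`-group and `exists_surjective_gen`
combines the two.
-/

set_option autoImplicit false
set_option linter.style.haveILetI false

open Finset

namespace Cfsg.Agent.Lib.Helper70.YoshidaGen

open Cfsg.Agent.Lib.Helper70.HallWielandt Cfsg.Agent.Lib.Helper70.Yoshida Cfsg.Agent.Lib.Helper70.YoshidaWreath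

/-- the wreath-product quotient from an Engel witness, for an abstract finite `p`-group -/
theorem exists_surjective_of_engel {P : Type*} [Group P] [Finite P] {p : ℕ} [hp : Fact p.Prime] (hP : IsPGroup p P)
    (x z : P) (P₀ : Subgroup P) (hP₀ : IsCoatom P₀)
    (hc : (fun y : P => y⁻¹ * z⁻¹ * y * z)^[p - 1] x ∈ P₀)
    (hcΦ : (fun y : P => y⁻¹ * z⁻¹ * y * z)^[p - 1] x ∉ (frattini ↥P₀).map P₀.subtype) :
    ∃ (W : Sylow p (Equiv.Perm (Fin (p ^ 2))))
      (f : P →* ↥(W : Subgroup (Equiv.Perm (Fin (p ^ 2))))), Function.Surjective f := by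
  classical
  set cS : P := (fun y : P => y⁻¹ * z⁻¹ * y * z)^[p - 1] x with hcS
  have hcfr : (⟨cS, hc⟩ : ↥P₀) ∉ frattini ↥P₀ := by
    intro hmem
    apply hcΦ
    exact ⟨⟨cS, hc⟩, hmem, rfl⟩
  -- a maximal subgroup of `P₀` avoiding `c`
  obtain ⟨M, hM, hcM⟩ : ∃ M : Subgroup ↥P₀, IsCoatom M ∧ (⟨cS, hc⟩ : ↥P₀) ∉ M := by
    by_contra hcon
    push Not at hcon
    apply hcfr
    unfold frattini Order.radical
    rw [Subgroup.mem_iInf]
    intro M
    rw [Subgroup.mem_iInf]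
    intro hM
    exact hcon M hM
  have hP₀p : IsPGroup p ↥P₀ := hP.to_subgroup P₀
  have hP₀i : P₀.index = p := Cfsg.Agent.Lib.Helper1.coatom_index_of_isPGroup hP hP₀
  have hMi : M.index = p := Cfsg.Agent.Lib.Helper1.coatom_index_of_isPGroup hP₀p hM
  have hM'i : (M.map P₀.subtype).index = p ^ 2 := by
    rw [Subgroup.index_map_subtype, hMi, hP₀i, pow_two]
  have hcM' : cS ∉ M.map P₀.subtype := by
    rintro ⟨m, hm, hmc⟩
    apply hcM
    have : m = ⟨cS, hc⟩ := Subtype.ext hmc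
    rwa [← this]
  have hcard : Nat.card (P ⧸ M.map P₀.subtype) = p ^ 2 := by
    rw [← Subgroup.index_eq_card]; exact hM'i
  let e : (P ⧸ M.map P₀.subtype) ≃ Fin (p ^ 2) := Finite.equivFinOfCardEq hcard
  let ρ : P →* Equiv.Perm (Fin (p ^ 2)) :=
    (e.permCongrHom.toMonoidHom).comp (MulAction.toPermHom P (P ⧸ M.map P₀.subtype))
  have hρc : ρ cS ≠ 1 := by
    intro h1
    have h2 : MulAction.toPermHom P (P ⧸ M.map P₀.subtype) cS = 1 := by
      apply e.permCongrHom.injective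
      rw [map_one]
      exact h1
    have h3 := congrArg (fun σ => σ ((1 : P) : P ⧸ M.map P₀.subtype)) h2
    simp only [MulAction.toPermHom_apply, MulAction.toPerm_apply, Equiv.Perm.coe_one, id_eq] at h3
    apply hcM'
    have h4 : ((cS * 1 : P) : P ⧸ M.map P₀.subtype) = ((1 : P) : P ⧸ M.map P₀.subtype) := h3
    rw [mul_one, QuotientGroup.eq, mul_one] at h4
    exact (Subgroup.inv_mem_iff _).mp h4
  have hR : IsPGroup p ρ.range := hP.of_surjective ρ.rangeRestrict ρ.rangeRestrict_surjective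
  obtain ⟨W, hRW⟩ := hR.exists_le_sylow
  refine ⟨W, ρ.codRestrict W (fun s => hRW ⟨s, rfl⟩), ?_⟩
  have hcardR : p ^ (p + 1) ≤ Nat.card ρ.range := by
    apply card_ge_of_iterate_comm_ne_one p hR (ρ.rangeRestrict x) (ρ.rangeRestrict z)
    rw [← map_iterate_comm]
    intro h1
    apply hρc
    exact congrArg Subtype.val h1
  have hRW' : ρ.range = (W : Subgroup (Equiv.Perm (Fin (p ^ 2)))) := by
    apply Subgroup.eq_of_le_of_card_ge hRW
    rw [card_sylow_perm_sq p W]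
    exact hcardR
  intro y
  have hy : (y : Equiv.Perm (Fin (p ^ 2))) ∈ ρ.range := by rw [hRW']; exact y.2
  obtain ⟨s, hs⟩ := hy
  exact ⟨s, Subtype.ext hs⟩

variable {G : Type*} [Group G]

/-- **Engel witness, abstract transfer form.** -/
theorem exists_engel_witness_gen [Finite G] {p : ℕ} [hp : Fact p.Prime]
    (N : Subgroup G) (θ : ↥N →* ℂˣ) (hθp : ∀ n, θ n ^ p = 1)
    (P : Subgroup G) (hP : IsPGroup p ↥P) (hidx : ¬ p ∣ N.index)
    (D : Subgroup G) (hDP : D ≤ P) (hDn : ∀ s ∈ P, ∀ v ∈ D, s⁻¹ * v * s ∈ D)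
    (htr : ∀ v ∈ D, MonoidHom.transfer θ v = 1)
    (ϑ : G → ℂˣ)
    (hfus : ∀ v ∈ D, ∀ y : G, y⁻¹ * v * y ∈ N →
      ∃ s ∈ D, orderOf s = orderOf v ∧ extd N θ (y⁻¹ * v * y) = ϑ s)
    (hbase : ∀ y : G, (∀ s ∈ P, y⁻¹ * s * y ∈ N) → ∀ v ∈ D, extd N θ (y⁻¹ * v * y) = ϑ v)
    (hne : ∃ v ∈ D, ϑ v ≠ 1) :
    ∃ x ∈ P, ∃ z ∈ P, ∃ P₀ : Subgroup ↥P, IsCoatom P₀ ∧
      (fun y : G => y⁻¹ * z⁻¹ * y * z)^[p - 1] x ∈ P₀.map P.subtype ∧
      (fun y : G => y⁻¹ * z⁻¹ * y * z)^[p - 1] x ∉ ((frattini ↥P₀).map P₀.subtype).map P.subtype := by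
  classical
  -- `u` of least order
  have hex : ∃ n : ℕ, ∃ u ∈ D, ϑ u ≠ 1 ∧ orderOf u = n := by
    obtain ⟨v, hv, hv1⟩ := hne
    exact ⟨_, v, hv, hv1, rfl⟩
  obtain ⟨u, huD, hθu, hun⟩ := Nat.find_spec hex
  have hmin : ∀ u' ∈ D, orderOf u' < orderOf u → ϑ u' = 1 := by
    intro u' hu' hlt
    by_contra hne'
    exact Nat.find_min hex (hun ▸ hlt) ⟨u', hu', hne', rfl⟩
  have huP : u ∈ P := hDP huD
  have hconjord : ∀ v y : G, orderOf (y⁻¹ * v * y) = orderOf v := by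
    intro v y
    have := (MulAut.conj y⁻¹).orderOf_eq v
    rwa [MulAut.conj_apply, inv_inv] at this
  have hcycles : ∀ v : G, v ∈ D → orderOf v = orderOf u → ∀ (y : G) (r : ℕ), 1 < r → r ∣ orderOf v →
      y⁻¹ * v ^ r * y ∈ N → extd N θ (y⁻¹ * v ^ r * y) = 1 := by
    intro v hvD hvo y r hr hrd hmem
    have hr0 : r ≠ 0 := by omega
    obtain ⟨s, hsD, hso, hval⟩ := hfus (v ^ r) (D.pow_mem hvD r) y hmem
    rw [hval]
    apply hmin s hsD
    rw [hso, orderOf_pow_of_dvd hr0 hrd, ← hvo]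
    exact Nat.div_lt_self (orderOf_pos v) hr
  -- the transfer
  haveI : Fintype (G ⧸ N) := Fintype.ofFinite _
  have htr' : MonoidHom.transfer θ u = 1 := htr u huD
  rw [transfer_eq_prod_fixed N θ u (hcycles u huD rfl)] at htr'
  -- the base points
  have hfixiff : ∀ x : G ⧸ N, x ∈ MulAction.fixedPoints ↥P (G ⧸ N) ↔ ∀ s ∈ P, s • x = x := by
    intro x
    rw [MulAction.mem_fixedPoints]
    constructor
    · intro h s hs
      exact h ⟨s, hs⟩
    · intro h s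
      exact h s s.2
  have hbaseval : ∀ x : G ⧸ N, x ∈ MulAction.fixedPoints ↥P (G ⧸ N) → ∀ v ∈ D,
      extd N θ (x.out⁻¹ * v * x.out) = ϑ v := by
    intro x hx v hv
    apply hbase x.out _ v hv
    intro s hs
    rw [← smul_mk_eq_iff, QuotientGroup.out_eq']
    exact (hfixiff x).mp hx s hs
  have hcardB : ¬ p ∣ ((univ : Finset (G ⧸ N)).filter
      (fun x => x ∈ MulAction.fixedPoints ↥P (G ⧸ N))).card := by
    have h1 := hP.card_modEq_card_fixedPoints (G ⧸ N)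
    have h2 : Nat.card (MulAction.fixedPoints ↥P (G ⧸ N)) = ((univ : Finset (G ⧸ N)).filter
        (fun x => x ∈ MulAction.fixedPoints ↥P (G ⧸ N))).card := by
      rw [Nat.card_eq_fintype_card, Fintype.card_subtype]
    rw [← h2]
    intro hdvd
    apply hidx
    rw [Subgroup.index_eq_card]
    exact (Nat.modEq_zero_iff_dvd.mp (h1.trans (Nat.modEq_zero_iff_dvd.mpr hdvd)))
  -- `ϑ u` has order `p`
  have hϑup : ϑ u ^ p = 1 := by
    have hne0 : ((univ : Finset (G ⧸ N)).filter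
        (fun x => x ∈ MulAction.fixedPoints ↥P (G ⧸ N))).Nonempty := by
      rw [← Finset.card_pos]
      by_contra h0
      apply hcardB
      have : ((univ : Finset (G ⧸ N)).filter
        (fun x => x ∈ MulAction.fixedPoints ↥P (G ⧸ N))).card = 0 := by omega
      rw [this]
      exact dvd_zero p
    obtain ⟨x, hx⟩ := hne0
    rw [mem_filter] at hx
    have hmem : x.out⁻¹ * u * x.out ∈ N := by
      rw [← smul_mk_eq_iff, QuotientGroup.out_eq']
      exact (hfixiff x).mp hx.2 u huP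
    rw [← hbaseval x hx.2 u huD, extd_of_mem N θ hmem]
    exact hθp _
  have hsplit := Finset.prod_filter_mul_prod_filter_not
    ((univ : Finset (G ⧸ N)).filter (fun x : G ⧸ N => u • x = x))
    (fun x => x ∈ MulAction.fixedPoints ↥P (G ⧸ N)) (fun x => extd N θ (x.out⁻¹ * u * x.out))
  have hBprod : ∏ x ∈ ((univ : Finset (G ⧸ N)).filter (fun x : G ⧸ N => u • x = x)).filter
      (fun x => x ∈ MulAction.fixedPoints ↥P (G ⧸ N)), extd N θ (x.out⁻¹ * u * x.out) =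
      ϑ u ^ ((univ : Finset (G ⧸ N)).filter (fun x => x ∈ MulAction.fixedPoints ↥P (G ⧸ N))).card := by
    have hset : ((univ : Finset (G ⧸ N)).filter (fun x : G ⧸ N => u • x = x)).filter
        (fun x => x ∈ MulAction.fixedPoints ↥P (G ⧸ N)) =
        (univ : Finset (G ⧸ N)).filter (fun x => x ∈ MulAction.fixedPoints ↥P (G ⧸ N)) := by
      ext x
      simp only [mem_filter, mem_univ, true_and]
      constructor
      · exact fun h => h.2
      · exact fun h => ⟨(hfixiff x).mp h u huP, h⟩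
    rw [hset, Finset.prod_congr rfl (fun x hx => hbaseval x (mem_filter.mp hx).2 u huD), Finset.prod_const]
  have hBne : ϑ u ^ ((univ : Finset (G ⧸ N)).filter
      (fun x => x ∈ MulAction.fixedPoints ↥P (G ⧸ N))).card ≠ 1 := by
    intro h1
    apply hθu
    have hd1 : orderOf (ϑ u) ∣ p := orderOf_dvd_of_pow_eq_one hϑup
    have hd2 := orderOf_dvd_of_pow_eq_one h1
    have hcop : Nat.Coprime p ((univ : Finset (G ⧸ N)).filter
      (fun x => x ∈ MulAction.fixedPoints ↥P (G ⧸ N))).card :=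
      (Nat.Prime.coprime_iff_not_dvd hp.out).mpr hcardB
    have : orderOf (ϑ u) ∣ 1 := by
      have := Nat.dvd_gcd hd1 hd2
      rwa [hcop] at this
    exact orderOf_eq_one_iff.mp (Nat.dvd_one.mp this)
  have hrest : ∏ x ∈ ((univ : Finset (G ⧸ N)).filter (fun x : G ⧸ N => u • x = x)).filter
      (fun x => ¬ x ∈ MulAction.fixedPoints ↥P (G ⧸ N)), extd N θ (x.out⁻¹ * u * x.out) ≠ 1 := by
    intro h1
    rw [h1, mul_one, htr', hBprod] at hsplit
    exact hBne hsplit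
  -- localise to an orbit of `P`
  obtain ⟨a, ha, hPB⟩ : ∃ a ∈ ((univ : Finset (G ⧸ N)).filter (fun x : G ⧸ N => u • x = x)).filter
      (fun x => ¬ x ∈ MulAction.fixedPoints ↥P (G ⧸ N)),
      ∏ x ∈ (((univ : Finset (G ⧸ N)).filter (fun x : G ⧸ N => u • x = x)).filter
      (fun x => ¬ x ∈ MulAction.fixedPoints ↥P (G ⧸ N))).filter
        (fun x => (MulAction.orbitRel P (G ⧸ N)) x a), extd N θ (x.out⁻¹ * u * x.out) ≠ 1 := by
    by_contra hcon
    push Not at hcon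
    exact hrest (Finset.prod_cancels_of_partition_cancels (MulAction.orbitRel P (G ⧸ N)) hcon)
  rw [mem_filter, mem_filter] at ha
  obtain ⟨⟨-, hafix⟩, hanb⟩ := ha
  have hPa : ¬ P ≤ MulAction.stabilizer G a := by
    intro hle
    apply hanb
    rw [hfixiff]
    intro s hs
    exact hle hs
  obtain ⟨g, rfl⟩ := QuotientGroup.mk_surjective a
  -- the subgroups `K₁ ≤ K₀ ◁ P`
  have hK₁K : P ⊓ MulAction.stabilizer G (g : G ⧸ N) ≤ P := inf_le_left
  have hne' : ¬ P ≤ P ⊓ MulAction.stabilizer G (g : G ⧸ N) := fun hle =>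
    hPa (fun w hw => (hle hw).2)
  obtain ⟨K₀, hK₁₀, hK₀K, hK₀n, hK₀i⟩ :=
    exists_normal_index_p P (P ⊓ MulAction.stabilizer G (g : G ⧸ N)) hP hK₁K hne'
  have huK₀ : u ∈ K₀ := hK₁₀ ⟨huP, hafix⟩
  have hPK₀ : ¬ P ≤ K₀ := by
    intro hle
    have h2 : K₀.subgroupOf P = ⊤ := Subgroup.subgroupOf_eq_top.mpr hle
    rw [h2, Subgroup.index_top] at hK₀i
    exact hp.out.one_lt.ne hK₀i
  obtain ⟨z, hzP, hzK₀⟩ := SetLike.not_le_iff_exists.mp hPK₀
  -- `P` normalises `K₀`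
  have hKn : ∀ k ∈ P, ∀ d ∈ K₀, k⁻¹ * d * k ∈ K₀ := by
    intro k hk d hd
    have := hK₀n.conj_mem ⟨d, hK₀K hd⟩ (Subgroup.mem_subgroupOf.mpr hd) (⟨k, hk⟩ : ↥P)⁻¹
    rw [Subgroup.mem_subgroupOf] at this
    simpa using this
  have hzi : ∀ (i : ℕ), ∀ d ∈ K₀, (z ^ i)⁻¹ * d * z ^ i ∈ K₀ := fun i d hd =>
    hKn _ (P.pow_mem hzP i) d hd
  -- coset representatives
  obtain ⟨hrep', hinj'⟩ := coset_reps_of_index_p (K₀.subgroupOf P) hK₀i (⟨z, hzP⟩ : ↥P)
    (fun hmem => hzK₀ (Subgroup.mem_subgroupOf.mp hmem))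
  have hrep : ∀ k ∈ P, ∃ i < p, (z ^ i)⁻¹ * k ∈ K₀ := by
    intro k hk
    obtain ⟨i, hi, hmem⟩ := hrep' ⟨k, hk⟩
    refine ⟨i, hi, ?_⟩
    rw [Subgroup.mem_subgroupOf] at hmem
    simpa using hmem
  have hinj : ∀ i < p, ∀ j < p, (z ^ j)⁻¹ * z ^ i ∈ K₀ → i = j := by
    intro i hi j hj hmem
    apply hinj' i hi j hj
    rw [Subgroup.mem_subgroupOf]
    simpa using hmem
  -- the transfer of `K₀` over the orbit of `g N`
  obtain ⟨μ, hμp, hμ⟩ := exists_orbit_transfer N θ K₀ g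
  have hμp' := hμp p hθp
  have hvK₀ : ∀ i : ℕ, (z ^ i)⁻¹ * u * z ^ i ∈ K₀ := fun i => hzi i u huK₀
  have hvD : ∀ i : ℕ, (z ^ i)⁻¹ * u * z ^ i ∈ D := fun i => hDn _ (P.pow_mem hzP i) u huD
  have hvo : ∀ i : ℕ, orderOf ((z ^ i)⁻¹ * u * z ^ i) = orderOf u := fun i => hconjord u (z ^ i)
  have hμv : ∀ i : ℕ, μ ⟨(z ^ i)⁻¹ * u * z ^ i, hvK₀ i⟩ =
      ∏ x ∈ (univ : Finset (G ⧸ N)).filter
        (fun x => x ∈ MulAction.orbit K₀ (g : G ⧸ N) ∧ ((z ^ i)⁻¹ * u * z ^ i) • x = x),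
        extd N θ (x.out⁻¹ * ((z ^ i)⁻¹ * u * z ^ i) * x.out) := by
    intro i
    apply hμ _ (hvK₀ i) _ _ (by intro x; simp)
    intro y r hy hr hrd hmem
    have e : g⁻¹ * (y⁻¹ * ((z ^ i)⁻¹ * u * z ^ i) ^ r * y) * g =
        (y * g)⁻¹ * ((z ^ i)⁻¹ * u * z ^ i) ^ r * (y * g) := by group
    rw [e]
    apply hcycles _ (hvD i) (hvo i) _ r hr hrd
    rw [← e, ← smul_mk_eq_iff]
    exact hmem
  have hsB : ∀ x : G ⧸ N, x ∈ (((univ : Finset (G ⧸ N)).filter (fun x : G ⧸ N => u • x = x)).filter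
      (fun x => ¬ x ∈ MulAction.fixedPoints ↥P (G ⧸ N))).filter
        (fun x => (MulAction.orbitRel P (G ⧸ N)) x (g : G ⧸ N)) ↔
      (x ∈ MulAction.orbit P (g : G ⧸ N) ∧ u • x = x) := by
    intro x
    rw [mem_filter, mem_filter, mem_filter, MulAction.orbitRel_apply]
    constructor
    · rintro ⟨⟨⟨-, h2⟩, -⟩, h3⟩
      exact ⟨h3, h2⟩
    · rintro ⟨h3, h2⟩
      refine ⟨⟨⟨mem_univ _, h2⟩, ?_⟩, h3⟩
      intro hxfix
      obtain ⟨k, hk⟩ := h3
      have hk' : ((k : ↥P) : G) • (g : G ⧸ N) = x := hk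
      apply hanb
      rw [hfixiff] at hxfix ⊢
      intro s hs
      have h4 := hxfix ((k : G) * s * (k : G)⁻¹) (P.mul_mem (P.mul_mem k.2 hs) (P.inv_mem k.2))
      rw [← hk', ← mul_smul, inv_mul_cancel_right, mul_smul] at h4
      exact MulAction.injective (k : G) h4
  -- the partition of the `P`-orbit into the translates of the `K₀`-orbit
  have hcomm : ∀ (i : ℕ) (y : G ⧸ N), u • z ^ i • y = z ^ i • ((z ^ i)⁻¹ * u * z ^ i) • y := by
    intro i y
    rw [← mul_smul, ← mul_smul]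
    congr 1
    group
  have hpart : ∏ x ∈ (((univ : Finset (G ⧸ N)).filter (fun x : G ⧸ N => u • x = x)).filter
      (fun x => ¬ x ∈ MulAction.fixedPoints ↥P (G ⧸ N))).filter
        (fun x => (MulAction.orbitRel P (G ⧸ N)) x (g : G ⧸ N)),
        extd N θ (x.out⁻¹ * u * x.out) =
      ∏ i ∈ range p, μ ⟨(z ^ i)⁻¹ * u * z ^ i, hvK₀ i⟩ := by
    rw [Finset.prod_congr rfl (fun i _ => hμv i), Finset.prod_sigma']
    symm
    apply Finset.prod_bij (fun (q : Σ _ : ℕ, G ⧸ N) _ => z ^ q.1 • q.2)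
    · rintro ⟨i, y⟩ hq
      rw [mem_sigma, mem_filter] at hq
      obtain ⟨hi, -, ⟨k, hk⟩, hvy⟩ := hq
      have hk' : ((k : ↥K₀) : G) • (g : G ⧸ N) = y := hk
      rw [hsB]
      refine ⟨⟨⟨z ^ i * (k : G), P.mul_mem (P.pow_mem hzP i) (hK₀K k.2)⟩, ?_⟩, ?_⟩
      · show (z ^ i * (k : G)) • (g : G ⧸ N) = z ^ i • y
        rw [mul_smul, hk']
      · show u • z ^ i • y = z ^ i • y
        rw [hcomm, hvy]
    · rintro ⟨i, y⟩ hq ⟨j, y'⟩ hq' heq
      rw [mem_sigma, mem_filter] at hq hq'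
      obtain ⟨hi, -, ⟨k, hk⟩, -⟩ := hq
      obtain ⟨hj, -, ⟨k', hk'⟩, -⟩ := hq'
      have hk1 : ((k : ↥K₀) : G) • (g : G ⧸ N) = y := hk
      have hk1' : ((k' : ↥K₀) : G) • (g : G ⧸ N) = y' := hk'
      have heq' : z ^ i • y = z ^ j • y' := heq
      have hmem : (z ^ j * (k' : G))⁻¹ * (z ^ i * (k : G)) ∈ P ⊓ MulAction.stabilizer G (g : G ⧸ N) := by
        refine ⟨P.mul_mem (P.inv_mem (P.mul_mem (P.pow_mem hzP j) (hK₀K k'.2)))
          (P.mul_mem (P.pow_mem hzP i) (hK₀K k.2)), ?_⟩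
        show _ ∈ MulAction.stabilizer G (g : G ⧸ N)
        rw [MulAction.mem_stabilizer_iff]
        calc ((z ^ j * (k' : G))⁻¹ * (z ^ i * (k : G))) • (g : G ⧸ N)
            = (z ^ j * (k' : G))⁻¹ • (z ^ i • ((k : G) • (g : G ⧸ N))) := by rw [mul_smul, mul_smul]
          _ = (z ^ j * (k' : G))⁻¹ • ((z ^ j * (k' : G)) • (g : G ⧸ N)) := by
              rw [hk1, heq', ← hk1', ← mul_smul (z ^ j)]
          _ = (g : G ⧸ N) := inv_smul_smul _ _
      have hmem2 := hK₁₀ hmem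
      have hij : i = j := by
        apply hinj i (mem_range.mp hi) j (mem_range.mp hj)
        have h3 := K₀.mul_mem (K₀.mul_mem k'.2 hmem2) (K₀.inv_mem k.2)
        have e : (k' : G) * ((z ^ j * (k' : G))⁻¹ * (z ^ i * (k : G))) * (k : G)⁻¹ = (z ^ j)⁻¹ * z ^ i := by
          group
        rwa [e] at h3
      subst hij
      have hy : y = y' := MulAction.injective (z ^ i) heq'
      subst hy
      rfl
    · intro x hx
      rw [hsB] at hx
      obtain ⟨⟨k, hk⟩, hux⟩ := hx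
      have hk' : ((k : ↥P) : G) • (g : G ⧸ N) = x := hk
      obtain ⟨i, hi, hk₀⟩ := hrep _ k.2
      have hzy : z ^ i • (((z ^ i)⁻¹ * (k : G)) • (g : G ⧸ N)) = x := by
        rw [← mul_smul, mul_inv_cancel_left, hk']
      refine ⟨⟨i, ((z ^ i)⁻¹ * (k : G)) • (g : G ⧸ N)⟩, ?_, hzy⟩
      rw [mem_sigma, mem_filter]
      refine ⟨mem_range.mpr hi, mem_univ _, ⟨⟨_, hk₀⟩, rfl⟩, ?_⟩
      have h1 := hcomm i (((z ^ i)⁻¹ * (k : G)) • (g : G ⧸ N))
      rw [hzy, hux, ← hzy] at h1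
      have h2 := MulAction.injective (z ^ i) h1
      exact h2.symm
    · rintro ⟨i, y⟩ hq
      rw [mem_sigma, mem_filter] at hq
      obtain ⟨hi, -, -, hvy⟩ := hq
      show extd N θ (y.out⁻¹ * ((z ^ i)⁻¹ * u * z ^ i) * y.out) =
        extd N θ ((z ^ i • y).out⁻¹ * u * (z ^ i • y).out)
      have hgi : ((z ^ i * y.out : G) : G ⧸ N) = z ^ i • y := by
        have : ((z ^ i * y.out : G) : G ⧸ N) = z ^ i • ((y.out : G) : G ⧸ N) := rfl
        rw [this, QuotientGroup.out_eq']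
      have hfix : u • (z ^ i • y) = z ^ i • y := by rw [hcomm, hvy]
      have hmemN : (z ^ i * y.out)⁻¹ * u * (z ^ i * y.out) ∈ N := by
        rw [← smul_mk_eq_iff, hgi]; exact hfix
      rw [extd_out_conj N θ u _ _ hgi hmemN]
      congr 1
      group
  -- the finite-difference identity
  rw [hpart] at hPB
  obtain ⟨hprod, hcK₀⟩ := prod_conj_eq_of_torsion p K₀ (extd K₀ μ)
    (fun x hx y hy => extd_mul K₀ μ hx hy) z u (fun d hd => by simpa using hzi 1 d hd) huK₀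
    (fun i => by rw [extd_of_mem K₀ μ (hvK₀ i)]; exact hμp' _)
  rw [Finset.prod_congr rfl (fun i _ => (extd_of_mem K₀ μ (hvK₀ i)))] at hprod
  rw [hprod] at hPB
  -- the element `c = [u, z; p-1]`
  have hcP : (fun y : G => y⁻¹ * z⁻¹ * y * z)^[p - 1] u ∈ P := hK₀K hcK₀
  refine ⟨u, huP, z, hzP, K₀.subgroupOf P, ?_, ?_, ?_⟩
  · exact isCoatom_of_index_prime hp.out _ hK₀i
  · exact ⟨⟨_, hcP⟩, Subgroup.mem_subgroupOf.mpr hcK₀, rfl⟩
  · rintro ⟨w, ⟨f, hf, hfw⟩, hwc⟩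
    let incl : ↥(K₀.subgroupOf P) →* ↥K₀ := MonoidHom.mk' (fun x => ⟨((x : ↥P) : G), Subgroup.mem_subgroupOf.mp x.2⟩)
      (by intro x y; rfl)
    have hker := frattini_le_ker_of_pow p (μ.comp incl) (fun x => hμp' _) hf
    rw [MonoidHom.mem_ker] at hker
    apply hPB
    rw [extd_of_mem K₀ μ hcK₀, ← hker]
    show μ _ = μ (incl f)
    congr 1
    apply Subtype.ext
    exact (hwc.symm.trans (congrArg P.subtype hfw.symm))

/-- **Yoshida's argument, abstract transfer form**: under the hypotheses of `exists_engel_witness_gen`, the `p`-group `P` maps onto a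
Sylow `p`-subgroup of the symmetric group of degree `p²`. -/
theorem exists_surjective_gen [Finite G] {p : ℕ} [hp : Fact p.Prime]
    (N : Subgroup G) (θ : ↥N →* ℂˣ) (hθp : ∀ n, θ n ^ p = 1)
    (P : Subgroup G) (hP : IsPGroup p ↥P) (hidx : ¬ p ∣ N.index)
    (D : Subgroup G) (hDP : D ≤ P) (hDn : ∀ s ∈ P, ∀ v ∈ D, s⁻¹ * v * s ∈ D)
    (htr : ∀ v ∈ D, MonoidHom.transfer θ v = 1)
    (ϑ : G → ℂˣ)
    (hfus : ∀ v ∈ D, ∀ y : G, y⁻¹ * v * y ∈ N →
      ∃ s ∈ D, orderOf s = orderOf v ∧ extd N θ (y⁻¹ * v * y) = ϑ s)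
    (hbase : ∀ y : G, (∀ s ∈ P, y⁻¹ * s * y ∈ N) → ∀ v ∈ D, extd N θ (y⁻¹ * v * y) = ϑ v)
    (hne : ∃ v ∈ D, ϑ v ≠ 1) :
    ∃ (W : Sylow p (Equiv.Perm (Fin (p ^ 2))))
      (f : ↥P →* ↥(W : Subgroup (Equiv.Perm (Fin (p ^ 2))))), Function.Surjective f := by
  obtain ⟨x, hxP, z, hzP, P₀, hP₀, hcP₀, hcΦ⟩ :=
    exists_engel_witness_gen N θ hθp P hP hidx D hDP hDn htr ϑ hfus hbase hne
  have h3 : (fun y : ↥P => y⁻¹ * (⟨z, hzP⟩ : ↥P)⁻¹ * y * ⟨z, hzP⟩)^[p - 1] ⟨x, hxP⟩ =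
      ⟨(fun y : G => y⁻¹ * z⁻¹ * y * z)^[p - 1] x, by
        obtain ⟨c, -, hc⟩ := hcP₀
        rw [← hc]; exact c.2⟩ := by
    apply Subtype.ext
    have := map_iterate_comm P.subtype ⟨z, hzP⟩ ⟨x, hxP⟩ (p - 1)
    rw [Subgroup.subtype_apply] at this
    rw [this]
    rfl
  apply exists_surjective_of_engel hP ⟨x, hxP⟩ ⟨z, hzP⟩ P₀ hP₀
  · rw [h3]
    obtain ⟨c, hc, hcc⟩ := hcP₀
    have : c = ⟨(fun y : G => y⁻¹ * z⁻¹ * y * z)^[p - 1] x, by rw [← hcc]; exact c.2⟩ := Subtype.ext hcc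
    rwa [← this]
  · rw [h3]
    intro hmem
    apply hcΦ
    exact ⟨_, hmem, rfl⟩

end Cfsg.Agent.Lib.Helper70.YoshidaGen
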