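import Mathlib

/-!
# `k(A_n) < k(S_n)`

Counting conjugacy classes of the alternating group by cycle types: a class of `S_n` inside `A_n`
splits into at most two classes, and only when the cycle type consists of distinct odd parts
(with at most one fixed point); there are fewer such cycle types than odd ones.
-/

set_option autoImplicit false

namespace Cfsg.Agent.Lib.Helper70

open Equiv Equiv.Perm

variable {α : Type*} [Fintype α] [DecidableEq α]

/-- The sign as a function of the cycle type. -/
def signOf (m : Multiset ℕ) : ℤˣ := (-1 : ℤˣ) ^ (m.sum + Multiset.card m)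

theorem signOf_cycleType (σ : Perm α) : signOf σ.cycleType = Perm.sign σ :=
  (sign_of_cycleType σ).symm

theorem isConj_alt_of_mem {σ₁ σ₂ : alternatingGroup α} {c : Perm α}
    (hc : c ∈ alternatingGroup α) (h : c * (σ₁ : Perm α) * c⁻¹ = σ₂) : IsConj σ₁ σ₂ := by
  rw [isConj_iff]
  exact ⟨⟨c, hc⟩, Subtype.ext (by simpa using h)⟩

theorem fiber_two (σ₁ σ₂ σ₃ : alternatingGroup α) (h12 : IsConj (σ₁ : Perm α) σ₂)
    (h13 : IsConj (σ₁ : Perm α) σ₃) : IsConj σ₁ σ₂ ∨ IsConj σ₁ σ₃ ∨ IsConj σ₂ σ₃ := by
  obtain ⟨τ, hτ⟩ := isConj_iff.mp h12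
  obtain ⟨ρ, hρ⟩ := isConj_iff.mp h13
  by_cases h1 : τ ∈ alternatingGroup α
  · exact Or.inl (isConj_alt_of_mem h1 hτ)
  by_cases h2 : ρ ∈ alternatingGroup α
  · exact Or.inr (Or.inl (isConj_alt_of_mem h2 hρ))
  right; right
  have h3 : ρ * τ⁻¹ ∈ alternatingGroup α := by
    rw [mem_alternatingGroup] at h1 h2 ⊢
    have e1 : Perm.sign τ = -1 := (Int.units_eq_one_or _).resolve_left h1
    have e2 : Perm.sign ρ = -1 := (Int.units_eq_one_or _).resolve_left h2
    simp [e1, e2]
  apply isConj_alt_of_mem h3
  rw [← hτ, ← hρ]; group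

theorem fiber_one (σ₁ σ₂ : alternatingGroup α) (h12 : IsConj (σ₁ : Perm α) σ₂)
    (hc : ¬ Subgroup.centralizer {(σ₁ : Perm α)} ≤ alternatingGroup α) : IsConj σ₁ σ₂ := by
  obtain ⟨τ, hτ⟩ := isConj_iff.mp h12
  by_cases h1 : τ ∈ alternatingGroup α
  · exact isConj_alt_of_mem h1 hτ
  rw [SetLike.le_def] at hc
  push Not at hc
  obtain ⟨κ, hκ, hκA⟩ := hc
  have h3 : τ * κ ∈ alternatingGroup α := by
    rw [mem_alternatingGroup] at h1 hκA ⊢
    have e1 : Perm.sign τ = -1 := (Int.units_eq_one_or _).resolve_left h1
    have e2 : Perm.sign κ = -1 := (Int.units_eq_one_or _).resolve_left hκA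
    simp [e1, e2]
  apply isConj_alt_of_mem h3
  rw [Subgroup.mem_centralizer_iff] at hκ
  have h4 : (σ₁ : Perm α) * κ = κ * σ₁ := hκ _ rfl
  rw [← hτ]
  calc τ * κ * (σ₁ : Perm α) * (τ * κ)⁻¹ = τ * (κ * σ₁) * κ⁻¹ * τ⁻¹ := by group
    _ = τ * (σ₁ * κ) * κ⁻¹ * τ⁻¹ := by rw [h4]
    _ = τ * σ₁ * τ⁻¹ := by group

/-- Cycle type of a class of `Perm α`. -/
def ctS : ConjClasses (Perm α) → Multiset ℕ :=
  Quotient.lift (fun σ : Perm α => σ.cycleType) (fun _ _ h => isConj_iff_cycleType_eq.mp h)

/-- Cycle type of a class of the alternating group. -/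
def ctA : ConjClasses (alternatingGroup α) → Multiset ℕ :=
  Quotient.lift (fun σ : alternatingGroup α => (σ : Perm α).cycleType)
    (fun _ _ h => isConj_iff_cycleType_eq.mp ((alternatingGroup α).subtype.map_isConj h))

@[simp] theorem ctS_mk (σ : Perm α) : ctS (ConjClasses.mk σ) = σ.cycleType := rfl

@[simp] theorem ctA_mk (σ : alternatingGroup α) :
    ctA (ConjClasses.mk σ) = (σ : Perm α).cycleType := rfl

/-- The splitting condition on a cycle type. -/
def SplitCond (α : Type*) [Fintype α] (m : Multiset ℕ) : Prop :=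
  (∀ c ∈ m, Odd c) ∧ Fintype.card α ≤ m.sum + 1 ∧ ∀ i, m.count i ≤ 1

theorem even_sum_add_card_of_odd {m : Multiset ℕ} (h : ∀ c ∈ m, Odd c) :
    Even (m.sum + Multiset.card m) := by
  induction m using Multiset.induction_on with
  | empty => simp
  | cons a m ih =>
    have ha : Odd a := h a (Multiset.mem_cons_self a m)
    have hm := ih (fun c hc => h c (Multiset.mem_cons_of_mem hc))
    rw [Multiset.sum_cons, Multiset.card_cons]
    have : a + m.sum + (Multiset.card m + 1) = (a + 1) + (m.sum + Multiset.card m) := by ring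
    rw [this]
    exact (ha.add_one).add hm

theorem signOf_eq_one_of_odd {m : Multiset ℕ} (h : ∀ c ∈ m, Odd c) : signOf m = 1 := by
  unfold signOf
  exact (even_sum_add_card_of_odd h).neg_one_pow


/-- Decrement a chosen part of a nonzero multiset. -/
noncomputable def decr (m : Multiset ℕ) : Multiset ℕ :=
  if h : m = 0 then 0 else
    (Classical.choose (Multiset.exists_mem_of_ne_zero h) - 1) ::ₘ
      m.erase (Classical.choose (Multiset.exists_mem_of_ne_zero h))

theorem decr_spec {m : Multiset ℕ} (h : m ≠ 0) : ∃ a ∈ m, decr m = (a - 1) ::ₘ m.erase a := by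
  refine ⟨Classical.choose (Multiset.exists_mem_of_ne_zero h),
    Classical.choose_spec (Multiset.exists_mem_of_ne_zero h), ?_⟩
  unfold decr
  rw [dif_neg h]

/-- The inverse of `decr` on multisets of odd numbers. -/
def incr (μ : Multiset ℕ) : Multiset ℕ :=
  ((μ.filter Even).sum + 1) ::ₘ μ.filter (fun c => ¬ Even c)

theorem incr_decr {m : Multiset ℕ} (h : m ≠ 0) (hodd : ∀ c ∈ m, Odd c) : incr (decr m) = m := by
  obtain ⟨a, ha, hd⟩ := decr_spec h
  have hao : Odd a := hodd a ha
  have hae : Even (a - 1) := by
    obtain ⟨k, hk⟩ := hao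
    exact ⟨k, by omega⟩
  have hne : ∀ c ∈ m.erase a, ¬ Even c := by
    intro c hc
    rw [Nat.not_even_iff_odd]
    exact hodd c (Multiset.mem_of_mem_erase hc)
  have h1 : (decr m).filter Even = {a - 1} := by
    rw [hd, Multiset.filter_cons_of_pos _ hae, Multiset.filter_eq_nil.mpr hne]
    rfl
  have h2 : (decr m).filter (fun c => ¬ Even c) = m.erase a := by
    rw [hd, Multiset.filter_cons_of_neg _ (by simpa using hae), Multiset.filter_eq_self.mpr hne]
  unfold incr
  rw [h1, h2, Multiset.sum_singleton]
  have : a - 1 + 1 = a := by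
    have := hao.pos
    omega
  rw [this]
  exact Multiset.cons_erase ha

section Counting

variable (α)

theorem exists_cycleType_iff (m : Multiset ℕ) :
    (∃ σ : Perm α, σ.cycleType = m) ↔ (m.sum ≤ Fintype.card α ∧ ∀ a ∈ m, 2 ≤ a) :=
  Equiv.Perm.exists_with_cycleType_iff α

theorem card_conjClasses_alt_lt (h5 : 5 ≤ Fintype.card α) :
    Nat.card (ConjClasses (alternatingGroup α)) < Nat.card (ConjClasses (Perm α)) := by
  classical
  haveI : Fintype (ConjClasses (Perm α)) := Fintype.ofFinite _
  haveI : Fintype (ConjClasses (alternatingGroup α)) := Fintype.ofFinite _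
  rw [Nat.card_eq_fintype_card, Nat.card_eq_fintype_card]
  set T : Finset (Multiset ℕ) := Finset.univ.image (ctS (α := α)) with hT
  have memT : ∀ m, m ∈ T ↔ ∃ σ : Perm α, σ.cycleType = m := by
    intro m
    rw [hT, Finset.mem_image]
    constructor
    · rintro ⟨c, -, hc⟩
      obtain ⟨σ, rfl⟩ := ConjClasses.exists_rep c
      exact ⟨σ, hc⟩
    · rintro ⟨σ, hσ⟩
      exact ⟨ConjClasses.mk σ, Finset.mem_univ _, hσ⟩
  set E := T.filter (fun m => signOf m = 1) with hE
  set O := T.filter (fun m => ¬ signOf m = 1) with hO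
  set D := T.filter (SplitCond α) with hD
  have hEO : E.card + O.card = T.card := Finset.card_filter_add_card_filter_not _
  have hTle : T.card ≤ Fintype.card (ConjClasses (Perm α)) := by
    rw [hT]
    exact Finset.card_image_le.trans (le_of_eq (Finset.card_univ))
  have hDE : D ⊆ E := by
    intro m hm
    rw [hD, Finset.mem_filter] at hm
    rw [hE, Finset.mem_filter]
    exact ⟨hm.1, signOf_eq_one_of_odd hm.2.1⟩
  -- the bound for the alternating group
  have hA : Fintype.card (ConjClasses (alternatingGroup α)) ≤ E.card + D.card := by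
    have hmaps : ((Finset.univ : Finset (ConjClasses (alternatingGroup α))) :
        Set (ConjClasses (alternatingGroup α))).MapsTo ctA E := by
      intro c _
      obtain ⟨σ, rfl⟩ := ConjClasses.exists_rep c
      rw [Finset.mem_coe, hE, Finset.mem_filter, ctA_mk, signOf_cycleType]
      exact ⟨(memT _).mpr ⟨σ, rfl⟩, mem_alternatingGroup.mp σ.2⟩
    rw [← Finset.card_univ, Finset.card_eq_sum_card_fiberwise hmaps]
    have hfib : ∀ m ∈ E, (Finset.univ.filter (fun c : ConjClasses (alternatingGroup α) =>
        ctA c = m)).card ≤ 1 + (if m ∈ D then 1 else 0) := by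
      intro m hm
      by_cases hmD : m ∈ D
      · rw [if_pos hmD]
        by_contra hcon
        push Not at hcon
        have hcon' : 2 < (Finset.univ.filter (fun c : ConjClasses (alternatingGroup α) =>
            ctA c = m)).card := hcon
        rw [Finset.two_lt_card] at hcon'
        obtain ⟨a, ha, b, hb, c, hc, hab, hac, hbc⟩ := hcon'
        obtain ⟨σ₁, rfl⟩ := ConjClasses.exists_rep a
        obtain ⟨σ₂, rfl⟩ := ConjClasses.exists_rep b
        obtain ⟨σ₃, rfl⟩ := ConjClasses.exists_rep c
        rw [Finset.mem_filter, ctA_mk] at ha hb hc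
        have h12 : IsConj (σ₁ : Perm α) σ₂ := isConj_iff_cycleType_eq.mpr (ha.2.trans hb.2.symm)
        have h13 : IsConj (σ₁ : Perm α) σ₃ := isConj_iff_cycleType_eq.mpr (ha.2.trans hc.2.symm)
        rcases fiber_two σ₁ σ₂ σ₃ h12 h13 with h | h | h
        · exact hab (ConjClasses.mk_eq_mk_iff_isConj.mpr h)
        · exact hac (ConjClasses.mk_eq_mk_iff_isConj.mpr h)
        · exact hbc (ConjClasses.mk_eq_mk_iff_isConj.mpr h)
      · rw [if_neg hmD, add_zero, Finset.card_le_one]
        intro a ha b hb
        obtain ⟨σ₁, rfl⟩ := ConjClasses.exists_rep a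
        obtain ⟨σ₂, rfl⟩ := ConjClasses.exists_rep b
        rw [Finset.mem_filter, ctA_mk] at ha hb
        have h12 : IsConj (σ₁ : Perm α) σ₂ := isConj_iff_cycleType_eq.mpr (ha.2.trans hb.2.symm)
        apply ConjClasses.mk_eq_mk_iff_isConj.mpr
        apply fiber_one σ₁ σ₂ h12
        intro hcen
        apply hmD
        rw [Equiv.Perm.centralizer_le_alternating_iff, ha.2] at hcen
        rw [hD, Finset.mem_filter]
        exact ⟨(Finset.mem_filter.mp hm).1, hcen⟩
    calc ∑ m ∈ E, (Finset.univ.filter (fun c : ConjClasses (alternatingGroup α) =>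
          ctA c = m)).card
        ≤ ∑ m ∈ E, (1 + (if m ∈ D then 1 else 0)) := Finset.sum_le_sum hfib
      _ = E.card + (E.filter (fun m => m ∈ D)).card := by
          rw [Finset.sum_add_distrib, Finset.sum_const, smul_eq_mul, mul_one,
            ← Finset.card_filter]
      _ = E.card + D.card := by
          congr 2
          ext m
          rw [Finset.mem_filter]
          exact ⟨fun h => h.2, fun h => ⟨hDE h, h⟩⟩
  -- fewer splitting types than odd types
  have hDO : D.card < O.card := by
    have hDne : ∀ m ∈ D, m ≠ 0 ∧ (∀ c ∈ m, Odd c) ∧ (∀ c ∈ m, 2 ≤ c) ∧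
        m.sum ≤ Fintype.card α ∧ Fintype.card α ≤ m.sum + 1 := by
      intro m hm
      rw [hD, Finset.mem_filter, memT, exists_cycleType_iff] at hm
      obtain ⟨⟨hs, h2⟩, hodd, hcard, -⟩ := hm
      refine ⟨?_, hodd, h2, hs, hcard⟩
      intro h0
      rw [h0] at hcard
      simp at hcard
      omega
    have hinj : Set.InjOn decr (D : Set (Multiset ℕ)) := by
      intro m hm m' hm' heq
      have h1 := hDne m hm
      have h2 := hDne m' hm'
      rw [← incr_decr h1.1 h1.2.1, ← incr_decr h2.1 h2.2.1, heq]
    have h2O : ({2} : Multiset ℕ) ∈ O := by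
      rw [hO, Finset.mem_filter, memT, exists_cycleType_iff]
      refine ⟨⟨by simp; omega, by simp⟩, ?_⟩
      unfold signOf
      simp
      decide
    have himg : D.image decr ⊆ O.erase {2} := by
      intro μ hμ
      rw [Finset.mem_image] at hμ
      obtain ⟨m, hm, rfl⟩ := hμ
      obtain ⟨hm0, hodd, h2, hs, hcard⟩ := hDne m hm
      obtain ⟨a, ha, hd⟩ := decr_spec hm0
      have hao : Odd a := hodd a ha
      have ha2 : 2 ≤ a := h2 a ha
      have ha3 : 3 ≤ a := by
        obtain ⟨k, hk⟩ := hao
        omega
      have hsum : a + (m.erase a).sum = m.sum := by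
        have := congrArg Multiset.sum (Multiset.cons_erase ha)
        rw [Multiset.sum_cons] at this
        exact this
      have hcardm : Multiset.card (m.erase a) + 1 = Multiset.card m := by
        have := congrArg Multiset.card (Multiset.cons_erase ha)
        rw [Multiset.card_cons] at this
        exact this
      rw [Finset.mem_erase]
      constructor
      · intro h2eq
        rw [hd] at h2eq
        have hc : Multiset.card ((a - 1) ::ₘ m.erase a) = 1 := by rw [h2eq]; rfl
        rw [Multiset.card_cons] at hc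
        have he : m.erase a = 0 := Multiset.card_eq_zero.mp (by omega)
        have hs2 : ((a - 1) ::ₘ m.erase a).sum = 2 := by rw [h2eq]; rfl
        rw [Multiset.sum_cons, he, Multiset.sum_zero] at hs2
        rw [he, Multiset.sum_zero] at hsum
        omega
      · rw [hO, Finset.mem_filter, memT, exists_cycleType_iff, hd]
        refine ⟨⟨?_, ?_⟩, ?_⟩
        · rw [Multiset.sum_cons]
          omega
        · intro c hc
          rw [Multiset.mem_cons] at hc
          rcases hc with rfl | hc
          · omega
          · exact h2 c (Multiset.mem_of_mem_erase hc)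
        · unfold signOf
          rw [Multiset.sum_cons, Multiset.card_cons]
          have hev : Even (m.sum + Multiset.card m) := even_sum_add_card_of_odd hodd
          have hod : Odd (a - 1 + (m.erase a).sum + (Multiset.card (m.erase a) + 1)) := by
            have e : a - 1 + (m.erase a).sum + (Multiset.card (m.erase a) + 1) + 1 =
                m.sum + Multiset.card m := by omega
            by_contra hne
            rw [Nat.not_odd_iff_even] at hne
            have := hne.add_one
            rw [e] at this
            exact (Nat.not_even_iff_odd.mpr this) hev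
          rw [hod.neg_one_pow]
          decide
    calc D.card = (D.image decr).card := (Finset.card_image_of_injOn hinj).symm
      _ ≤ (O.erase {2}).card := Finset.card_le_card himg
      _ < O.card := Finset.card_erase_lt_of_mem h2O
  omega

end Counting

end Cfsg.Agent.Lib.Helper70
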