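-- helper70: if a solvable normal subgroup `Y` of a finite group `X` has cyclic Sylow subgroups for odd
-- primes and Sylow 2-subgroups with a cyclic subgroup of index at most 2, then `X / C_X(Y)` is solvable
-- (stated with the derived series). Used for S4118.
import Mathlib
import Cfsg.Agent.S0587
import Cfsg.Agent.S3378

set_option autoImplicit false

namespace Cfsg.Agent.Lib.Helper70.AutSolv

universe u

/-- Sylow `p`-subgroups are cyclic for odd `p`, and have a cyclic subgroup of index dividing 2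
for `p = 2`. -/
def SmallSylow (Y : Type*) [Group Y] : Prop :=
  ∀ (p : ℕ) [Fact p.Prime] (P : Sylow p Y),
    ∃ c : ↥(P : Subgroup Y), (Subgroup.zpowers c).index ∣ (if p = 2 then 2 else 1)

theorem SmallSylow.of_surjective {Y Z : Type*} [Group Y] [Group Z] [Finite Y] (f : Y →* Z)
    (hf : Function.Surjective f) (h : SmallSylow Y) : SmallSylow Z := by
  intro p _ P'
  obtain ⟨P, rfl⟩ := Sylow.mapSurjective_surjective hf p P'
  obtain ⟨c, hc⟩ := h p P
  -- the restriction of `f` to `P`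
  let g : ↥(P : Subgroup Y) →* ↥((P : Subgroup Y).map f) := f.subgroupMap (P : Subgroup Y)
  have hg : Function.Surjective g := f.subgroupMap_surjective (P : Subgroup Y)
  refine ⟨g c, ?_⟩
  have h1 : Subgroup.zpowers (g c) = (Subgroup.zpowers c).map g := by
    rw [MonoidHom.map_zpowers]
  have h2 : ((Subgroup.zpowers c).map g).index ∣ (Subgroup.zpowers c).index :=
    Subgroup.index_map_dvd _ hg
  change (Subgroup.zpowers (g c)).index ∣ _
  rw [h1]
  exact h2.trans hc

/-- the automorphism group of a group with at most four elements is solvable -/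
theorem isSolvable_mulAut_of_card_le_four {A : Type u} [Group A] [Finite A] (h : Nat.card A ≤ 4) :
    Group.IsSolvable (MulAut A) := by
  have hinj : Function.Injective (MulAut.toPerm A) := fun a b hab => by
    ext x
    exact congrArg (fun σ : Equiv.Perm A => σ x) hab
  have := Fintype.ofFinite A
  have h1 : Nat.card (MulAut A) ≤ Nat.card (Equiv.Perm A) :=
    Nat.card_le_card_of_injective _ hinj
  have h2 : Nat.card (Equiv.Perm A) = (Nat.card A).factorial := by
    classical
    rw [Nat.card_eq_fintype_card, Fintype.card_perm, Nat.card_eq_fintype_card]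
  have h3 : (Nat.card A).factorial ≤ (4 : ℕ).factorial := Nat.factorial_le h
  have h4 : (4 : ℕ).factorial = 24 := by decide
  exact Cfsg.Agent.S3378.solvable_of_card_lt_sixty _ (MulAut A) rfl (by omega)

/-- the automorphism group of a cyclic group is solvable -/
theorem isSolvable_mulAut_of_isCyclic {A : Type u} [Group A] [IsCyclic A] :
    Group.IsSolvable (MulAut A) :=
  Group.isSolvable_of_isSolvable_injective (f := (IsCyclic.mulAutMulEquiv A).toMonoidHom)
    (IsCyclic.mulAutMulEquiv A).injective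

section minimal

variable {X : Type u} [Group X]

/-- a nontrivial normal subgroup contains a minimal normal subgroup -/
theorem exists_minNormal_le [Finite X] (R : Subgroup X) [hR : R.Normal] (hR1 : R ≠ ⊥) :
    ∃ N : Subgroup X, N.Normal ∧ N ≠ ⊥ ∧ N ≤ R ∧
      ∀ L : Subgroup X, L.Normal → L ≤ N → L = ⊥ ∨ L = N := by
  classical
  have hex : ∃ c : ℕ, ∃ N : Subgroup X, N.Normal ∧ N ≠ ⊥ ∧ N ≤ R ∧ Nat.card N = c :=
    ⟨Nat.card R, R, hR, hR1, le_rfl, rfl⟩
  obtain ⟨N, hNn, hN1, hNR, hNc⟩ := Nat.find_spec hex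
  refine ⟨N, hNn, hN1, hNR, ?_⟩
  intro L hLn hLN
  by_cases hL1 : L = ⊥
  · exact Or.inl hL1
  · right
    have h1 : Nat.find hex ≤ Nat.card L :=
      Nat.find_min' hex ⟨L, hLn, hL1, le_trans hLN hNR, rfl⟩
    rw [← hNc] at h1
    exact Subgroup.eq_of_le_of_card_ge hLN h1

/-- a solvable minimal normal subgroup is abelian -/
theorem comm_of_minNormal_solvable (N : Subgroup X) [hN : N.Normal]
    (hmin : ∀ L : Subgroup X, L.Normal → L ≤ N → L = ⊥ ∨ L = N) (hN1 : N ≠ ⊥)
    (hsolv : Group.IsSolvable N) : ∀ a ∈ N, ∀ b ∈ N, a * b = b * a := by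
  have hle : ⁅N, N⁆ ≤ N := Subgroup.commutator_le_right N N
  rcases hmin ⁅N, N⁆ inferInstance hle with h | h
  · intro a ha b hb
    have h1 := Subgroup.commutator_eq_bot_iff_le_centralizer.mp h
    exact (Subgroup.mem_centralizer_iff.mp (h1 ha) b hb).symm
  · exfalso
    have hnt : Nontrivial N := (Subgroup.nontrivial_iff_ne_bot N).mpr hN1
    have h2 := Group.IsSolvable.commutator_lt_top_of_nontrivial N
    have h3 : (commutator N).map N.subtype = ⁅N, N⁆ := by
      rw [commutator_def, Subgroup.map_commutator, ← MonoidHom.range_eq_map,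
        Subgroup.range_subtype]
    rw [h] at h3
    have h4 : commutator N = ⊤ := by
      apply Subgroup.map_injective N.subtype_injective
      rw [h3, ← MonoidHom.range_eq_map, Subgroup.range_subtype]
    exact h2.ne h4

end minimal

section main

variable {X : Type u} [Group X]

/-- the kernel of the conjugation action on a normal subgroup is its centralizer -/
theorem conjNormal_eq_one_iff (A : Subgroup X) [A.Normal] (x : X) :
    (MulAut.conjNormal x : MulAut A) = 1 ↔ x ∈ Subgroup.centralizer (A : Set X) := by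
  constructor
  · intro h
    rw [Subgroup.mem_centralizer_iff]
    intro a ha
    have h1 := congrArg (fun σ : MulAut A => ((σ ⟨a, ha⟩ : A) : X)) h
    simp only [MulAut.conjNormal_apply, MulAut.one_apply] at h1
    calc a * x = (x * a * x⁻¹) * x := by rw [h1]
      _ = x * a := by group
  · intro h
    ext a
    rw [MulAut.conjNormal_apply, MulAut.one_apply]
    have := Subgroup.mem_centralizer_iff.mp h (a : X) a.2
    rw [← this]; group

/-- if the automorphism group of the normal subgroup `A` is solvable, some term of the derived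
series centralizes `A` -/
theorem exists_derivedSeries_le_centralizer_of_isSolvable_mulAut (A : Subgroup X) [A.Normal]
    (h : Group.IsSolvable (MulAut A)) :
    ∃ k, derivedSeries X k ≤ Subgroup.centralizer (A : Set X) := by
  obtain ⟨k, hk⟩ := (Group.isSolvable_def (MulAut A)).mp h
  refine ⟨k, ?_⟩
  intro x hx
  rw [← conjNormal_eq_one_iff]
  have h1 : (MulAut.conjNormal x : MulAut A) ∈ (derivedSeries X k).map (MulAut.conjNormal) :=
    Subgroup.mem_map_of_mem _ hx
  have h2 := map_derivedSeries_le_derivedSeries (MulAut.conjNormal : X →* MulAut A) k h1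
  rw [hk, Subgroup.mem_bot] at h2
  exact h2

variable [Finite X]

/-- a minimal normal subgroup inside a solvable normal subgroup with small Sylow subgroups has a
solvable automorphism group -/
theorem isSolvable_mulAut_of_minimal (Y A : Subgroup X) [hAn : A.Normal] (hAY : A ≤ Y)
    (hA1 : A ≠ ⊥) (hmin : ∀ L : Subgroup X, L.Normal → L ≤ A → L = ⊥ ∨ L = A)
    (hYs : Group.IsSolvable Y) (hSS : SmallSylow Y) : Group.IsSolvable (MulAut A) ∧
      ∀ a ∈ A, ∀ b ∈ A, a * b = b * a := by
  have hAs : Group.IsSolvable A :=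
    Group.isSolvable_of_isSolvable_injective (f := Subgroup.inclusion hAY)
      (Subgroup.inclusion_injective hAY)
  have hab : ∀ a ∈ A, ∀ b ∈ A, a * b = b * a :=
    comm_of_minNormal_solvable A hmin hA1 hAs
  refine ⟨?_, hab⟩
  have hcent : A ≤ Subgroup.centralizer (A : Set X) := by
    intro a ha
    rw [Subgroup.mem_centralizer_iff]
    intro b hb
    exact hab b hb a ha
  have hcard : Nat.card A ≠ 1 := fun h1 => hA1 (Subgroup.card_eq_one.mp h1)
  obtain ⟨p, hp, hpdvd⟩ := Nat.exists_prime_and_dvd hcard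
  have : Fact p.Prime := ⟨hp⟩
  have hexp : ∀ x ∈ A, x ^ p = 1 :=
    Cfsg.Agent.S0587.pow_eq_one_of_minimal_normal A hmin hcent p hp hpdvd
  -- `A` as a `p`-subgroup of `Y`
  have hAp : IsPGroup p (A.subgroupOf Y) := by
    intro a
    refine ⟨1, ?_⟩
    apply Subtype.ext
    apply Subtype.ext
    rw [pow_one, Subgroup.coe_pow, Subgroup.coe_one, Subgroup.coe_pow, Subgroup.coe_one]
    exact hexp _ (Subgroup.mem_subgroupOf.mp a.2)
  obtain ⟨P, hP⟩ := hAp.exists_le_sylow
  obtain ⟨c, hc⟩ := hSS p P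
  -- `A''`: `A` inside `P`
  set A'' : Subgroup ↥(P : Subgroup Y) := (A.subgroupOf Y).subgroupOf (P : Subgroup Y) with hA''
  have hcardA'' : Nat.card A'' = Nat.card A := by
    rw [hA'', Nat.card_congr (Subgroup.subgroupOfEquivOfLe hP).toEquiv,
      Nat.card_congr (Subgroup.subgroupOfEquivOfLe hAY).toEquiv]
  have hexp'' : ∀ x ∈ A'', x ^ p = 1 := by
    intro x hx
    apply Subtype.ext
    apply Subtype.ext
    rw [Subgroup.coe_pow, Subgroup.coe_pow, Subgroup.coe_one, Subgroup.coe_one]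
    exact hexp _ (Subgroup.mem_subgroupOf.mp (Subgroup.mem_subgroupOf.mp hx))
  -- the cyclic subgroup has index dividing 2, hence is normal
  have hkdvd : (Subgroup.zpowers c).index ∣ 2 := by
    refine hc.trans ?_
    split_ifs <;> simp
  have hZn : (Subgroup.zpowers c).Normal := by
    rcases (Nat.dvd_prime Nat.prime_two).mp hkdvd with h1 | h2
    · rw [Subgroup.index_eq_one.mp h1]; infer_instance
    · exact Subgroup.normal_of_index_eq_two h2
  -- `|A'' : A'' ∩ ⟨c⟩|` divides the index of `⟨c⟩`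
  have hrel : (A'' ⊓ Subgroup.zpowers c).relIndex A'' ∣ (Subgroup.zpowers c).index := by
    rw [Subgroup.inf_relIndex_left]
    exact Subgroup.relIndex_dvd_index_of_normal _ _
  -- `A'' ∩ ⟨c⟩` is cyclic of exponent `p`
  have hcyc : IsCyclic ↥(A'' ⊓ Subgroup.zpowers c) :=
    Subgroup.isCyclic_of_le (inf_le_right : A'' ⊓ Subgroup.zpowers c ≤ Subgroup.zpowers c)
  have hcardI : Nat.card ↥(A'' ⊓ Subgroup.zpowers c) ∣ p := by
    obtain ⟨g, hg⟩ := hcyc.exists_generator
    rw [← orderOf_eq_card_of_forall_mem_zpowers hg]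
    apply orderOf_dvd_of_pow_eq_one
    apply Subtype.ext
    rw [Subgroup.coe_pow, Subgroup.coe_one]
    exact hexp'' _ g.2.1
  have hmul : Nat.card ↥(A'' ⊓ Subgroup.zpowers c) * (A'' ⊓ Subgroup.zpowers c).relIndex A'' =
      Nat.card A'' := by
    have := Subgroup.relIndex_mul_relIndex (⊥ : Subgroup ↥(P : Subgroup Y))
      (A'' ⊓ Subgroup.zpowers c) A'' bot_le inf_le_left
    rwa [Subgroup.relIndex_bot_left, Subgroup.relIndex_bot_left] at this
  have hdvd : Nat.card A ∣ p * (if p = 2 then 2 else 1) := by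
    rw [← hcardA'', ← hmul]
    exact Nat.mul_dvd_mul hcardI (hrel.trans hc)
  by_cases hp2 : p = 2
  · rw [if_pos hp2, hp2] at hdvd
    have : Nat.card A ≤ 4 := Nat.le_of_dvd (by norm_num) hdvd
    exact isSolvable_mulAut_of_card_le_four this
  · rw [if_neg hp2, mul_one] at hdvd
    have hAp' : Nat.card A = p := by
      rcases (Nat.dvd_prime hp).mp hdvd with h | h
      · exact absurd h hcard
      · exact h
    have : IsCyclic A := isCyclic_of_prime_card hAp'
    exact isSolvable_mulAut_of_isCyclic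

end main

section induction

/-- **Main lemma**: some term of the derived series of `X` centralizes `Y`. -/
theorem exists_derivedSeries_le_centralizer :
    ∀ (n : ℕ) {X : Type u} [Group X] [Finite X] (Y : Subgroup X), Y.Normal → Nat.card Y = n →
      Group.IsSolvable Y → SmallSylow Y →
      ∃ k, derivedSeries X k ≤ Subgroup.centralizer (Y : Set X) := by
  intro n
  induction n using Nat.strong_induction_on with
  | _ n ih =>
    intro X _ _ Y hYn hcard hYs hSS
    by_cases hY1 : Y = ⊥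
    · refine ⟨0, ?_⟩
      rw [hY1]
      intro x _
      rw [Subgroup.mem_centralizer_iff]
      intro y hy
      rw [Subgroup.coe_bot, Set.mem_singleton_iff] at hy
      rw [hy, mul_one, one_mul]
    obtain ⟨A, hAn, hA1, hAY, hmin⟩ :=
      exists_minNormal_le Y hY1
    obtain ⟨hAut, hab⟩ := isSolvable_mulAut_of_minimal Y A hAY hA1 hmin hYs hSS
    obtain ⟨k₁, hk₁⟩ := exists_derivedSeries_le_centralizer_of_isSolvable_mulAut A hAut
    -- the quotient by `A`
    set π : X →* X ⧸ A := QuotientGroup.mk' A with hπ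
    have hπs : Function.Surjective π := QuotientGroup.mk'_surjective A
    have hYn' : (Y.map π).Normal := hYn.map π hπs
    have hcardA : 2 ≤ Nat.card A := by
      have h0 : 0 < Nat.card A := Nat.card_pos
      have h1 : Nat.card A ≠ 1 := fun h1 => hA1 (Subgroup.card_eq_one.mp h1)
      omega
    have hcard' : Nat.card (Y.map π) * Nat.card A = Nat.card Y := by
      have h1 : π.ker.relIndex Y = Nat.card (Y.map π) := Subgroup.relIndex_ker Y π
      rw [hπ, QuotientGroup.ker_mk'] at h1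
      have h2 := Subgroup.relIndex_mul_relIndex (⊥ : Subgroup X) A Y bot_le hAY
      rw [Subgroup.relIndex_bot_left, Subgroup.relIndex_bot_left] at h2
      rw [← h1, mul_comm]
      exact h2
    have hlt : Nat.card (Y.map π) < n := by
      rw [← hcard, ← hcard']
      have h0 : 0 < Nat.card (Y.map π) := Nat.card_pos
      nlinarith
    have hsurj : Function.Surjective (π.subgroupMap Y) := π.subgroupMap_surjective Y
    have hYs' : Group.IsSolvable (Y.map π) := Group.isSolvable_of_surjective hsurj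
    have hSS' : SmallSylow (Y.map π) := hSS.of_surjective _ hsurj
    obtain ⟨k₂, hk₂⟩ := ih _ hlt (Y.map π) hYn' rfl hYs' hSS'
    -- combine
    refine ⟨max k₁ k₂ + 1, ?_⟩
    rw [derivedSeries_succ, Subgroup.commutator_le]
    intro x₁ hx₁ x₂ hx₂
    have hxA : ∀ x ∈ derivedSeries X (max k₁ k₂), ∀ a ∈ A, x * a = a * x := by
      intro x hx a ha
      have h1 : x ∈ Subgroup.centralizer (A : Set X) :=
        hk₁ (derivedSeries_antitone X (le_max_left k₁ k₂) hx)
      exact (Subgroup.mem_centralizer_iff.mp h1 a ha).symm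
    have hxY : ∀ x ∈ derivedSeries X (max k₁ k₂), ∀ y ∈ Y, x * y * x⁻¹ * y⁻¹ ∈ A := by
      intro x hx y hy
      have h1 : π x ∈ derivedSeries (X ⧸ A) k₂ := by
        apply map_derivedSeries_le_derivedSeries π k₂
        exact Subgroup.mem_map_of_mem π (derivedSeries_antitone X (le_max_right k₁ k₂) hx)
      have h2 := Subgroup.mem_centralizer_iff.mp (hk₂ h1) (π y) (Subgroup.mem_map_of_mem π hy)
      have h3 : π (x * y * x⁻¹ * y⁻¹) = 1 := by
        rw [map_mul, map_mul, map_mul, map_inv, map_inv, ← h2]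
        group
      exact (QuotientGroup.eq_one_iff _).mp h3
    -- conjugation by `x₁ x₂` and by `x₂ x₁` agree on `Y`
    have key : ∀ y ∈ Y, (x₁ * x₂) * y * (x₁ * x₂)⁻¹ = (x₂ * x₁) * y * (x₂ * x₁)⁻¹ := by
      intro y hy
      obtain ⟨a₁, ha₁⟩ : ∃ a₁, a₁ = x₁ * y * x₁⁻¹ * y⁻¹ := ⟨_, rfl⟩
      obtain ⟨a₂, ha₂⟩ : ∃ a₂, a₂ = x₂ * y * x₂⁻¹ * y⁻¹ := ⟨_, rfl⟩
      have ha₁A : a₁ ∈ A := by rw [ha₁]; exact hxY x₁ hx₁ y hy
      have ha₂A : a₂ ∈ A := by rw [ha₂]; exact hxY x₂ hx₂ y hy
      have e₁ : x₁ * y * x₁⁻¹ = a₁ * y := by rw [ha₁]; group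
      have e₂ : x₂ * y * x₂⁻¹ = a₂ * y := by rw [ha₂]; group
      have c₁ : x₁ * a₂ * x₁⁻¹ = a₂ := by rw [hxA x₁ hx₁ a₂ ha₂A]; group
      have c₂ : x₂ * a₁ * x₂⁻¹ = a₁ := by rw [hxA x₂ hx₂ a₁ ha₁A]; group
      have k1 : (x₁ * x₂) * y * (x₁ * x₂)⁻¹ = a₂ * a₁ * y := by
        calc (x₁ * x₂) * y * (x₁ * x₂)⁻¹ = x₁ * (x₂ * y * x₂⁻¹) * x₁⁻¹ := by group
          _ = x₁ * (a₂ * y) * x₁⁻¹ := by rw [e₂]
          _ = (x₁ * a₂ * x₁⁻¹) * (x₁ * y * x₁⁻¹) := by group
          _ = a₂ * a₁ * y := by rw [c₁, e₁, mul_assoc]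
      have k2 : (x₂ * x₁) * y * (x₂ * x₁)⁻¹ = a₂ * a₁ * y := by
        calc (x₂ * x₁) * y * (x₂ * x₁)⁻¹ = x₂ * (x₁ * y * x₁⁻¹) * x₂⁻¹ := by group
          _ = x₂ * (a₁ * y) * x₂⁻¹ := by rw [e₁]
          _ = (x₂ * a₁ * x₂⁻¹) * (x₂ * y * x₂⁻¹) := by group
          _ = a₁ * a₂ * y := by rw [c₂, e₂, mul_assoc]
          _ = a₂ * a₁ * y := by rw [hab a₁ ha₁A a₂ ha₂A]
      exact k1.trans k2.symm
    rw [Subgroup.mem_centralizer_iff]
    intro y hy
    have hy' : (x₁ * x₂)⁻¹ * y * (x₁ * x₂) ∈ Y := by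
      have := hYn.conj_mem y hy (x₁ * x₂)⁻¹
      simpa using this
    have h1 := key _ hy'
    have h2 : (x₁ * x₂) * ((x₁ * x₂)⁻¹ * y * (x₁ * x₂)) * (x₁ * x₂)⁻¹ = y := by group
    rw [h2] at h1
    -- `y = v (u⁻¹ y u) v⁻¹`
    rw [commutatorElement_def]
    have h3 : x₁ * x₂ * x₁⁻¹ * x₂⁻¹ * y = x₁ * x₂ * x₁⁻¹ * x₂⁻¹ *
        (x₂ * x₁ * ((x₁ * x₂)⁻¹ * y * (x₁ * x₂)) * (x₂ * x₁)⁻¹) := by
      rw [← h1]
    calc y * (x₁ * x₂ * x₁⁻¹ * x₂⁻¹)
        = x₁ * x₂ * x₁⁻¹ * x₂⁻¹ *
            (x₂ * x₁ * ((x₁ * x₂)⁻¹ * y * (x₁ * x₂)) * (x₂ * x₁)⁻¹) := by group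
      _ = x₁ * x₂ * x₁⁻¹ * x₂⁻¹ * y := h3.symm

end induction

end Cfsg.Agent.Lib.Helper70.AutSolv
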