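import Mathlib
import Cfsg.Agent.S0027
import Cfsg.Agent.Lib.Helper9.FrobFix
import Cfsg.Agent.Lib.Helper70.BG36Basic

/-!
MODULE C for S1444 (BG Theorem 3.6), requested by helper9: `Q_abelian`.
-/

set_option autoImplicit false

namespace Cfsg.Agent.Lib.Helper70

open scoped commutatorElement
open Cfsg.Agent.Lib.Helper70.BG36

theorem card_eq_prime_pow_of_frob {G : Type*} [Group G] [Finite G] {p r : ℕ} (hp : p.Prime)
    (U V : Subgroup G) (x : G) (hUV : U ≤ V) (hU1 : U ≠ ⊥)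
    (hcard : Nat.card U = Nat.card ↥(U ⊓ Subgroup.centralizer ({x} : Set G)) ^ r)
    (hCV : Nat.card ↥(V ⊓ Subgroup.centralizer ({x} : Set G)) = p) :
    Nat.card U = p ^ r := by
  have hdvd : Nat.card ↥(U ⊓ Subgroup.centralizer ({x} : Set G)) ∣ p := by
    rw [← hCV]; exact Subgroup.card_dvd_of_le (inf_le_inf_right _ hUV)
  rcases (Nat.dvd_prime hp).mp hdvd with h | h
  · exfalso; apply hU1; rw [← Subgroup.card_eq_one, hcard, h, one_pow]
  · rw [hcard, h]

theorem comm_of_conj_eq {G : Type*} [Group G] {a b c : G} (key : b * c * b⁻¹ = a * c * a⁻¹) :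
    c * (b⁻¹ * a) = (b⁻¹ * a) * c := by
  calc c * (b⁻¹ * a) = b⁻¹ * (b * c * b⁻¹) * a := by group
    _ = b⁻¹ * (a * c * a⁻¹) * a := by rw [key]
    _ = b⁻¹ * a * c := by group

theorem Q_abelian {G : Type*} [Group G] [Finite G] {p q r : ℕ} (hp : p.Prime) (hq : q.Prime) (hr : r.Prime) (hpq : p ≠ q) (hpr : p ≠ r) (hqr : q ≠ r)
    (V Q P : Subgroup G) (x : G) (hx : orderOf x = r)
    (hVab : ∀ a ∈ V, ∀ b ∈ V, a * b = b * a) (hVp : IsPGroup p V) (hQq : IsPGroup q Q) (hP : IsPGroup p P)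
    (hQV : Q ≤ Subgroup.normalizer (V : Set G)) (hPV : P ≤ Subgroup.normalizer (V : Set G)) (hxV : x ∈ Subgroup.normalizer (V : Set G))
    (hPQ : P ≤ Subgroup.normalizer (Q : Set G)) (hxQ : x ∈ Subgroup.normalizer (Q : Set G)) (hxP : x ∈ Subgroup.normalizer (P : Set G))
    (hfaith : ∀ g ∈ Q, (∀ v ∈ V, g * v = v * g) → g = 1)
    (hPncQ : ¬ P ≤ Subgroup.centralizer (Q : Set G))
    (hCVx : Nat.card ↥(V ⊓ Subgroup.centralizer ({x} : Set G)) = p)
    (hCQx : IsCyclic ↥(Q ⊓ Subgroup.centralizer ({x} : Set G)))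
    (hCPx : P ⊓ Subgroup.centralizer ({x} : Set G) = ⊥)
    (hmin : ∀ Q' : Subgroup G, Q' ≤ Q → Q' ≠ Q → P ≤ Subgroup.normalizer (Q' : Set G) → x ∈ Subgroup.normalizer (Q' : Set G) → Q' ≤ Subgroup.centralizer (P : Set G)) :
    ∀ a ∈ Q, ∀ b ∈ Q, a * b = b * a := by
  by_contra hnab
  have : Fact p.Prime := ⟨hp⟩
  have : Fact q.Prime := ⟨hq⟩
  have : Fact r.Prime := ⟨hr⟩
  set E := Subgroup.zpowers x with hE
  have hcopPQ : (Nat.card P).Coprime (Nat.card Q) :=
    IsPGroup.coprime_card_of_ne p q hpq P Q hP hQq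
  have hQsolv : Group.IsSolvable ↥Q := by
    have := hQq.isNilpotent
    infer_instance
  have hQ1 : Q ≠ ⊥ := by
    rintro rfl
    apply hnab
    intro a ha b hb
    rw [Subgroup.mem_bot] at ha hb
    rw [ha, hb]
  -- `Q'` and `Z`
  set Q' := ⁅Q, Q⁆ with hQ'
  set Z := Q ⊓ Subgroup.centralizer (Q : Set G) with hZ
  have hQ'le : Q' ≤ Q := Subgroup.le_normalizer_iff_commutator_le_left.mp Subgroup.le_normalizer
  have hQ'ne : Q' ≠ Q := commutator_self_ne_of_isSolvable Q hQsolv hQ1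
  have hPQ' : P ≤ Subgroup.normalizer (Q' : Set G) := le_normalizer_commutator hPQ hPQ
  have hxQ' : x ∈ Subgroup.normalizer (Q' : Set G) := mem_normalizer_commutator hxQ hxQ
  have hQ'P : Q' ≤ Subgroup.centralizer (P : Set G) := hmin Q' hQ'le hQ'ne hPQ' hxQ'
  have hZle : Z ≤ Q := inf_le_left
  have hZne : Z ≠ Q := by
    intro h
    apply hnab
    intro a ha b hb
    have ha' : a ∈ Z := h ▸ ha
    exact ((Subgroup.mem_centralizer_iff.mp ha'.2) b hb).symm
  have hPZ : P ≤ Subgroup.normalizer (Z : Set G) :=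
    le_normalizer_inf' hPQ (hPQ.trans (normalizer_le_normalizer_centralizer Q))
  have hxZ : x ∈ Subgroup.normalizer (Z : Set G) :=
    mem_normalizer_inf hxQ (normalizer_le_normalizer_centralizer Q hxQ)
  have hZP : Z ≤ Subgroup.centralizer (P : Set G) := hmin Z hZle hZne hPZ hxZ
  -- (a) `[Q, P] = Q`
  have hQP : ⁅Q, P⁆ = Q := by
    by_contra hne
    have hle : ⁅Q, P⁆ ≤ Q := Subgroup.le_normalizer_iff_commutator_le_left.mp hPQ
    have h1 := hmin ⁅Q, P⁆ hle hne (Subgroup.normalizer_commutator_ge_right Q P)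
      (mem_normalizer_commutator hxQ hxP)
    have h2 : ⁅⁅Q, P⁆, P⁆ = ⊥ := Subgroup.commutator_eq_bot_iff_le_centralizer.mpr h1
    rw [Cfsg.Agent.S0027.result P Q hPQ hcopPQ (Or.inr hQsolv)] at h2
    apply hPncQ
    rw [Subgroup.le_centralizer_iff]
    exact Subgroup.commutator_eq_bot_iff_le_centralizer.mp h2
  -- (a') `Q' ≤ Z`
  have hQ'Z : Q' ≤ Z := by
    have h1 : ⁅⁅P, Q'⁆, Q⁆ = ⊥ := by
      have h0 : ⁅P, Q'⁆ = ⊥ := by
        rw [Subgroup.commutator_comm]
        exact Subgroup.commutator_eq_bot_iff_le_centralizer.mpr hQ'P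
      rw [h0, Subgroup.commutator_bot_left]
    have h2 : ⁅⁅Q', Q⁆, P⁆ = ⊥ := by
      apply Subgroup.commutator_eq_bot_iff_le_centralizer.mpr
      have h0 : ⁅Q', Q⁆ ≤ Q' := Subgroup.le_normalizer_iff_commutator_le_left.mp
        (Subgroup.normalizer_commutator_ge_left Q Q)
      exact h0.trans hQ'P
    have h3 := Subgroup.commutator_commutator_eq_bot_of_rotate h1 h2
    rw [hQP] at h3
    have h4 : Q ≤ Subgroup.centralizer (Q' : Set G) :=
      Subgroup.commutator_eq_bot_iff_le_centralizer.mp h3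
    exact le_inf hQ'le (Subgroup.le_centralizer_iff.mp h4)
  have hEcard : Nat.card E = r := by rw [hE, Nat.card_zpowers, hx]
  -- (b) `x` centralizes `Z`
  have hEZ : E ≤ Subgroup.centralizer (Z : Set G) := by
    by_contra hEZ
    set A0 := ⁅Z, E⁆ with hA0
    have hEnZ : E ≤ Subgroup.normalizer (Z : Set G) := (Subgroup.zpowers_le).mpr hxZ
    have hA0Z : A0 ≤ Z := Subgroup.le_normalizer_iff_commutator_le_left.mp hEnZ
    have hA0ne : A0 ≠ ⊥ := by
      intro h
      apply hEZ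
      rw [Subgroup.le_centralizer_iff]
      exact Subgroup.commutator_eq_bot_iff_le_centralizer.mp h
    have hZab : ∀ a ∈ Z, ∀ b ∈ Z, a * b = b * a := fun a ha b hb =>
      ((Subgroup.mem_centralizer_iff.mp ha.2) b hb.1).symm
    have hZq : IsPGroup q Z := hQq.to_le hZle
    have hcopEZ : (Nat.card E).Coprime (Nat.card Z) := by
      rw [hEcard]; exact (coprime_card_prime hr hqr Z hZq).symm
    have hA0x : A0 ⊓ Subgroup.centralizer ({x} : Set G) = ⊥ := by
      rw [← Cfsg.Agent.Lib.Helper9.centralizer_zpowers_eq]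
      exact commutator_inf_centralizer_eq_bot Z E hZab hEnZ hcopEZ
    have hxA0 : x ∈ Subgroup.normalizer (A0 : Set G) :=
      Subgroup.normalizer_commutator_ge_right Z E (Subgroup.mem_zpowers x)
    have hA0Q : A0 ≤ Q := hA0Z.trans hZle
    have hA0q : IsPGroup q A0 := hQq.to_le hA0Q
    have hA0V : A0 ≤ Subgroup.normalizer (V : Set G) := hA0Q.trans hQV
    set V2 := ⁅V, A0⁆ with hV2
    have hV2V : V2 ≤ V := Subgroup.le_normalizer_iff_commutator_le_left.mp hA0V
    have hV2ne : V2 ≠ ⊥ := by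
      intro h
      apply hA0ne
      have hc : V ≤ Subgroup.centralizer (A0 : Set G) :=
        Subgroup.commutator_eq_bot_iff_le_centralizer.mp h
      rw [eq_bot_iff]
      intro g hg
      rw [Subgroup.mem_bot]
      apply hfaith g (hA0Q hg)
      intro v hv
      exact (Subgroup.mem_centralizer_iff.mp (hc hv)) g hg
    have hV2p : IsPGroup p V2 := hVp.to_le hV2V
    have hcopA0V : (Nat.card A0).Coprime (Nat.card V) :=
      IsPGroup.coprime_card_of_ne q p hpq.symm A0 V hA0q hVp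
    have hV2A0 : V2 ⊓ Subgroup.centralizer (A0 : Set G) = ⊥ :=
      commutator_inf_centralizer_eq_bot V A0 hVab hA0V hcopA0V
    have hA0nV2 : A0 ≤ Subgroup.normalizer (V2 : Set G) :=
      Subgroup.normalizer_commutator_ge_right V A0
    have hxV2 : x ∈ Subgroup.normalizer (V2 : Set G) := mem_normalizer_commutator hxV hxA0
    have hV2solv : Group.IsSolvable ↥V2 := by
      have := hV2p.isNilpotent
      infer_instance
    have hcard2 := Cfsg.Agent.Lib.Helper9.frob_card_eq hr x hx A0 V2 hA0ne hxA0 hA0x hA0nV2 hxV2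
      (IsPGroup.coprime_card_of_ne p q hpq V2 A0 hV2p hA0q) (coprime_card_prime hr hpr V2 hV2p)
      (coprime_card_prime hr hqr A0 hA0q) hV2solv hV2A0
    have hV2card : Nat.card V2 = p ^ r :=
      card_eq_prime_pow_of_frob hp V2 V x hV2V hV2ne hcard2 hCVx
    -- `V4 = C_{V2}(P)`
    have hA0CP : A0 ≤ Subgroup.centralizer (P : Set G) := hA0Z.trans hZP
    have hPA0 : P ≤ Subgroup.centralizer (A0 : Set G) := Subgroup.le_centralizer_iff.mp hA0CP
    have hPV2 : P ≤ Subgroup.normalizer (V2 : Set G) :=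
      le_normalizer_commutator hPV (hPA0.trans (Subgroup.centralizer_le_normalizer _))
    set V4 := V2 ⊓ Subgroup.centralizer (P : Set G) with hV4
    have hV4ne : V4 ≠ ⊥ := inf_centralizer_ne_bot_of_isPGroup P V2 hP hV2p hPV2 hV2ne
    have hV4V2 : V4 ≤ V2 := inf_le_left
    have hV4p : IsPGroup p V4 := hV2p.to_le hV4V2
    have hA0V4 : A0 ≤ Subgroup.normalizer (V4 : Set G) :=
      le_normalizer_inf' hA0nV2 (hA0CP.trans Subgroup.le_normalizer)
    have hxV4 : x ∈ Subgroup.normalizer (V4 : Set G) :=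
      mem_normalizer_inf hxV2 (normalizer_le_normalizer_centralizer P hxP)
    have hV4A0 : V4 ⊓ Subgroup.centralizer (A0 : Set G) = ⊥ := by
      rw [eq_bot_iff, ← hV2A0]; exact inf_le_inf_right _ hV4V2
    have hV4solv : Group.IsSolvable ↥V4 := by
      have := hV4p.isNilpotent
      infer_instance
    have hcard4 := Cfsg.Agent.Lib.Helper9.frob_card_eq hr x hx A0 V4 hA0ne hxA0 hA0x hA0V4 hxV4
      (IsPGroup.coprime_card_of_ne p q hpq V4 A0 hV4p hA0q) (coprime_card_prime hr hpr V4 hV4p)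
      (coprime_card_prime hr hqr A0 hA0q) hV4solv hV4A0
    have hV4card : Nat.card V4 = p ^ r :=
      card_eq_prime_pow_of_frob hp V4 V x (hV4V2.trans hV2V) hV4ne hcard4 hCVx
    have hV4eq : V4 = V2 := Subgroup.eq_of_le_of_card_ge hV4V2 (by rw [hV4card, hV2card])
    have hV2P : V2 ≤ Subgroup.centralizer (P : Set G) := by
      rw [← hV4eq]; exact inf_le_right
    have hQA0 : Q ≤ Subgroup.centralizer (A0 : Set G) :=
      Subgroup.le_centralizer_iff.mp (hA0Z.trans inf_le_right)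
    have hQV2 : Q ≤ Subgroup.normalizer (V2 : Set G) :=
      le_normalizer_commutator hQV (hQA0.trans (Subgroup.centralizer_le_normalizer _))
    have hQcV2 : Q ≤ Subgroup.centralizer (V2 : Set G) := by
      rw [← hQP, Subgroup.commutator_le]
      intro a ha g hg
      have hgc : g ∈ Subgroup.centralizer (V2 : Set G) := Subgroup.le_centralizer_iff.mp hV2P hg
      have hac : a * g * a⁻¹ ∈ Subgroup.centralizer (V2 : Set G) :=
        (Subgroup.le_normalizer_iff.mp (normalizer_le_normalizer_centralizer V2)) a (hQV2 ha) g hgc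
      rw [commutatorElement_def]
      exact mul_mem hac (inv_mem hgc)
    apply hV2ne
    rw [eq_bot_iff, ← hV2A0]
    exact le_inf le_rfl (Subgroup.le_centralizer_iff.mp (hA0Q.trans hQcV2))
  -- (c)
  set C := Q ⊓ Subgroup.centralizer ({x} : Set G) with hC
  have hP1 : P ≠ ⊥ := by
    rintro rfl
    exact hPncQ bot_le
  have hformula := Cfsg.Agent.Lib.Helper9.frob_formula hr x hx P Q hP1 hxP hCPx hPQ hxQ hcopPQ.symm
    (coprime_card_prime hr hqr Q hQq) (coprime_card_prime hr hpr P hP) hQsolv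
  have hCZ : ¬ C ≤ Z := by
    intro hCZ
    have hCP : C ≤ Subgroup.centralizer (P : Set G) := hCZ.trans hZP
    have heq : Q ⊓ Subgroup.centralizer ((P ⊔ Subgroup.zpowers x : Subgroup G) : Set G) = C := by
      apply le_antisymm
      · apply le_inf inf_le_left
        rw [← Cfsg.Agent.Lib.Helper9.centralizer_zpowers_eq]
        exact inf_le_right.trans (Subgroup.centralizer_le (by
          exact_mod_cast (le_sup_right : Subgroup.zpowers x ≤ P ⊔ Subgroup.zpowers x)))
      · apply le_inf inf_le_left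
        rw [Subgroup.le_centralizer_iff, sup_le_iff]
        refine ⟨Subgroup.le_centralizer_iff.mp hCP, ?_⟩
        rw [Subgroup.zpowers_le, Subgroup.mem_centralizer_iff]
        intro c hc
        exact ((Subgroup.mem_centralizer_iff.mp hc.2) x rfl).symm
    rw [heq] at hformula
    have hCpos : 0 < Nat.card C ^ r := pow_pos Nat.card_pos r
    have hcard : Nat.card Q = Nat.card ↥(Q ⊓ Subgroup.centralizer (P : Set G)) :=
      Nat.eq_of_mul_eq_mul_left hCpos hformula
    have h5 : Q ⊓ Subgroup.centralizer (P : Set G) = Q :=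
      Subgroup.eq_of_le_of_card_ge inf_le_left hcard.le
    apply hPncQ
    rw [Subgroup.le_centralizer_iff, ← h5]; exact inf_le_right
  obtain ⟨c, hcC, hcZ⟩ := SetLike.not_le_iff_exists.mp hCZ
  apply hcZ
  refine Subgroup.mem_inf.mpr ⟨hcC.1, ?_⟩
  rw [Subgroup.mem_centralizer_iff]
  intro a ha
  set T := Q ⊓ Subgroup.centralizer ({c} : Set G) with hT
  have hTQ : T ≤ Q := inf_le_left
  have hcx : ∀ e ∈ E, e * c = c * e := by
    intro e he
    have h1 : c ∈ Subgroup.centralizer ((E : Subgroup G) : Set G) := by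
      rw [hE, Cfsg.Agent.Lib.Helper9.centralizer_zpowers_eq]; exact hcC.2
    exact (Subgroup.mem_centralizer_iff.mp h1) e he
  have hEQ : E ≤ Subgroup.normalizer (Q : Set G) := (Subgroup.zpowers_le).mpr hxQ
  have hcent : ∀ z ∈ Z, ∀ b ∈ Q, z * b = b * z := fun z hz b hb =>
    ((Subgroup.mem_centralizer_iff.mp hz.2) b hb).symm
  have hQnT : Q ≤ Subgroup.normalizer (T : Set G) := by
    rw [Subgroup.le_normalizer_iff]
    intro h hh k hk
    have hkQ : k ∈ Q := hk.1
    refine Subgroup.mem_inf.mpr ⟨Q.mul_mem (Q.mul_mem hh hkQ) (Q.inv_mem hh), ?_⟩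
    rw [Subgroup.mem_centralizer_iff]
    intro c' hc'
    rw [Set.mem_singleton_iff] at hc'
    subst hc'
    have hu : ⁅h, k⁆ ∈ Z := hQ'Z (Subgroup.commutator_mem_commutator hh hkQ)
    have h1 : ⁅h, k⁆ * c' = c' * ⁅h, k⁆ := hcent _ hu c' hcC.1
    have h2 : c' * k = k * c' := (Subgroup.mem_centralizer_iff.mp hk.2) c' rfl
    have h3 : h * k * h⁻¹ = ⁅h, k⁆ * k := by rw [commutatorElement_def]; group
    rw [h3]
    calc c' * (⁅h, k⁆ * k) = (c' * ⁅h, k⁆) * k := by group
      _ = ⁅h, k⁆ * (c' * k) := by rw [← h1]; group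
      _ = ⁅h, k⁆ * k * c' := by rw [h2]; group
  have hEnT : E ≤ Subgroup.normalizer (T : Set G) := by
    apply le_normalizer_inf' hEQ
    have h1 : E ≤ Subgroup.centralizer ({c} : Set G) := by
      intro e he
      rw [Subgroup.mem_centralizer_iff]
      intro c' hc'
      rw [Set.mem_singleton_iff] at hc'
      subst hc'
      exact (hcx e he).symm
    exact h1.trans Subgroup.le_normalizer
  have hcopEQ : (Nat.card E).Coprime (Nat.card Q) := by
    rw [hEcard]; exact (coprime_card_prime hr hqr Q hQq).symm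
  have hfix : ∀ e ∈ E, e * a⁻¹ * e⁻¹ * a⁻¹⁻¹ ∈ T := by
    intro e he
    have hb : e * a * e⁻¹ ∈ Q := (Subgroup.le_normalizer_iff.mp hEQ) e he a ha
    have hu : ⁅a, c⁆ ∈ Z := hQ'Z (Subgroup.commutator_mem_commutator ha hcC.1)
    have h1 : e * c = c * e := hcx e he
    have h2 : e * ⁅a, c⁆ = ⁅a, c⁆ * e := ((Subgroup.mem_centralizer_iff.mp (hEZ he)) _ hu).symm
    have hw : e * (a * c * a⁻¹) = (a * c * a⁻¹) * e := by
      have h3 : a * c * a⁻¹ = ⁅a, c⁆ * c := by rw [commutatorElement_def]; group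
      rw [h3]
      calc e * (⁅a, c⁆ * c) = (e * ⁅a, c⁆) * c := by group
        _ = ⁅a, c⁆ * (e * c) := by rw [h2]; group
        _ = ⁅a, c⁆ * c * e := by rw [h1]; group
    have h1' : e⁻¹ * c * e = c := by rw [mul_assoc, ← h1]; group
    have key : (e * a * e⁻¹) * c * (e * a * e⁻¹)⁻¹ = a * c * a⁻¹ := by
      calc (e * a * e⁻¹) * c * (e * a * e⁻¹)⁻¹ = e * a * (e⁻¹ * c * e) * a⁻¹ * e⁻¹ := by group
        _ = e * (a * c * a⁻¹) * e⁻¹ := by rw [h1']; group
        _ = a * c * a⁻¹ := by rw [hw]; group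
    have h4 := comm_of_conj_eq key
    have h5 : e * a⁻¹ * e⁻¹ * a⁻¹⁻¹ = (e * a * e⁻¹)⁻¹ * a := by group
    rw [h5]
    refine Subgroup.mem_inf.mpr ⟨Q.mul_mem (Q.inv_mem hb) ha, ?_⟩
    rw [Subgroup.mem_centralizer_iff]
    intro c' hc'
    rw [Set.mem_singleton_iff] at hc'
    subst hc'
    exact h4
  obtain ⟨d, hd, hdT⟩ := Cfsg.Agent.S0022.result E Q hEQ hcopEQ (Or.inr hQsolv) T hTQ hQnT hEnT
    a⁻¹ (Q.inv_mem ha) hfix
  rw [inv_inv] at hdT
  have hdC : d ∈ C := by
    refine Subgroup.mem_inf.mpr ⟨hd.1, ?_⟩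
    rw [← Cfsg.Agent.Lib.Helper9.centralizer_zpowers_eq]
    exact hd.2
  have hdT' : d ∈ T := by
    refine Subgroup.mem_inf.mpr ⟨hd.1, ?_⟩
    rw [Subgroup.mem_centralizer_iff]
    intro c' hc'
    rw [Set.mem_singleton_iff] at hc'
    subst hc'
    have hcomm := (IsCyclic.commGroup (α := ↥C)).mul_comm ⟨c', hcC⟩ ⟨d, hdC⟩
    exact congrArg Subtype.val hcomm
  have haT : a ∈ T := by
    have h1 : a = (a * d) * d⁻¹ := by group
    rw [h1]
    exact T.mul_mem hdT (T.inv_mem hdT')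
  exact ((Subgroup.mem_centralizer_iff.mp haT.2) c rfl).symm

end Cfsg.Agent.Lib.Helper70
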