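import Mathlib

/-!
Counting commuting pairs in finite groups, coset by coset.
Used for class-number inequalities `k(X) ≤ k(N) k(X/N)`, `k(X) ≤ [X:Y] k(Y)`.
-/

set_option autoImplicit false

namespace Cfsg.Agent.Lib.Helper70

open scoped Classical in
/-- number of elements of the finset `S` commuting with `x` -/
noncomputable def cc {X : Type*} [Group X] (x : X) (S : Finset X) : ℕ :=
  (S.filter (fun y => Commute x y)).card

open scoped Classical in
/-- the left coset `b Y` as a finset -/
noncomputable def cosetF {X : Type*} [Group X] [Fintype X] (Y : Subgroup X) (b : X) : Finset X :=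
  Finset.univ.filter (fun y => b⁻¹ * y ∈ Y)

open scoped Classical in
/-- a subgroup as a finset -/
noncomputable def subF {X : Type*} [Group X] [Fintype X] (Y : Subgroup X) : Finset X :=
  Finset.univ.filter (fun y => y ∈ Y)

section
open scoped Classical
variable {X : Type*} [Group X] [Fintype X]

theorem mem_cosetF (Y : Subgroup X) (b y : X) : y ∈ cosetF Y b ↔ b⁻¹ * y ∈ Y := by
  classical
  simp [cosetF]

theorem mem_subF (Y : Subgroup X) (y : X) : y ∈ subF Y ↔ y ∈ Y := by
  classical
  simp [subF]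

theorem cosetF_one (Y : Subgroup X) : cosetF Y 1 = subF Y := by
  classical
  ext y; simp [mem_cosetF, mem_subF]

/-- Key lemma: the elements of a coset `bY` commuting with `x` are at most as many as the
elements of `Y` commuting with `x`. -/
theorem cc_cosetF_le (Y : Subgroup X) (x b : X) : cc x (cosetF Y b) ≤ cc x (subF Y) := by
  classical
  unfold cc
  by_cases h : ((cosetF Y b).filter (fun y => Commute x y)).Nonempty
  · obtain ⟨y0, hy0⟩ := h
    rw [Finset.mem_filter, mem_cosetF] at hy0
    apply Finset.card_le_card_of_injOn (fun y => y0⁻¹ * y)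
    · intro y hy
      have hy' := Finset.mem_coe.mp hy
      rw [Finset.mem_filter, mem_cosetF] at hy'
      apply Finset.mem_coe.mpr
      rw [Finset.mem_filter, mem_subF]
      constructor
      · have : y0⁻¹ * y = (b⁻¹ * y0)⁻¹ * (b⁻¹ * y) := by group
        show y0⁻¹ * y ∈ Y
        rw [this]
        exact Y.mul_mem (Y.inv_mem hy0.1) hy'.1
      · exact (hy0.2.inv_right).mul_right hy'.2
    · intro y _ z _ hyz
      exact mul_left_cancel hyz
  · rw [Finset.not_nonempty_iff_eq_empty] at h
    rw [h]; simp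

/-- if no element of the coset `bY` commutes with `x`, the count is zero -/
theorem cc_cosetF_eq_zero (Y : Subgroup X) (x b : X)
    (h : ∀ y, b⁻¹ * y ∈ Y → ¬ Commute x y) : cc x (cosetF Y b) = 0 := by
  classical
  unfold cc
  rw [Finset.card_eq_zero, Finset.filter_eq_empty_iff]
  intro y hy
  exact h y ((mem_cosetF Y b y).mp hy)

omit [Fintype X] in
theorem cc_pos_of_mem (S : Finset X) (x : X) (hx : x ∈ S) : 0 < cc x S := by
  classical
  unfold cc
  apply Finset.card_pos.mpr
  exact ⟨x, Finset.mem_filter.mpr ⟨hx, Commute.refl x⟩⟩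

omit [Fintype X] in
/-- double counting of commuting pairs -/
theorem sum_cc_comm (A B : Finset X) : ∑ x ∈ A, cc x B = ∑ y ∈ B, cc y A := by
  classical
  unfold cc
  simp_rw [Finset.card_filter]
  rw [Finset.sum_comm]
  refine Finset.sum_congr rfl (fun y _ => Finset.sum_congr rfl (fun x _ => ?_))
  simp [Commute.symm_iff (a := x) (b := y)]

/-- `cc x univ` decomposes over the left cosets of `Y`. -/
theorem cc_univ_eq_sum (Y : Subgroup X) (x : X) :
    cc x Finset.univ = ∑ q : X ⧸ Y, cc x (cosetF Y q.out) := by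
  classical
  unfold cc
  rw [Finset.card_eq_sum_card_fiberwise (f := fun y => (QuotientGroup.mk y : X ⧸ Y))
    (t := Finset.univ) (fun _ _ => Finset.mem_coe.mpr (Finset.mem_univ _))]
  refine Finset.sum_congr rfl (fun q _ => ?_)
  congr 1
  ext y
  simp only [Finset.mem_filter, Finset.mem_univ, true_and, mem_cosetF]
  constructor
  · rintro ⟨h1, h2⟩
    refine ⟨?_, h1⟩
    rw [← QuotientGroup.eq, QuotientGroup.out_eq', h2]
  · rintro ⟨h1, h2⟩
    refine ⟨h2, ?_⟩
    rw [← QuotientGroup.eq, QuotientGroup.out_eq'] at h1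
    exact h1.symm

/-- `c(x, X) ≤ [X:Y] c(x, Y)`. -/
theorem cc_univ_le (Y : Subgroup X) (x : X) : cc x Finset.univ ≤ Y.index * cc x (subF Y) := by
  classical
  rw [cc_univ_eq_sum Y x]
  calc ∑ q : X ⧸ Y, cc x (cosetF Y q.out) ≤ ∑ _q : X ⧸ Y, cc x (subF Y) :=
        Finset.sum_le_sum (fun q _ => cc_cosetF_le Y x q.out)
    _ = Y.index * cc x (subF Y) := by
        rw [Finset.sum_const, Finset.card_univ, smul_eq_mul, Subgroup.index,
          Nat.card_eq_fintype_card]

/-- strict version when some coset contains no element commuting with `x`. -/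
theorem cc_univ_lt (Y : Subgroup X) (x : X) (hx : x ∈ Y) (b : X)
    (h : ∀ y, b⁻¹ * y ∈ Y → ¬ Commute x y) : cc x Finset.univ < Y.index * cc x (subF Y) := by
  classical
  rw [cc_univ_eq_sum Y x]
  have hb : cc x (cosetF Y (QuotientGroup.mk b : X ⧸ Y).out) = 0 := by
    apply cc_cosetF_eq_zero
    intro y hy
    apply h y
    have h1 : ((QuotientGroup.mk b : X ⧸ Y).out)⁻¹ * b ∈ Y := by
      rw [← QuotientGroup.eq, QuotientGroup.out_eq']
    have : b⁻¹ * y = (((QuotientGroup.mk b : X ⧸ Y).out)⁻¹ * b)⁻¹ *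
        (((QuotientGroup.mk b : X ⧸ Y).out)⁻¹ * y) := by group
    rw [this]
    exact Y.mul_mem (Y.inv_mem h1) hy
  calc ∑ q : X ⧸ Y, cc x (cosetF Y q.out) < ∑ _q : X ⧸ Y, cc x (subF Y) := by
        apply Finset.sum_lt_sum (fun q _ => cc_cosetF_le Y x q.out)
        refine ⟨QuotientGroup.mk b, Finset.mem_univ _, ?_⟩
        rw [hb]
        exact cc_pos_of_mem _ x ((mem_subF Y x).mpr hx)
    _ = Y.index * cc x (subF Y) := by
        rw [Finset.sum_const, Finset.card_univ, smul_eq_mul, Subgroup.index,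
          Nat.card_eq_fintype_card]

omit [Fintype X] in
/-- the number of commuting pairs `(x, y)` with `x ∈ A`, `y ∈ B` -/
theorem card_filter_product_eq_sum_cc (A B : Finset X) :
    ((A ×ˢ B).filter (fun p : X × X => Commute p.1 p.2)).card = ∑ x ∈ A, cc x B := by
  classical
  unfold cc
  rw [Finset.card_filter, Finset.sum_product]
  refine Finset.sum_congr rfl (fun x _ => ?_)
  rw [Finset.card_filter]

/-- `k(X) |X| = Σ_x c(x, X)` -/
theorem card_conjClasses_mul_card_eq_sum :
    Nat.card (ConjClasses X) * Nat.card X = ∑ x : X, cc x Finset.univ := by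
  classical
  rw [← card_comm_eq_card_conjClasses_mul_card, ← card_filter_product_eq_sum_cc,
    Nat.card_eq_fintype_card, Fintype.card_subtype, Finset.univ_product_univ]

/-- `k(Y) |Y| = Σ_{y ∈ Y} c(y, Y)` -/
theorem card_conjClasses_subgroup_mul_card_eq_sum (Y : Subgroup X) :
    Nat.card (ConjClasses Y) * Nat.card Y = ∑ y ∈ subF Y, cc y (subF Y) := by
  classical
  rw [← card_comm_eq_card_conjClasses_mul_card, ← card_filter_product_eq_sum_cc,
    Nat.card_eq_fintype_card, Fintype.card_subtype]
  apply Finset.card_bij (fun (p : Y × Y) _ => ((p.1 : X), (p.2 : X)))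
  · intro p hp
    rw [Finset.mem_filter] at hp ⊢
    refine ⟨?_, ?_⟩
    · rw [Finset.mem_product, mem_subF, mem_subF]
      exact ⟨p.1.2, p.2.2⟩
    · have := hp.2
      show (p.1 : X) * (p.2 : X) = (p.2 : X) * (p.1 : X)
      simpa using congrArg Subtype.val this.eq
  · intro p _ q _ h
    rw [Prod.ext_iff] at h ⊢
    exact ⟨Subtype.ext h.1, Subtype.ext h.2⟩
  · rintro ⟨x, y⟩ hp
    rw [Finset.mem_filter, Finset.mem_product, mem_subF, mem_subF] at hp
    refine ⟨(⟨x, hp.1.1⟩, ⟨y, hp.1.2⟩), ?_, rfl⟩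
    rw [Finset.mem_filter]
    refine ⟨Finset.mem_univ _, ?_⟩
    exact Subtype.ext hp.2.eq

end

end Cfsg.Agent.Lib.Helper70
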