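import Mathlib

/-!
# A small piece of Hall–Higman: `A₄` acting on an elementary abelian `3`-group

Let `W` be an abelian group of exponent `3`, `ξ` an automorphism of order dividing `3`,
`β₀` an involutory automorphism with conjugates `β₁ = ξ β₀ ξ⁻¹`, `β₂ = ξ β₁ ξ⁻¹` commuting with
`β₀` and `β₀ β₁ β₂ = 1`.  If `β₀ ≠ 1` there is `w` with `w · ξ w · ξ² w ≠ 1`.
-/

set_option autoImplicit false

namespace Cfsg.Agent.Lib.Helper70

theorem exists_norm_ne_one {W : Type*} [Group W] (hcomm : ∀ a b : W, a * b = b * a)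
    (h3 : ∀ w : W, w ^ 3 = 1) (ξ β₀ β₁ β₂ : MulAut W) (hξ : ξ ^ 3 = 1) (h0 : β₀ ^ 2 = 1)
    (h1 : β₁ = ξ * β₀ * ξ⁻¹) (h2 : β₂ = ξ * β₁ * ξ⁻¹) (hc : β₀ * β₁ = β₁ * β₀)
    (hp : β₀ * β₁ * β₂ = 1) (hne : β₀ ≠ 1) : ∃ w : W, w * ξ w * ξ (ξ w) ≠ 1 := by
  -- pointwise relations
  have p0 : ∀ w, β₀ (β₀ w) = w := by
    intro w
    have := DFunLike.congr_fun h0 w
    simpa [pow_two] using this
  have e1 : β₁ * ξ = ξ * β₀ := by rw [h1]; group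
  have e2 : β₂ * ξ = ξ * β₁ := by rw [h2]; group
  have e0 : β₀ * ξ = ξ * β₂ := by
    have hξ' : ξ⁻¹ = ξ * ξ := by
      have : ξ * ξ * ξ = 1 := by rw [← hξ, pow_succ, pow_two]
      calc ξ⁻¹ = ξ⁻¹ * (ξ * ξ * ξ) := by rw [this, mul_one]
        _ = ξ * ξ := by group
    rw [h2, h1]
    calc β₀ * ξ = (ξ * ξ * ξ) * β₀ * ξ := by
          have : ξ * ξ * ξ = 1 := by rw [← hξ, pow_succ, pow_two]
          rw [this, one_mul]
      _ = ξ * (ξ * (ξ * β₀ * ξ⁻¹) * ξ⁻¹) * (ξ * ξ * ξ) := by group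
      _ = ξ * (ξ * (ξ * β₀ * ξ⁻¹) * ξ⁻¹) := by
          have : ξ * ξ * ξ = 1 := by rw [← hξ, pow_succ, pow_two]
          rw [this, mul_one]
  have q1 : ∀ w, β₁ (ξ w) = ξ (β₀ w) := fun w => DFunLike.congr_fun e1 w
  have q2 : ∀ w, β₂ (ξ w) = ξ (β₁ w) := fun w => DFunLike.congr_fun e2 w
  have q0 : ∀ w, β₀ (ξ w) = ξ (β₂ w) := fun w => DFunLike.congr_fun e0 w
  have pc : ∀ w, β₀ (β₁ w) = β₁ (β₀ w) := fun w => DFunLike.congr_fun hc w
  have p1 : ∀ w, β₁ (β₁ w) = w := by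
    have : β₁ * β₁ = 1 := by
      rw [h1]
      calc ξ * β₀ * ξ⁻¹ * (ξ * β₀ * ξ⁻¹) = ξ * (β₀ * β₀) * ξ⁻¹ := by group
        _ = 1 := by rw [← pow_two, h0]; group
    intro w
    exact DFunLike.congr_fun this w
  have p2 : ∀ w, β₂ w = β₀ (β₁ w) := by
    have h01 : (β₀ * β₁) * (β₀ * β₁) = 1 := by
      calc (β₀ * β₁) * (β₀ * β₁) = β₀ * (β₁ * β₀) * β₁ := by group
        _ = β₀ * (β₀ * β₁) * β₁ := by rw [hc]
        _ = (β₀ * β₀) * (β₁ * β₁) := by group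
        _ = 1 := by
            have : β₁ * β₁ = 1 := by ext w; simpa using p1 w
            rw [this, ← pow_two, h0, one_mul]
    have : β₂ = β₀ * β₁ := by
      calc β₂ = (β₀ * β₁) * (β₀ * β₁) * β₂ := by rw [h01, one_mul]
        _ = (β₀ * β₁) * (β₀ * β₁ * β₂) := by group
        _ = β₀ * β₁ := by rw [hp, mul_one]
    intro w
    exact DFunLike.congr_fun this w
  -- an element moved by `β₀`
  have hex : ∃ u, β₀ u ≠ u := by
    by_contra hall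
    push Not at hall
    apply hne
    ext w
    simpa using hall w
  obtain ⟨u, hu⟩ := hex
  -- square-root-free arithmetic in exponent 3
  have sq_eq_one : ∀ w : W, w * w = 1 → w = 1 := by
    intro w hw
    have := h3 w
    calc w = w ^ 3 * (w * w)⁻¹ := by group
      _ = 1 := by rw [this, hw]; group
  obtain ⟨m, hm⟩ : ∃ m, m = u * (β₀ u)⁻¹ := ⟨_, rfl⟩
  have hm1 : m ≠ 1 := by
    intro h
    apply hu
    rw [hm, mul_inv_eq_one] at h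
    exact h.symm
  have hβ0m : β₀ m = m⁻¹ := by
    rw [hm, map_mul, map_inv, p0, mul_inv_rev, inv_inv]
  -- final argument: `w` fixed by `γ`, inverted by the two others
  have final : ∀ (w : W) (γ : MulAut W), w ≠ 1 → γ w = w → γ (ξ w) = (ξ w)⁻¹ →
      γ (ξ (ξ w)) = (ξ (ξ w))⁻¹ → w * ξ w * ξ (ξ w) ≠ 1 := by
    intro w γ hw hγ hγ1 hγ2 hN
    apply hw
    apply sq_eq_one
    have h4 := congrArg γ hN
    rw [map_mul, map_mul, hγ, hγ1, hγ2, map_one] at h4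
    calc w * w = (w * ξ w * ξ (ξ w)) * (w * (ξ w)⁻¹ * (ξ (ξ w))⁻¹) := by
          rw [hcomm (w * ξ w) (ξ (ξ w))]
          rw [show ξ (ξ w) * (w * ξ w) * (w * (ξ w)⁻¹ * (ξ (ξ w))⁻¹) =
            ξ (ξ w) * (w * (ξ w * w) * (ξ w)⁻¹) * (ξ (ξ w))⁻¹ by group]
          rw [hcomm (ξ w) w]
          rw [show ξ (ξ w) * (w * (w * ξ w) * (ξ w)⁻¹) * (ξ (ξ w))⁻¹ =
            ξ (ξ w) * (w * w) * (ξ (ξ w))⁻¹ by group]
          rw [hcomm (ξ (ξ w)) (w * w)]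
          group
      _ = 1 := by rw [hN, h4, one_mul]
  by_cases hw : m * β₁ m = 1
  · -- use `w₋ = m * (β₁ m)⁻¹`
    have hβ1m : β₁ m = m⁻¹ := by
      rw [mul_eq_one_iff_eq_inv] at hw
      rw [eq_inv_iff_mul_eq_one, hcomm, ← eq_inv_iff_mul_eq_one] 
      exact hw
    -- then `w = m * m`
    obtain ⟨w, hwdef⟩ : ∃ w, w = m * m := ⟨_, rfl⟩
    have hw1 : w ≠ 1 := fun h => hm1 (sq_eq_one m (hwdef ▸ h))
    have b0 : β₀ w = w⁻¹ := by rw [hwdef, map_mul, hβ0m, mul_inv_rev]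
    have b1 : β₁ w = w⁻¹ := by rw [hwdef, map_mul, hβ1m, mul_inv_rev]
    have b2 : β₂ w = w := by rw [p2, b1, map_inv, b0, inv_inv]
    refine ⟨w, final w β₂ hw1 b2 ?_ ?_⟩
    · rw [q2, b1, map_inv]
    · rw [q2, q1, b0, map_inv, map_inv]
  · -- use `w₊ = m * β₁ m`
    obtain ⟨w, hwdef⟩ : ∃ w, w = m * β₁ m := ⟨_, rfl⟩
    have b1 : β₁ w = w := by rw [hwdef, map_mul, p1, hcomm]
    have b0 : β₀ w = w⁻¹ := by
      rw [hwdef, map_mul, pc, hβ0m, map_inv, mul_inv_rev, hcomm]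
    have b2 : β₂ w = w⁻¹ := by rw [p2, b1, b0]
    refine ⟨w, final w β₁ (hwdef ▸ hw) b1 ?_ ?_⟩
    · rw [q1, b0, map_inv]
    · rw [q1, q0, b2, map_inv, map_inv]

end Cfsg.Agent.Lib.Helper70
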