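import Mathlib
import Cfsg.Prelude.Def_Solvable

/-!
# A non-`p`-nilpotent configuration yields a "bad" section

Let `H = Q ⟨g⟩` be a finite group with `Q` a normal `p`-subgroup, `g` a `p'`-element not
centralizing `Q`, such that `g` centralizes every proper `g`-invariant subgroup of `Q` and
`g ^ q` centralizes `Q` for a prime `q ≠ p`.  Then with `C = C_Q(g)` and `N = C ⟨g ^ q⟩`,
the quotient `H ⧸ N` has trivial `O_{p'}` and no element whose order is the exponent.
-/

set_option autoImplicit false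
set_option linter.unusedSectionVars false
set_option linter.style.haveILetI false

namespace Cfsg.Agent.Lib.Helper70

open scoped Pointwise

section PNilpSection

variable {H : Type*} [Group H]

/-- Bezout on membership. -/
theorem mem_of_pow_mem_of_coprime {S : Subgroup H} {a : H} {m n : ℕ} (h : Nat.Coprime m n)
    (hm : a ^ m ∈ S) (hn : a ^ n ∈ S) : a ∈ S := by
  have hg : Nat.gcd m n = 1 := h
  have h1 : (a : H) ^ ((m : ℤ) * Nat.gcdA m n + (n : ℤ) * Nat.gcdB m n) = a := by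
    rw [← Nat.gcd_eq_gcd_ab, hg]
    simp
  rw [← h1, zpow_add, zpow_mul, zpow_mul]
  exact S.mul_mem (S.zpow_mem (by simpa using hm) _) (S.zpow_mem (by simpa using hn) _)

theorem normal_conj_iff {N : Subgroup H} (hN : N.Normal) (a x : H) :
    x ∈ N ↔ a * x * a⁻¹ ∈ N := by
  constructor
  · intro hx
    exact hN.conj_mem x hx a
  · intro hx
    have := hN.conj_mem _ hx a⁻¹
    simpa [mul_assoc] using this

/-- The fixed points of conjugation by `g` on `Q`. -/
def fixSub (Q : Subgroup H) (g : H) : Subgroup H where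
  carrier := {x | x ∈ Q ∧ g * x * g⁻¹ = x}
  one_mem' := ⟨Q.one_mem, by simp⟩
  mul_mem' := by
    rintro a b ⟨ha, ha'⟩ ⟨hb, hb'⟩
    refine ⟨Q.mul_mem ha hb, ?_⟩
    calc g * (a * b) * g⁻¹ = (g * a * g⁻¹) * (g * b * g⁻¹) := by group
      _ = a * b := by rw [ha', hb']
  inv_mem' := by
    rintro a ⟨ha, ha'⟩
    refine ⟨Q.inv_mem ha, ?_⟩
    calc g * a⁻¹ * g⁻¹ = (g * a * g⁻¹)⁻¹ := by group
      _ = a⁻¹ := by rw [ha']

theorem mem_fixSub {Q : Subgroup H} {g x : H} : x ∈ fixSub Q g ↔ x ∈ Q ∧ g * x * g⁻¹ = x :=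
  Iff.rfl

theorem fixSub_le (Q : Subgroup H) (g : H) : fixSub Q g ≤ Q := fun _ hx => hx.1

/-- The data of a minimal non-centralizing configuration. -/
structure MinData (p : ℕ) (Q : Subgroup H) (g : H) (q : ℕ) : Prop where
  normal : Q.Normal
  pgroup : IsPGroup p Q
  pprime : p.Prime
  cop : (orderOf g).Coprime p
  top : Q ⊔ Subgroup.zpowers g = ⊤
  nc : ¬ ∀ x ∈ Q, g * x * g⁻¹ = x
  min : ∀ Q' : Subgroup H, Q' < Q → (∀ x, x ∈ Q' ↔ g * x * g⁻¹ ∈ Q') →
    ∀ x ∈ Q', g * x * g⁻¹ = x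
  qprime : q.Prime
  qne : q ≠ p
  powq : ∀ x ∈ Q, g ^ q * x * (g ^ q)⁻¹ = x

variable [Finite H] {p : ℕ} {Q : Subgroup H} {g : H} {q : ℕ}

namespace MinData

theorem ne_bot (D : MinData p Q g q) : Q ≠ ⊥ := by
  intro h
  apply D.nc
  intro x hx
  rw [h, Subgroup.mem_bot] at hx
  subst hx
  simp

theorem commutator_le_fixSub (D : MinData p Q g q) : ⁅Q, Q⁆ ≤ fixSub Q g := by
  haveI := D.normal
  have hlt : ⁅Q, Q⁆ < Q := by
    haveI : Fact p.Prime := ⟨D.pprime⟩
    haveI : Group.IsNilpotent Q := D.pgroup.isNilpotent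
    haveI : Nontrivial Q := (Subgroup.nontrivial_iff_ne_bot Q).mpr D.ne_bot
    have h := Group.IsSolvable.commutator_lt_top_of_nontrivial Q
    rw [← Q.range_subtype, MonoidHom.range_eq_map, ← Subgroup.map_commutator,
      Subgroup.map_subtype_lt_map_subtype]
    exact h
  have hn : (⁅Q, Q⁆ : Subgroup H).Normal := inferInstance
  intro x hx
  exact ⟨hlt.le hx, D.min _ hlt (fun y => normal_conj_iff hn g y) x hx⟩

theorem conj_mem_fixSub (D : MinData p Q g q) {y c : H} (hy : y ∈ Q) (hc : c ∈ fixSub Q g) :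
    y * c * y⁻¹ ∈ fixSub Q g := by
  have h1 : y * c * y⁻¹ * c⁻¹ ∈ fixSub Q g :=
    D.commutator_le_fixSub (Subgroup.commutator_mem_commutator hy hc.1)
  have := (fixSub Q g).mul_mem h1 hc
  simpa using this

theorem fixSub_normal (D : MinData p Q g q) : (fixSub Q g).Normal := by
  rw [← Subgroup.normalizer_eq_top_iff, eq_top_iff, ← D.top]
  apply sup_le
  · intro y hy
    rw [Subgroup.mem_normalizer_iff]
    intro c
    constructor
    · intro hc
      exact D.conj_mem_fixSub hy hc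
    · intro hc
      have := D.conj_mem_fixSub (Q.inv_mem hy) hc
      simpa [mul_assoc] using this
  · rw [Subgroup.zpowers_le, Subgroup.mem_normalizer_iff]
    intro c
    constructor
    · intro hc
      rw [hc.2]
      exact hc
    · intro hc
      have h2 := hc.2
      have h3 : g * c * g⁻¹ = c := by
        have := congrArg (fun z => g⁻¹ * z * g) h2
        simpa [mul_assoc] using this
      refine ⟨?_, h3⟩
      rw [← h3]
      exact hc.1

/-- `g ^ q` is central. -/
theorem powq_central (D : MinData p Q g q) (h : H) : g ^ q * h = h * g ^ q := by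
  have hle : (⊤ : Subgroup H) ≤ Subgroup.centralizer {g ^ q} := by
    rw [← D.top]
    apply sup_le
    · intro x hx
      rw [Subgroup.mem_centralizer_iff]
      intro z hz
      rw [Set.mem_singleton_iff] at hz
      subst hz
      have := D.powq x hx
      rw [mul_inv_eq_iff_eq_mul] at this
      exact this
    · rw [Subgroup.zpowers_le, Subgroup.mem_centralizer_iff]
      intro z hz
      rw [Set.mem_singleton_iff] at hz
      subst hz
      rw [← pow_succ, ← pow_succ']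
  have := hle (Subgroup.mem_top h)
  rw [Subgroup.mem_centralizer_iff] at this
  exact this _ rfl

theorem zpowers_powq_central (D : MinData p Q g q) {z : H} (hz : z ∈ Subgroup.zpowers (g ^ q))
    (h : H) : z * h = h * z := by
  obtain ⟨k, rfl⟩ := Subgroup.mem_zpowers_iff.mp hz
  have hc : Commute (g ^ q) h := D.powq_central h
  exact (hc.zpow_left k)

theorem zpowers_powq_normal (D : MinData p Q g q) : (Subgroup.zpowers (g ^ q)).Normal := by
  constructor
  intro n hn h
  have := D.zpowers_powq_central hn h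
  have h2 : h * n * h⁻¹ = n := by
    rw [← this]; group
  rw [h2]; exact hn

theorem inf_zpowers_eq_bot (D : MinData p Q g q) : Q ⊓ Subgroup.zpowers g = ⊥ := by
  apply Disjoint.eq_bot
  apply Subgroup.disjoint_of_coprime_natCard
  haveI : Fact p.Prime := ⟨D.pprime⟩
  obtain ⟨n, hn⟩ := D.pgroup.exists_card_eq
  rw [hn, Nat.card_zpowers]
  exact Nat.Coprime.pow_left n D.cop.symm

theorem zpowers_powq_le (g : H) (q : ℕ) : Subgroup.zpowers (g ^ q) ≤ Subgroup.zpowers g := by
  rw [Subgroup.zpowers_le]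
  exact Subgroup.pow_mem _ (Subgroup.mem_zpowers g) q

/-- The normal subgroup defining the bad section. -/
def badN (Q : Subgroup H) (g : H) (q : ℕ) : Subgroup H := fixSub Q g ⊔ Subgroup.zpowers (g ^ q)

theorem badN_normal (D : MinData p Q g q) : (badN Q g q).Normal := by
  haveI := D.fixSub_normal
  haveI := D.zpowers_powq_normal
  unfold badN
  infer_instance

theorem mem_badN (D : MinData p Q g q) {y : H} :
    y ∈ badN Q g q ↔ ∃ c ∈ fixSub Q g, ∃ z ∈ Subgroup.zpowers (g ^ q), c * z = y := by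
  haveI := D.fixSub_normal
  unfold badN
  rw [← SetLike.mem_coe, Subgroup.normal_mul, Set.mem_mul]
  simp only [SetLike.mem_coe]

theorem mem_fixSub_of_mem_badN (D : MinData p Q g q) {y : H} (hy : y ∈ Q) (hyN : y ∈ badN Q g q) :
    y ∈ fixSub Q g := by
  obtain ⟨c, hc, z, hz, rfl⟩ := D.mem_badN.mp hyN
  have hzQ : z ∈ Q := by
    have : z = c⁻¹ * (c * z) := by group
    rw [this]
    exact Q.mul_mem (Q.inv_mem hc.1) hy
  have : z ∈ Q ⊓ Subgroup.zpowers g := ⟨hzQ, zpowers_powq_le g q hz⟩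
  rw [D.inf_zpowers_eq_bot, Subgroup.mem_bot] at this
  subst this
  simpa using hc

theorem not_mem_badN (D : MinData p Q g q) : g ∉ badN Q g q := by
  intro hg
  obtain ⟨c, hc, z, hz, hcz⟩ := D.mem_badN.mp hg
  have hcg : c ∈ Subgroup.zpowers g := by
    have : c = g * z⁻¹ := by rw [← hcz]; group
    rw [this]
    exact Subgroup.mul_mem _ (Subgroup.mem_zpowers g)
      (Subgroup.inv_mem _ (zpowers_powq_le g q hz))
  have : c ∈ Q ⊓ Subgroup.zpowers g := ⟨hc.1, hcg⟩
  rw [D.inf_zpowers_eq_bot, Subgroup.mem_bot] at this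
  subst this
  rw [one_mul] at hcz
  subst hcz
  apply D.nc
  intro x hx
  rw [D.zpowers_powq_central hz x]
  group


theorem commute_of_mem_fixSub (D : MinData p Q g q) {c : H} (hc : c ∈ fixSub Q g) :
    Commute g c := by
  have := hc.2
  rw [mul_inv_eq_iff_eq_mul] at this
  exact this

theorem eq_one_of_mem_of_pow (D : MinData p Q g q) {c : H} (hc : c ∈ Q)
    (h : c ^ orderOf g = 1) : c = 1 := by
  obtain ⟨k, hk⟩ := D.pgroup ⟨c, hc⟩
  have hk' : c ^ p ^ k = 1 := by
    have := congrArg Subtype.val hk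
    simpa using this
  have hcop : Nat.Coprime (p ^ k) (orderOf g) := Nat.Coprime.pow_left k D.cop.symm
  have : c ∈ (⊥ : Subgroup H) :=
    mem_of_pow_mem_of_coprime hcop (by rw [hk']; exact Subgroup.one_mem _)
      (by rw [h]; exact Subgroup.one_mem _)
  simpa using this

/-- Coprime action: if `[Q, t] ≤ C_Q(g)` for `t` a power of `g`, then `t` centralizes `Q`. -/
theorem centralizes_of_comm_mem (D : MinData p Q g q) (i : ℕ)
    (h : ∀ x ∈ Q, g ^ i * x * (g ^ i)⁻¹ * x⁻¹ ∈ fixSub Q g) :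
    ∀ x ∈ Q, g ^ i * x * (g ^ i)⁻¹ = x := by
  intro x hx
  set t := g ^ i with ht
  set c := x⁻¹ * (t * x * t⁻¹) with hc
  have hcC : c ∈ fixSub Q g := by
    have := D.fixSub_normal.conj_mem _ (h x hx) x⁻¹
    have e : x⁻¹ * (t * x * t⁻¹ * x⁻¹) * x⁻¹⁻¹ = c := by rw [hc]; group
    rw [e] at this
    exact this
  have hcomm : Commute t c := (D.commute_of_mem_fixSub hcC).pow_left i
  have htx : t * x * t⁻¹ = x * c := by rw [hc]; group
  have key : ∀ n : ℕ, t ^ n * x * (t ^ n)⁻¹ = x * c ^ n := by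
    intro n
    induction n with
    | zero => simp
    | succ n ih =>
      have hcn : t * c ^ n * t⁻¹ = c ^ n := by
        have := (hcomm.pow_right n).eq
        rw [this]; group
      calc t ^ (n + 1) * x * (t ^ (n + 1))⁻¹
          = t * (t ^ n * x * (t ^ n)⁻¹) * t⁻¹ := by rw [pow_succ']; group
        _ = t * (x * c ^ n) * t⁻¹ := by rw [ih]
        _ = (t * x * t⁻¹) * (t * c ^ n * t⁻¹) := by group
        _ = x * c * c ^ n := by rw [htx, hcn]
        _ = x * c ^ (n + 1) := by rw [pow_succ', mul_assoc]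
  have h1 := key (orderOf g)
  have h2 : t ^ orderOf g = 1 := by
    rw [ht, ← pow_mul, mul_comm, pow_mul, pow_orderOf_eq_one, one_pow]
  rw [h2] at h1
  have h3 : c ^ orderOf g = 1 := by
    have : x * 1 = x * c ^ orderOf g := by simpa using h1
    exact (mul_left_cancel this).symm
  have h4 : c = 1 := D.eq_one_of_mem_of_pow hcC.1 h3
  rw [htx, h4, mul_one]

theorem dvd_of_centralizes (D : MinData p Q g q) (i : ℕ)
    (h : ∀ x ∈ Q, g ^ i * x * (g ^ i)⁻¹ = x) : q ∣ i := by
  by_contra hqi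
  have hcop : Nat.Coprime i q := ((Nat.Prime.coprime_iff_not_dvd D.qprime).mpr hqi).symm
  have h1 : g ^ i ∈ Subgroup.centralizer (Q : Set H) := by
    rw [Subgroup.mem_centralizer_iff]
    intro x hx
    have := h x hx
    rw [mul_inv_eq_iff_eq_mul] at this
    exact this.symm
  have h2 : g ^ q ∈ Subgroup.centralizer (Q : Set H) := by
    rw [Subgroup.mem_centralizer_iff]
    intro x hx
    exact (D.powq_central x).symm
  have h3 := mem_of_pow_mem_of_coprime hcop h1 h2
  rw [Subgroup.mem_centralizer_iff] at h3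
  apply D.nc
  intro x hx
  rw [← h3 x hx]
  group

/-- The subgroup of `Q` of elements whose commutator with `t` lies in `C_Q(g)`. -/
def commSub (D : MinData p Q g q) (t : H) : Subgroup H where
  carrier := {y | y ∈ Q ∧ t * y * t⁻¹ * y⁻¹ ∈ fixSub Q g}
  one_mem' := ⟨Q.one_mem, by simp⟩
  mul_mem' := by
    rintro a b ⟨ha, ha'⟩ ⟨hb, hb'⟩
    refine ⟨Q.mul_mem ha hb, ?_⟩
    have h1 := D.fixSub_normal.conj_mem _ hb' a
    have := (fixSub Q g).mul_mem ha' h1
    have e : t * a * t⁻¹ * a⁻¹ * (a * (t * b * t⁻¹ * b⁻¹) * a⁻¹) = t * (a * b) * t⁻¹ * (a * b)⁻¹ := by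
      group
    rw [e] at this
    exact this
  inv_mem' := by
    rintro a ⟨ha, ha'⟩
    refine ⟨Q.inv_mem ha, ?_⟩
    have h1 := D.fixSub_normal.conj_mem _ ((fixSub Q g).inv_mem ha') a⁻¹
    have e : a⁻¹ * (t * a * t⁻¹ * a⁻¹)⁻¹ * a⁻¹⁻¹ = t * a⁻¹ * t⁻¹ * a⁻¹⁻¹ := by group
    rw [e] at h1
    exact h1

theorem conj_mem_commSub (D : MinData p Q g q) {t a y : H} (hat : Commute a t)
    (hy : y ∈ D.commSub t) : a * y * a⁻¹ ∈ D.commSub t := by
  haveI := D.normal
  refine ⟨D.normal.conj_mem _ hy.1 a, ?_⟩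
  have h1 := D.fixSub_normal.conj_mem _ hy.2 a
  have e : a * (t * y * t⁻¹ * y⁻¹) * a⁻¹ = t * (a * y * a⁻¹) * t⁻¹ * (a * y * a⁻¹)⁻¹ := by
    have h2 : a * t = t * a := hat.eq
    have h3 : a * t⁻¹ = t⁻¹ * a := (hat.inv_right).eq
    calc a * (t * y * t⁻¹ * y⁻¹) * a⁻¹ = (a * t) * y * t⁻¹ * y⁻¹ * a⁻¹ := by group
      _ = t * a * y * t⁻¹ * y⁻¹ * a⁻¹ := by rw [h2]
      _ = t * a * y * (a⁻¹ * (a * t⁻¹)) * y⁻¹ * a⁻¹ := by group
      _ = t * a * y * (a⁻¹ * (t⁻¹ * a)) * y⁻¹ * a⁻¹ := by rw [h3]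
      _ = t * (a * y * a⁻¹) * t⁻¹ * (a * y * a⁻¹)⁻¹ := by group
  rw [e] at h1
  exact h1

/-- `C_{Q/C}(t) = 1` for `t = g ^ i`, `q ∤ i`. -/
theorem mem_fixSub_of_comm_mem (D : MinData p Q g q) (i : ℕ) (hqi : ¬ q ∣ i) {y : H} (hy : y ∈ Q)
    (h : g ^ i * y * (g ^ i)⁻¹ * y⁻¹ ∈ fixSub Q g) : y ∈ fixSub Q g := by
  have hle : D.commSub (g ^ i) ≤ Q := fun _ hx => hx.1
  have hyD : y ∈ D.commSub (g ^ i) := ⟨hy, h⟩
  rcases lt_or_eq_of_le hle with hlt | heq
  · have hcomm : Commute g (g ^ i) := (Commute.refl g).pow_right i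
    have hinv : ∀ x, x ∈ D.commSub (g ^ i) ↔ g * x * g⁻¹ ∈ D.commSub (g ^ i) := by
      intro x
      constructor
      · intro hx
        exact D.conj_mem_commSub hcomm hx
      · intro hx
        have := D.conj_mem_commSub (hcomm.inv_left) hx
        simpa [mul_assoc] using this
    exact ⟨hy, D.min _ hlt hinv y hyD⟩
  · exfalso
    apply hqi
    apply D.dvd_of_centralizes i
    apply D.centralizes_of_comm_mem i
    intro x hx
    have : x ∈ D.commSub (g ^ i) := by rw [heq]; exact hx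
    exact this.2


theorem fixSub_le_badN (Q : Subgroup H) (g : H) (q : ℕ) : fixSub Q g ≤ badN Q g q := le_sup_left

theorem zpowers_le_badN (Q : Subgroup H) (g : H) (q : ℕ) :
    Subgroup.zpowers (g ^ q) ≤ badN Q g q := le_sup_right

/-- The norm argument: `(x t) ^ q ∈ N` for `t = g ^ i`, `q ∤ i`. -/
theorem pow_q_mem_badN (D : MinData p Q g q) (i : ℕ) (hqi : ¬ q ∣ i) {x : H} (hx : x ∈ Q) :
    (x * g ^ i) ^ q ∈ badN Q g q := by
  haveI := D.normal
  set t := g ^ i with ht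
  set u := x * t with hu
  have hQk : ∀ k : ℕ, u ^ k * (t ^ k)⁻¹ ∈ Q := by
    intro k
    induction k with
    | zero => simp
    | succ k ih =>
      have h1 : t ^ k * x * (t ^ k)⁻¹ ∈ Q := D.normal.conj_mem x hx _
      have := Q.mul_mem ih h1
      have e : u ^ k * (t ^ k)⁻¹ * (t ^ k * x * (t ^ k)⁻¹) = u ^ (k + 1) * (t ^ (k + 1))⁻¹ := by
        rw [pow_succ u, pow_succ t, hu]; group
      rw [e] at this
      exact this
  set n := u ^ q * (t ^ q)⁻¹ with hn
  have hnQ : n ∈ Q := hQk q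
  have htq : t ^ q = (g ^ q) ^ i := by rw [ht, ← pow_mul, mul_comm, pow_mul]
  have htqz : t ^ q ∈ Subgroup.zpowers (g ^ q) := by
    rw [htq]; exact Subgroup.pow_mem _ (Subgroup.mem_zpowers _) i
  have hcen : ∀ h : H, t ^ q * h = h * t ^ q := fun h => D.zpowers_powq_central htqz h
  have hun : Commute u n := by
    have h1 : Commute u (u ^ q) := (Commute.refl u).pow_right q
    have h2 : Commute u (t ^ q) := (hcen u).symm
    exact h1.mul_right h2.inv_right
  have hcomm : t * n * t⁻¹ * n⁻¹ = x⁻¹ * n * x⁻¹⁻¹ * n⁻¹ := by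
    have h1 : u * n * u⁻¹ = n := by rw [hun.eq]; group
    have h2 : t * n * t⁻¹ = x⁻¹ * n * x := by
      have : x * t * n * (x * t)⁻¹ = n := h1
      calc t * n * t⁻¹ = x⁻¹ * (x * t * n * (x * t)⁻¹) * x := by group
        _ = x⁻¹ * n * x := by rw [this]
    rw [h2, inv_inv]
  have hnC : n ∈ fixSub Q g := by
    apply D.mem_fixSub_of_comm_mem i hqi hnQ
    rw [← ht, hcomm]
    exact D.commutator_le_fixSub (Subgroup.commutator_mem_commutator (Q.inv_mem hx) hnQ)
  have : u ^ q = n * t ^ q := by rw [hn]; group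
  rw [this]
  exact Subgroup.mul_mem _ (fixSub_le_badN Q g q hnC) (zpowers_le_badN Q g q htqz)

theorem exists_decomp (D : MinData p Q g q) (h : H) : ∃ x ∈ Q, ∃ i : ℕ, h = x * g ^ i := by
  haveI := D.normal
  have hh : h ∈ Q ⊔ Subgroup.zpowers g := by rw [D.top]; exact Subgroup.mem_top h
  rw [← SetLike.mem_coe, Subgroup.normal_mul, Set.mem_mul] at hh
  obtain ⟨x, hx, z, hz, rfl⟩ := hh
  rw [SetLike.mem_coe, ← (isOfFinOrder_of_finite g).mem_powers_iff_mem_zpowers,
    Submonoid.mem_powers_iff] at hz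
  obtain ⟨i, rfl⟩ := hz
  exact ⟨x, hx, i, rfl⟩

theorem pow_card_eq_one_of_mem (Q : Subgroup H) {x : H} (hx : x ∈ Q) : x ^ Nat.card Q = 1 := by
  have h1 : (⟨x, hx⟩ : Q) ^ Nat.card Q = 1 := pow_card_eq_one'
  have h2 := congrArg Subtype.val h1
  rw [Subgroup.coe_pow, Subgroup.coe_one] at h2
  exact h2

theorem pow_mem_badN (D : MinData p Q g q) (h : H) :
    h ^ q ∈ badN Q g q ∨ h ^ Nat.card Q ∈ badN Q g q := by
  obtain ⟨x, hx, i, rfl⟩ := D.exists_decomp h
  by_cases hqi : q ∣ i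
  · right
    obtain ⟨j, rfl⟩ := hqi
    have hz : g ^ (q * j) ∈ Subgroup.zpowers (g ^ q) := by
      rw [pow_mul]; exact Subgroup.pow_mem _ (Subgroup.mem_zpowers _) j
    have hc : Commute x (g ^ (q * j)) := (D.zpowers_powq_central hz x).symm
    rw [hc.mul_pow, pow_card_eq_one_of_mem Q hx, one_mul]
    exact zpowers_le_badN Q g q (Subgroup.pow_mem _ hz _)
  · left
    exact D.pow_q_mem_badN i hqi hx

theorem coprime_card_q (D : MinData p Q g q) : Nat.Coprime (Nat.card Q) q := by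
  haveI : Fact p.Prime := ⟨D.pprime⟩
  obtain ⟨n, hn⟩ := D.pgroup.exists_card_eq
  rw [hn]
  exact Nat.Coprime.pow_left n ((Nat.coprime_primes D.pprime D.qprime).mpr D.qne.symm)

theorem pow_card_not_mem_badN (D : MinData p Q g q) : g ^ Nat.card Q ∉ badN Q g q := by
  intro h
  have hq : g ^ q ∈ badN Q g q := zpowers_le_badN Q g q (Subgroup.mem_zpowers _)
  exact D.not_mem_badN (mem_of_pow_mem_of_coprime D.coprime_card_q h hq)

theorem exists_pow_q_not_mem_badN (D : MinData p Q g q) : ∃ y ∈ Q, y ^ q ∉ badN Q g q := by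
  have hnc := D.nc
  push Not at hnc
  obtain ⟨y, hy, hne⟩ := hnc
  refine ⟨y, hy, ?_⟩
  intro h
  have h1 : y ^ q ∈ fixSub Q g := D.mem_fixSub_of_mem_badN (Q.pow_mem hy q) h
  have h2 : y ^ Nat.card Q ∈ fixSub Q g := by
    rw [pow_card_eq_one_of_mem Q hy]; exact Subgroup.one_mem _
  have := mem_of_pow_mem_of_coprime D.coprime_card_q h2 h1
  exact hne this.2

/-- No element of the bad section has order equal to the exponent. -/
theorem no_exponent_element (D : MinData p Q g q) :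
    haveI := D.badN_normal
    ¬ ∃ k : H ⧸ badN Q g q, orderOf k = Monoid.exponent (H ⧸ badN Q g q) := by
  haveI := D.badN_normal
  rintro ⟨k, hk⟩
  obtain ⟨h, rfl⟩ := QuotientGroup.mk_surjective k
  rcases D.pow_mem_badN h with hh | hh
  · have h1 : ((h : H ⧸ badN Q g q)) ^ q = 1 := by
      rw [← QuotientGroup.mk_pow, QuotientGroup.eq_one_iff]; exact hh
    have h2 : Monoid.exponent (H ⧸ badN Q g q) ∣ q := by
      rw [← hk]; exact orderOf_dvd_of_pow_eq_one h1
    obtain ⟨y, hy, hyN⟩ := D.exists_pow_q_not_mem_badN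
    apply hyN
    have := Monoid.exponent_dvd_iff_forall_pow_eq_one.mp h2 (y : H ⧸ badN Q g q)
    rw [← QuotientGroup.mk_pow, QuotientGroup.eq_one_iff] at this
    exact this
  · have h1 : ((h : H ⧸ badN Q g q)) ^ Nat.card Q = 1 := by
      rw [← QuotientGroup.mk_pow, QuotientGroup.eq_one_iff]; exact hh
    have h2 : Monoid.exponent (H ⧸ badN Q g q) ∣ Nat.card Q := by
      rw [← hk]; exact orderOf_dvd_of_pow_eq_one h1
    apply D.pow_card_not_mem_badN
    have := Monoid.exponent_dvd_iff_forall_pow_eq_one.mp h2 (g : H ⧸ badN Q g q)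
    rw [← QuotientGroup.mk_pow, QuotientGroup.eq_one_iff] at this
    exact this


/-- The bad section has trivial `O_{p'}`. -/
theorem pPrimeCore_eq_bot (D : MinData p Q g q) :
    haveI := D.badN_normal
    Cfsg.pPrimeCore p (H ⧸ badN Q g q) = ⊥ := by
  haveI := D.badN_normal
  haveI := D.normal
  unfold Cfsg.pPrimeCore
  rw [sSup_eq_bot]
  rintro L ⟨hLn, hLc⟩
  rw [Subgroup.eq_bot_iff_forall]
  have hcopLQ : Nat.Coprime (Nat.card L) (Nat.card Q) := by
    haveI : Fact p.Prime := ⟨D.pprime⟩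
    obtain ⟨n, hn⟩ := D.pgroup.exists_card_eq
    rw [hn]; exact Nat.Coprime.pow_right n hLc
  have hE : ∀ w ∈ Q, (w : H ⧸ badN Q g q) ∈ L → w ∈ fixSub Q g := by
    intro w hw hwL
    have h1 : (w : H ⧸ badN Q g q) ^ Nat.card L = 1 := pow_card_eq_one_of_mem L hwL
    rw [← QuotientGroup.mk_pow, QuotientGroup.eq_one_iff] at h1
    have h2 : w ^ Nat.card L ∈ fixSub Q g := D.mem_fixSub_of_mem_badN (Q.pow_mem hw _) h1
    have h3 : w ^ Nat.card Q ∈ fixSub Q g := by
      rw [pow_card_eq_one_of_mem Q hw]; exact Subgroup.one_mem _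
    exact mem_of_pow_mem_of_coprime hcopLQ h2 h3
  intro k hk
  obtain ⟨h, rfl⟩ := QuotientGroup.mk_surjective k
  obtain ⟨x, hx, i, rfl⟩ := D.exists_decomp h
  set t := g ^ i with ht
  have hcomm : ∀ y ∈ Q, (x * t) * y * (x * t)⁻¹ * y⁻¹ ∈ fixSub Q g := by
    intro y hy
    apply hE
    · exact Q.mul_mem (D.normal.conj_mem y hy _) (Q.inv_mem hy)
    · have h1 : (((x * t) * y * (x * t)⁻¹ * y⁻¹ : H) : H ⧸ badN Q g q)
          = ((x * t : H) : H ⧸ badN Q g q) * ((y : H ⧸ badN Q g q) *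
            ((x * t : H) : H ⧸ badN Q g q)⁻¹ * (y : H ⧸ badN Q g q)⁻¹) := by
        simp [mul_assoc]
      rw [h1]
      exact L.mul_mem hk (hLn.conj_mem _ (L.inv_mem hk) _)
  have hcomm' : ∀ y ∈ Q, t * y * t⁻¹ * y⁻¹ ∈ fixSub Q g := by
    intro y hy
    have hy' : t * y * t⁻¹ ∈ Q := D.normal.conj_mem y hy t
    have h1 : x * (t * y * t⁻¹) * x⁻¹ * (t * y * t⁻¹)⁻¹ ∈ fixSub Q g :=
      D.commutator_le_fixSub (Subgroup.commutator_mem_commutator hx hy')
    have h2 := (fixSub Q g).mul_mem ((fixSub Q g).inv_mem h1) (hcomm y hy)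
    have e : (x * (t * y * t⁻¹) * x⁻¹ * (t * y * t⁻¹)⁻¹)⁻¹ *
        ((x * t) * y * (x * t)⁻¹ * y⁻¹) = t * y * t⁻¹ * y⁻¹ := by group
    rw [e] at h2
    exact h2
  have hcent := D.centralizes_of_comm_mem i hcomm'
  obtain ⟨j, hj⟩ := D.dvd_of_centralizes i hcent
  have htN : t ∈ badN Q g q := by
    rw [ht, hj, pow_mul]
    exact zpowers_le_badN Q g q (Subgroup.pow_mem _ (Subgroup.mem_zpowers _) j)
  have hkx : ((x * t : H) : H ⧸ badN Q g q) = (x : H ⧸ badN Q g q) := by
    rw [QuotientGroup.mk_mul, (QuotientGroup.eq_one_iff t).mpr htN, mul_one]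
  rw [hkx] at hk ⊢
  rw [QuotientGroup.eq_one_iff]
  exact fixSub_le_badN Q g q (hE x hx hk)

/-- A minimal configuration yields a section with trivial `O_{p'}` and no element whose order
is the exponent. -/
theorem exists_bad_section (D : MinData p Q g q) :
    ∃ (N : Subgroup H) (_ : N.Normal), Cfsg.pPrimeCore p (H ⧸ N) = ⊥ ∧
      ¬ ∃ k : H ⧸ N, orderOf k = Monoid.exponent (H ⧸ N) :=
  ⟨badN Q g q, D.badN_normal, D.pPrimeCore_eq_bot, D.no_exponent_element⟩

end MinData

end PNilpSection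

end Cfsg.Agent.Lib.Helper70
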