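import Mathlib
import Cfsg.Prelude.Def_Local
import Cfsg.Agent.Lib.Helper55.Cores
import Cfsg.Agent.Lib.Helper25.PLength
import Cfsg.Agent.Lib.Helper70.FrattiniFaithful
import Cfsg.Agent.Lib.Helper70.PNilpSection
import Cfsg.Agent.Lib.Helper70.Exp6LA

/-!
# Groups of exponent dividing `6` have `2`-length and `3`-length at most one
-/

set_option autoImplicit false
set_option linter.unusedSectionVars false
set_option linter.style.haveILetI false

namespace Cfsg.Agent.Lib.Helper70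

open Cfsg
open Cfsg.Agent.Lib.Helper55
open scoped commutatorElement

section Reduction

variable {G : Type*} [Group G] [Finite G]

/-- If `G / U₁` has a normal Sylow `p`-subgroup then `G` has `p`-length at most one. -/
theorem pLengthLE_one_of_normal_sylow (p : ℕ) [Fact p.Prime]
    (h : ∃ S : Sylow p (G ⧸ (upperPSeries p G 1).1),
      (S : Subgroup (G ⧸ (upperPSeries p G 1).1)).Normal) :
    PLengthLE p 1 G := by
  obtain ⟨S, hS⟩ := h
  unfold PLengthLE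
  have e2 : (upperPSeries p G 2).1 =
      (pCore p (G ⧸ (upperPSeries p G 1).1)).comap (QuotientGroup.mk' _) :=
    Cfsg.Agent.Lib.Helper25.upperPSeries_odd_succ' p 0
  have e3 : (upperPSeries p G 3).1 =
      (pPrimeCore p (G ⧸ (upperPSeries p G 2).1)).comap (QuotientGroup.mk' _) :=
    Cfsg.Agent.Lib.Helper25.upperPSeries_even_succ' p 1
  have hidx : ¬ p ∣ (upperPSeries p G 2).1.index := by
    rw [e2, Subgroup.index_comap_of_surjective _ (QuotientGroup.mk'_surjective _)]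
    have hle : (S : Subgroup (G ⧸ (upperPSeries p G 1).1)) ≤
        pCore p (G ⧸ (upperPSeries p G 1).1) := le_pCore hS S.2
    intro hd
    exact S.not_dvd_index (hd.trans (Subgroup.index_dvd_of_le hle))
  have htop : pPrimeCore p (G ⧸ (upperPSeries p G 2).1) = ⊤ := by
    rw [eq_top_iff]
    apply le_pPrimeCore inferInstance
    rw [Subgroup.card_top, ← Subgroup.index_eq_card]
    exact ((Nat.Prime.coprime_iff_not_dvd Fact.out).mpr hidx).symm
  show (upperPSeries p G 3).1 = ⊤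
  rw [e3, htop, Subgroup.comap_top]

/-- `O_{p'}` of the quotient by the preimage of `O_{p'}(G/N)` is trivial, when `N` is a `p'`-group. -/
theorem pPrimeCore_quot_eq_bot (p : ℕ) [Fact p.Prime] (N : Subgroup G) [N.Normal]
    (hN : (Nat.card N).Coprime p) (U : Subgroup G) [U.Normal]
    (hU : U = (pPrimeCore p (G ⧸ N)).comap (QuotientGroup.mk' N)) :
    pPrimeCore p (G ⧸ U) = ⊥ := by
  have hUcard : (Nat.card U).Coprime p := by
    have : Nat.card U = Nat.card N * Nat.card (pPrimeCore p (G ⧸ N)) := by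
      rw [hU]
      exact QuotientGroup.card_preimage_mk N ((pPrimeCore p (G ⧸ N)) : Set (G ⧸ N))
    rw [this]
    exact Nat.Coprime.mul_left hN (card_pPrimeCore_coprime p)
  refine sSup_eq_bot.mpr ?_
  rintro M ⟨hMn, hMc⟩
  set L := M.comap (QuotientGroup.mk' U) with hL
  have hLn : L.Normal := hMn.comap _
  have hLcard : (Nat.card L).Coprime p := by
    have : Nat.card L = Nat.card U * Nat.card M :=
      QuotientGroup.card_preimage_mk U (M : Set (G ⧸ U))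
    rw [this]
    exact Nat.Coprime.mul_left hUcard hMc
  have hLU : L ≤ U := by
    rw [hU]
    intro x hx
    rw [Subgroup.mem_comap]
    have hmapn : (L.map (QuotientGroup.mk' N)).Normal :=
      Subgroup.Normal.map hLn _ (QuotientGroup.mk'_surjective N)
    have hmapc : (Nat.card (L.map (QuotientGroup.mk' N))).Coprime p :=
      Nat.Coprime.coprime_dvd_left (Subgroup.card_map_dvd _ _) hLcard
    exact le_pPrimeCore hmapn hmapc (Subgroup.mem_map_of_mem _ hx)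
  rw [eq_bot_iff]
  intro m hm
  obtain ⟨g, rfl⟩ := QuotientGroup.mk'_surjective U m
  have hg : g ∈ U := hLU hm
  rw [Subgroup.mem_bot]
  exact (QuotientGroup.eq_one_iff g).mpr hg

/-- The first term of the upper `p`-series: the quotient has trivial `O_{p'}`. -/
theorem pPrimeCore_quot_upperPSeries_one (p : ℕ) [Fact p.Prime] :
    pPrimeCore p (G ⧸ (upperPSeries p G 1).1) = ⊥ := by
  have e1 : (upperPSeries p G 1).1 =
      (pPrimeCore p (G ⧸ (upperPSeries p G 0).1)).comap (QuotientGroup.mk' _) :=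
    Cfsg.Agent.Lib.Helper25.upperPSeries_even_succ' p 0
  apply pPrimeCore_quot_eq_bot p (upperPSeries p G 0).1 _ _ e1
  rw [Cfsg.Agent.Lib.Helper25.upperPSeries_zero p, Subgroup.card_bot]
  exact Nat.coprime_one_left p

end Reduction

section Exp6

variable {Γ : Type*} [Group Γ]

theorem sq_eq_one_of_two_pow {x : Γ} {k : ℕ} (h2 : x ^ 2 ^ k = 1) (h6 : x ^ 6 = 1) : x ^ 2 = 1 := by
  have h : x ^ 2 ∈ (⊥ : Subgroup Γ) := by
    apply mem_of_pow_mem_of_coprime (m := 3) (n := 2 ^ k)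
    · exact Nat.Coprime.pow_right k (by decide)
    · rw [← pow_mul, h6]; exact Subgroup.one_mem _
    · rw [← pow_mul, mul_comm, pow_mul, h2, one_pow]; exact Subgroup.one_mem _
  simpa using h

theorem cube_eq_one_of_three_pow {x : Γ} {k : ℕ} (h3 : x ^ 3 ^ k = 1) (h6 : x ^ 6 = 1) :
    x ^ 3 = 1 := by
  have h : x ^ 3 ∈ (⊥ : Subgroup Γ) := by
    apply mem_of_pow_mem_of_coprime (m := 2) (n := 3 ^ k)
    · exact Nat.Coprime.pow_right k (by decide)
    · rw [← pow_mul, h6]; exact Subgroup.one_mem _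
    · rw [← pow_mul, mul_comm, pow_mul, h3, one_pow]; exact Subgroup.one_mem _
  simpa using h

theorem comm_of_sq_eq_one {x y : Γ} (hx : x ^ 2 = 1) (hy : y ^ 2 = 1) (hxy : (x * y) ^ 2 = 1) :
    x * y = y * x := by
  have hx' : x⁻¹ = x := by
    rw [inv_eq_iff_mul_eq_one, ← pow_two]; exact hx
  have hy' : y⁻¹ = y := by
    rw [inv_eq_iff_mul_eq_one, ← pow_two]; exact hy
  have h1 : (x * y)⁻¹ = x * y := by
    rw [inv_eq_iff_mul_eq_one, ← pow_two]; exact hxy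
  calc x * y = (x * y)⁻¹ := h1.symm
    _ = y⁻¹ * x⁻¹ := mul_inv_rev x y
    _ = y * x := by rw [hx', hy']

variable [Finite Γ]

theorem normal_sylow_two [Group.IsSolvable Γ] (h6 : ∀ x : Γ, x ^ 6 = 1)
    (hcore : pPrimeCore 2 Γ = ⊥) : ∃ S : Sylow 2 Γ, (S : Subgroup Γ).Normal := by
  haveI : Fact (Nat.Prime 2) := ⟨Nat.prime_two⟩
  have hC := centralizer_pCore_le (G := Γ) 2 hcore
  have S : Sylow 2 Γ := default
  refine ⟨S, ?_⟩
  have hQS : pCore 2 Γ ≤ S := pCore_le_sylow S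
  have hsq : ∀ x ∈ S, x ^ 2 = 1 := by
    intro x hx
    obtain ⟨k, hk⟩ := S.2 ⟨x, hx⟩
    have hk' : x ^ 2 ^ k = 1 := by
      have := congrArg Subtype.val hk
      simpa using this
    exact sq_eq_one_of_two_pow hk' (h6 x)
  have hcomm : ∀ x ∈ S, ∀ y ∈ S, x * y = y * x := fun x hx y hy =>
    comm_of_sq_eq_one (hsq x hx) (hsq y hy) (hsq _ (Subgroup.mul_mem _ hx hy))
  have hSQ : (S : Subgroup Γ) ≤ pCore 2 Γ := by
    intro s hs
    apply hC
    rw [Subgroup.mem_centralizer_iff]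
    intro q hq
    exact hcomm q (hQS hq) s hs
  have : (S : Subgroup Γ) = pCore 2 Γ := le_antisymm hSQ hQS
  rw [this]
  exact pCore_normal' 2


/-- The key configuration cannot occur: `Q ⊴ Γ` an (exponent 3) `3`-group with `C_Γ(Q) ≤ Q`,
`y` of order `3`, `b` an involution outside `Q` such that `b`, `b^y`, `b^{y²}` commute modulo `Q`
and have product in `Q`. -/
theorem no_A4_config (h6 : ∀ x : Γ, x ^ 6 = 1) (Q : Subgroup Γ) [hQn : Q.Normal]
    (hQp : IsPGroup 3 Q) (hCQ : Subgroup.centralizer (Q : Set Γ) ≤ Q)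
    (y b : Γ) (hy3 : y ^ 3 = 1) (hb2 : b ^ 2 = 1) (hbQ : b ∉ Q)
    (hcomm : b * (y * b * y⁻¹) * b⁻¹ * (y * b * y⁻¹)⁻¹ ∈ Q)
    (hprod : b * (y * b * y⁻¹) * (y * (y * b * y⁻¹) * y⁻¹) ∈ Q) : False := by
  haveI : Fact (Nat.Prime 3) := ⟨Nat.prime_three⟩
  have hQ3 : ∀ u ∈ Q, u ^ 3 = 1 := by
    intro u hu
    obtain ⟨k, hk⟩ := hQp ⟨u, hu⟩
    have hk' : u ^ 3 ^ k = 1 := by simpa using congrArg Subtype.val hk
    exact cube_eq_one_of_three_pow hk' (h6 u)
  set Φ := frattiniIn Q with hΦ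
  haveI hΦn : Φ.Normal := inferInstance
  set τ := QuotientGroup.mk' Φ with hτ
  have hτs : Function.Surjective τ := QuotientGroup.mk'_surjective Φ
  set V : Subgroup (Γ ⧸ Φ) := Q.map τ with hV
  haveI hVn : V.Normal := Subgroup.Normal.map hQn τ hτs
  set ρ : Γ →* MulAut V := (MulAut.conjNormal (H := V)).comp τ with hρ
  have hρ_apply : ∀ (g : Γ) (w : V), ((ρ g) w : Γ ⧸ Φ) = τ g * w * (τ g)⁻¹ := by
    intro g w
    rw [hρ, MonoidHom.comp_apply, MulAut.conjNormal_apply]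
  -- `V` is commutative of exponent 3
  have hcommQ : ∀ u ∈ Q, ∀ v ∈ Q, τ u * τ v = τ v * τ u := by
    intro u hu v hv
    rw [← map_mul, ← map_mul, hτ, QuotientGroup.mk'_apply, QuotientGroup.mk'_apply,
      QuotientGroup.eq]
    have hmem : (u * v)⁻¹ * (v * u) ∈ Q :=
      Q.mul_mem (Q.inv_mem (Q.mul_mem hu hv)) (Q.mul_mem hv hu)
    rw [hΦ, mem_frattiniIn hmem]
    have hc := (Cfsg.Agent.S0012.result 3 hQp).1
    apply hc
    have : (⟨(u * v)⁻¹ * (v * u), hmem⟩ : Q) =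
        ⁅(⟨v, hv⟩ : Q)⁻¹, (⟨u, hu⟩ : Q)⁻¹⁆ := by
      apply Subtype.ext
      simp only [commutatorElement_def, Subgroup.coe_mul, Subgroup.coe_inv]
      group
    rw [this, commutator_def]
    exact Subgroup.commutator_mem_commutator (Subgroup.mem_top _) (Subgroup.mem_top _)
  have hcommV : ∀ s t : V, s * t = t * s := by
    rintro ⟨_, u, hu, rfl⟩ ⟨_, v, hv, rfl⟩
    apply Subtype.ext
    exact hcommQ u hu v hv
  have h3V : ∀ s : V, s ^ 3 = 1 := by
    rintro ⟨_, u, hu, rfl⟩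
    apply Subtype.ext
    simp only [Subgroup.coe_pow, Subgroup.coe_one]
    rw [← map_pow, hQ3 u hu, map_one]
  have hρQ : ∀ q ∈ Q, ρ q = 1 := by
    intro q hq
    ext w
    rw [hρ_apply, MulAut.one_apply]
    have hqV : τ q ∈ V := ⟨q, hq, rfl⟩
    have := hcommV ⟨τ q, hqV⟩ w
    have h2 : τ q * (w : Γ ⧸ Φ) = w * τ q := congrArg Subtype.val this
    rw [h2]; group
  -- the automorphisms
  set ξ := ρ y with hξdef
  set β₀ := ρ b with hβ₀
  set β₁ := ρ (y * b * y⁻¹) with hβ₁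
  set β₂ := ρ (y * (y * b * y⁻¹) * y⁻¹) with hβ₂
  have hξ3 : ξ ^ 3 = 1 := by rw [hξdef, ← map_pow, hy3, map_one]
  have h0 : β₀ ^ 2 = 1 := by rw [hβ₀, ← map_pow, hb2, map_one]
  have h1 : β₁ = ξ * β₀ * ξ⁻¹ := by rw [hβ₁, hξdef, hβ₀, map_mul, map_mul, map_inv]
  have h2 : β₂ = ξ * β₁ * ξ⁻¹ := by rw [hβ₂, hξdef, hβ₁, map_mul, map_mul, map_inv]
  have hc : β₀ * β₁ = β₁ * β₀ := by
    have := hρQ _ hcomm
    rw [map_mul, map_mul, map_mul, map_inv, map_inv] at this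
    rw [← hβ₀, ← hβ₁] at this
    calc β₀ * β₁ = (β₀ * β₁ * β₀⁻¹ * β₁⁻¹) * β₁ * β₀ := by group
      _ = β₁ * β₀ := by rw [this, one_mul]
  have hp : β₀ * β₁ * β₂ = 1 := by
    have := hρQ _ hprod
    rw [map_mul, map_mul] at this
    exact this
  have hne : β₀ ≠ 1 := by
    intro h
    apply hbQ
    apply hCQ
    apply mem_centralizer_of_coprime (p := 3) Q hQp b
    · rw [mem_trivOnFrattiniQuot]
      intro r hr
      have hrV : τ r ∈ V := ⟨r, hr, rfl⟩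
      have h4 : ((β₀ ⟨τ r, hrV⟩ : V) : Γ ⧸ Φ) = τ r := by rw [h, MulAut.one_apply]
      rw [hβ₀, hρ_apply] at h4
      have h5 : τ (b * r * b⁻¹ * r⁻¹) = 1 := by
        rw [map_mul, map_mul, map_mul, map_inv, map_inv, h4, mul_inv_cancel]
      rw [hτ, QuotientGroup.mk'_apply, QuotientGroup.eq_one_iff] at h5
      exact h5
    · have hdvd : orderOf b ∣ 2 := orderOf_dvd_of_pow_eq_one hb2
      exact Nat.Coprime.coprime_dvd_left hdvd (by decide)
  obtain ⟨w, hw⟩ := exists_norm_ne_one hcommV h3V ξ β₀ β₁ β₂ hξ3 h0 h1 h2 hc hp hne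
  obtain ⟨w', u, hu, rfl⟩ := w
  -- the element `u * y` has cube outside `Φ`
  set t := u * (y * u * y⁻¹) * (y * (y * u * y⁻¹) * y⁻¹) with ht
  have htQ : t ∈ Q :=
    Q.mul_mem (Q.mul_mem hu (hQn.conj_mem u hu y)) (hQn.conj_mem _ (hQn.conj_mem u hu y) y)
  have htcube : t = (u * y) ^ 3 := by
    have e1 : (u * y) ^ 3 = (u * y) * (u * y) * (u * y) := by rw [pow_succ, pow_two]
    have e2 : y ^ 3 = y * y * y := by rw [pow_succ, pow_two]
    have : (u * y) ^ 3 = u * (y * u * y⁻¹) * (y * (y * u * y⁻¹) * y⁻¹) * y ^ 3 := by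
      rw [e1, e2]; group
    rw [this, hy3, mul_one]
  have ht1 : t = 1 := by
    have h62 : t ^ 2 = 1 := by rw [htcube, ← pow_mul]; exact h6 _
    have h63 : t ^ 3 = 1 := hQ3 t htQ
    calc t = t ^ 3 * (t ^ 2)⁻¹ := by group
      _ = 1 := by rw [h62, h63]; group
  apply hw
  apply Subtype.ext
  simp only [Subgroup.coe_mul, Subgroup.coe_one]
  rw [hξdef, hρ_apply, hρ_apply, hρ_apply]
  simp only []
  rw [← map_inv, ← map_mul, ← map_mul, ← map_mul, ← map_mul, ← map_mul, ← map_mul]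
  have : u * (y * u * y⁻¹) * (y * (y * u * y⁻¹) * y⁻¹) = 1 := by rw [← ht]; exact ht1
  rw [this, map_one]


theorem not_three_dvd_index [Group.IsSolvable Γ] (h6 : ∀ x : Γ, x ^ 6 = 1)
    (hcore : pPrimeCore 3 Γ = ⊥) : ¬ 3 ∣ (pCore 3 Γ).index := by
  haveI : Fact (Nat.Prime 3) := ⟨Nat.prime_three⟩
  haveI : Fact (Nat.Prime 2) := ⟨Nat.prime_two⟩
  intro h3
  obtain ⟨Q, hQdef⟩ : ∃ Q, Q = pCore 3 Γ := ⟨_, rfl⟩
  rw [← hQdef] at h3
  haveI hQn : Q.Normal := by rw [hQdef]; exact pCore_normal' 3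
  have hQp : IsPGroup 3 Q := by rw [hQdef]; exact isPGroup_pCore 3
  have hCQ : Subgroup.centralizer (Q : Set Γ) ≤ Q := by
    rw [hQdef]; exact centralizer_pCore_le 3 hcore
  set π := QuotientGroup.mk' Q with hπ
  have hπs : Function.Surjective π := QuotientGroup.mk'_surjective Q
  have hH6 : ∀ h : Γ ⧸ Q, h ^ 6 = 1 := by
    intro h
    obtain ⟨g, rfl⟩ := hπs h
    rw [← map_pow, h6, map_one]
  -- `O_3(Γ/Q) = 1`
  have hO3 : pCore 3 (Γ ⧸ Q) = ⊥ := by
    obtain ⟨M, hM⟩ : ∃ M, M = pCore 3 (Γ ⧸ Q) := ⟨_, rfl⟩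
    rw [← hM]
    have hMn : M.Normal := by rw [hM]; exact pCore_normal' 3
    have hMp : IsPGroup 3 M := by rw [hM]; exact isPGroup_pCore 3
    have hLn : (M.comap π).Normal := hMn.comap π
    have hLp : IsPGroup 3 (M.comap π) := by
      obtain ⟨a, ha⟩ := IsPGroup.iff_card.mp hQp
      obtain ⟨c, hc⟩ := IsPGroup.iff_card.mp hMp
      apply IsPGroup.of_card (n := a + c)
      have : Nat.card (M.comap π) = Nat.card Q * Nat.card M :=
        QuotientGroup.card_preimage_mk Q (M : Set (Γ ⧸ Q))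
      rw [this, ha, hc, pow_add]
    have hLQ : M.comap π ≤ Q := le_of_le_of_eq (le_pCore hLn hLp) hQdef.symm
    rw [eq_bot_iff]
    intro m hm
    obtain ⟨g, rfl⟩ := hπs m
    rw [Subgroup.mem_bot]
    exact (QuotientGroup.eq_one_iff g).mpr (hLQ hm)
  -- `O_{2'}(Γ/Q) = 1`
  have hO2' : pPrimeCore 2 (Γ ⧸ Q) = ⊥ := by
    refine sSup_eq_bot.mpr ?_
    rintro M ⟨hMn, hMc⟩
    have hMp : IsPGroup 3 M := by
      intro x
      refine ⟨1, ?_⟩
      have hx6 : (x : Γ ⧸ Q) ^ 6 = 1 := hH6 x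
      have hxc : (x : Γ ⧸ Q) ^ Nat.card M = 1 := MinData.pow_card_eq_one_of_mem M x.2
      have : (x : Γ ⧸ Q) ^ 3 ∈ (⊥ : Subgroup (Γ ⧸ Q)) := by
        apply mem_of_pow_mem_of_coprime (m := 2) (n := Nat.card M)
        · exact hMc.symm
        · rw [← pow_mul, hx6]; exact Subgroup.one_mem _
        · rw [← pow_mul, mul_comm, pow_mul, hxc, one_pow]; exact Subgroup.one_mem _
      apply Subtype.ext
      simpa using this
    have : M ≤ pCore 3 (Γ ⧸ Q) := le_pCore hMn hMp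
    rw [hO3] at this
    exact le_bot_iff.mp this
  obtain ⟨E, hEdef⟩ : ∃ E, E = pCore 2 (Γ ⧸ Q) := ⟨_, rfl⟩
  haveI hEn : E.Normal := by rw [hEdef]; exact pCore_normal' 2
  have hEp : IsPGroup 2 E := by rw [hEdef]; exact isPGroup_pCore 2
  have hCE : Subgroup.centralizer (E : Set (Γ ⧸ Q)) ≤ E := by
    rw [hEdef]; exact centralizer_pCore_le 2 hO2'
  have hE2 : ∀ e ∈ E, e ^ 2 = 1 := by
    intro e he
    obtain ⟨k, hk⟩ := hEp ⟨e, he⟩
    have hk' : e ^ 2 ^ k = 1 := by simpa using congrArg Subtype.val hk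
    exact sq_eq_one_of_two_pow hk' (hH6 e)
  have hEcomm : ∀ e ∈ E, ∀ f ∈ E, e * f = f * e := fun e he f hf =>
    comm_of_sq_eq_one (hE2 e he) (hE2 f hf) (hE2 _ (E.mul_mem he hf))
  have hEinv : ∀ e ∈ E, e⁻¹ = e := by
    intro e he
    rw [inv_eq_iff_mul_eq_one, ← pow_two]; exact hE2 e he
  -- an element of order 3
  have hcardH : 3 ∣ Nat.card (Γ ⧸ Q) := by rw [← Subgroup.index_eq_card]; exact h3
  obtain ⟨x, hx⟩ := exists_prime_orderOf_dvd_card' 3 hcardH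
  have hx3 : x ^ 3 = 1 := by rw [← hx]; exact pow_orderOf_eq_one x
  have hx1 : x ≠ 1 := by
    intro h
    rw [h, orderOf_one] at hx
    norm_num at hx
  have hxE : x ∉ E := by
    intro hxE
    have h2 := hE2 x hxE
    apply hx1
    calc x = x ^ 3 * (x ^ 2)⁻¹ := by group
      _ = 1 := by rw [hx3, h2]; group
  have hex : ∃ e ∈ E, x * e ≠ e * x := by
    by_contra hall
    push Not at hall
    apply hxE
    apply hCE
    rw [Subgroup.mem_centralizer_iff]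
    intro e he
    exact (hall e he).symm
  obtain ⟨e, he, hxe⟩ := hex
  obtain ⟨e₁, he₁⟩ : ∃ e₁, e₁ = x * e * x⁻¹ := ⟨_, rfl⟩
  obtain ⟨e₂, he₂⟩ : ∃ e₂, e₂ = x * e₁ * x⁻¹ := ⟨_, rfl⟩
  have he₁E : e₁ ∈ E := by rw [he₁]; exact hEn.conj_mem e he x
  have he₂E : e₂ ∈ E := by rw [he₂]; exact hEn.conj_mem e₁ he₁E x
  have he₃ : x * e₂ * x⁻¹ = e := by
    rw [he₂, he₁]
    have e3 : x ^ 3 = x * x * x := by rw [pow_succ, pow_two]
    calc x * (x * (x * e * x⁻¹) * x⁻¹) * x⁻¹ = (x * x * x) * e * (x * x * x)⁻¹ := by group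
      _ = e := by rw [← e3, hx3]; group
  obtain ⟨a, ha⟩ : ∃ a, a = e * e₁ := ⟨_, rfl⟩
  have haE : a ∈ E := by rw [ha]; exact E.mul_mem he he₁E
  have ha1 : a ≠ 1 := by
    intro h
    apply hxe
    rw [ha] at h
    have h1 : e₁ = e⁻¹ := (eq_inv_of_mul_eq_one_right h)
    rw [hEinv e he, he₁] at h1
    calc x * e = (x * e * x⁻¹) * x := by group
      _ = e * x := by rw [h1]
  have ha2 : a ^ 2 = 1 := hE2 a haE
  obtain ⟨a₁, ha₁⟩ : ∃ a₁, a₁ = x * a * x⁻¹ := ⟨_, rfl⟩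
  obtain ⟨a₂, ha₂⟩ : ∃ a₂, a₂ = x * a₁ * x⁻¹ := ⟨_, rfl⟩
  have ha₁E : a₁ ∈ E := by rw [ha₁]; exact hEn.conj_mem a haE x
  have ha₁eq : a₁ = e₁ * e₂ := by
    rw [ha₁, ha, he₂, he₁]; group
  have ha₂eq : a₂ = e₂ * e := by
    calc a₂ = (x * e₁ * x⁻¹) * (x * e₂ * x⁻¹) := by rw [ha₂, ha₁eq]; group
      _ = e₂ * e := by rw [he₃, ← he₂]
  have hprodE : a * a₁ * a₂ = 1 := by
    rw [ha, ha₁eq, ha₂eq]
    have s1 : e₁ * e₁ = 1 := by rw [← pow_two]; exact hE2 e₁ he₁E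
    have s2 : e₂ * e₂ = 1 := by rw [← pow_two]; exact hE2 e₂ he₂E
    have s0 : e * e = 1 := by rw [← pow_two]; exact hE2 e he
    calc e * e₁ * (e₁ * e₂) * (e₂ * e) = e * (e₁ * e₁) * (e₂ * e₂) * e := by group
      _ = 1 := by rw [s1, s2, mul_one, mul_one, s0]
  have hcommE : a * a₁ * a⁻¹ * a₁⁻¹ = 1 := by
    rw [hEcomm a haE a₁ ha₁E]; group
  -- lifts
  obtain ⟨y₀, hy₀⟩ := hπs x
  obtain ⟨b₀, hb₀⟩ := hπs a
  obtain ⟨y, hy⟩ : ∃ y, y = y₀ ^ 4 := ⟨_, rfl⟩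
  obtain ⟨b, hb⟩ : ∃ b, b = b₀ ^ 3 := ⟨_, rfl⟩
  have hπy : π y = x := by
    rw [hy, map_pow, hy₀]
    calc x ^ 4 = x ^ 3 * x := by group
      _ = x := by rw [hx3, one_mul]
  have hπb : π b = a := by
    rw [hb, map_pow, hb₀]
    calc a ^ 3 = a ^ 2 * a := by group
      _ = a := by rw [ha2, one_mul]
  have hy3 : y ^ 3 = 1 := by
    rw [hy, ← pow_mul]
    calc y₀ ^ (4 * 3) = (y₀ ^ 6) ^ 2 := by rw [← pow_mul]
      _ = 1 := by rw [h6, one_pow]
  have hb2 : b ^ 2 = 1 := by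
    rw [hb, ← pow_mul]
    exact h6 b₀
  have hbQ : b ∉ Q := by
    intro hbQ
    apply ha1
    rw [← hπb, hπ, QuotientGroup.mk'_apply, QuotientGroup.eq_one_iff]
    exact hbQ
  have hπ1 : π (y * b * y⁻¹) = a₁ := by
    rw [map_mul, map_mul, map_inv, hπy, hπb, ha₁]
  have hπ2 : π (y * (y * b * y⁻¹) * y⁻¹) = a₂ := by
    rw [map_mul, map_mul, map_inv, hπ1, hπy, ha₂]
  have hcommQ : b * (y * b * y⁻¹) * b⁻¹ * (y * b * y⁻¹)⁻¹ ∈ Q := by
    rw [← QuotientGroup.eq_one_iff, ← QuotientGroup.mk'_apply, ← hπ, map_mul, map_mul, map_mul,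
      map_inv, map_inv, hπ1, hπb]
    exact hcommE
  have hprodQ : b * (y * b * y⁻¹) * (y * (y * b * y⁻¹) * y⁻¹) ∈ Q := by
    rw [← QuotientGroup.eq_one_iff, ← QuotientGroup.mk'_apply, ← hπ, map_mul, map_mul, hπ2, hπ1,
      hπb]
    exact hprodE
  exact no_A4_config h6 Q hQp hCQ y b hy3 hb2 hbQ hcommQ hprodQ

theorem normal_sylow_three [Group.IsSolvable Γ] (h6 : ∀ x : Γ, x ^ 6 = 1)
    (hcore : pPrimeCore 3 Γ = ⊥) : ∃ S : Sylow 3 Γ, (S : Subgroup Γ).Normal := by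
  haveI : Fact (Nat.Prime 3) := ⟨Nat.prime_three⟩
  have hidx := not_three_dvd_index h6 hcore
  have S : Sylow 3 Γ := default
  refine ⟨S, ?_⟩
  have hQS : pCore 3 Γ ≤ S := pCore_le_sylow S
  haveI hQn : (pCore 3 Γ).Normal := pCore_normal' 3
  have hSQ : (S : Subgroup Γ) ≤ pCore 3 Γ := by
    intro s hs
    rw [← QuotientGroup.eq_one_iff]
    obtain ⟨k, hk⟩ := S.2 ⟨s, hs⟩
    have hk' : s ^ 3 ^ k = 1 := by simpa using congrArg Subtype.val hk
    have h1 : ((s : Γ) : Γ ⧸ pCore 3 Γ) ^ 3 ^ k = 1 := by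
      rw [← QuotientGroup.mk_pow, hk']; rfl
    have h2 : ((s : Γ) : Γ ⧸ pCore 3 Γ) ^ (pCore 3 Γ).index = 1 := by
      rw [Subgroup.index_eq_card]; exact pow_card_eq_one'
    have hcop : Nat.Coprime (3 ^ k) (pCore 3 Γ).index :=
      Nat.Coprime.pow_left k ((Nat.Prime.coprime_iff_not_dvd Nat.prime_three).mpr hidx)
    have : ((s : Γ) : Γ ⧸ pCore 3 Γ) ∈ (⊥ : Subgroup (Γ ⧸ pCore 3 Γ)) :=
      mem_of_pow_mem_of_coprime hcop (by rw [h1]; exact Subgroup.one_mem _)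
        (by rw [h2]; exact Subgroup.one_mem _)
    simpa using this
  have : (S : Subgroup Γ) = pCore 3 Γ := le_antisymm hSQ hQS
  rw [this]
  exact hQn

end Exp6

end Cfsg.Agent.Lib.Helper70
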