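-- helper70: S4291 MODULE D, part A: SL(2,5) is perfect; commuting subgroups of coprime order;
-- a non-solvable group of order 60 has exactly five Sylow 2-subgroups.
import Mathlib
import Cfsg.Agent.S3378
import Cfsg.Agent.Lib.Helper17.SimpleIndex
import Cfsg.Agent.Lib.Helper17.SylowCard

set_option autoImplicit false

namespace Cfsg.Agent.Lib.Helper70.FC

open Cfsg.Agent.S3378 Cfsg.Agent.S3374 Cfsg.Agent.Lib.Helper56.SL25

/-- every homomorphism from `SL(2,5)` to a commutative group is trivial -/
theorem sl25_hom_trivial {A : Type*} [Group A] (hA : ∀ a b : A, a * b = b * a)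
    (f : Matrix.SpecialLinearGroup (Fin 2) (ZMod 5) →* A)
    (g : Matrix.SpecialLinearGroup (Fin 2) (ZMod 5)) : f g = 1 := by
  have hX : f mX ^ 3 = 1 := by rw [← map_pow, mX_pow, map_one]
  have hY : f mY ^ 5 = 1 := by rw [← map_pow, mY_pow, map_one]
  have hZ : f mZ ^ 2 = 1 := by rw [← map_pow, mZ_pow, map_one]
  have hS : f mS = f mX * f mY := by rw [← map_mul, mXY]
  have hSZ : f mS ^ 2 = f mZ := by rw [← map_pow, mS_sq]
  have h4 : f mX ^ 4 * f mY ^ 4 = 1 := by
    rw [← (show Commute (f mX) (f mY) from hA _ _).mul_pow, ← hS]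
    calc f mS ^ 4 = (f mS ^ 2) ^ 2 := by rw [← pow_mul]
      _ = 1 := by rw [hSZ, hZ]
  have hxy : f mX = f mY := by
    have h1 : f mX ^ 4 = f mX := by
      calc f mX ^ 4 = f mX ^ 3 * f mX := pow_succ _ _
        _ = f mX := by rw [hX, one_mul]
    rw [h1] at h4
    have h2 : f mY * f mY ^ 4 = 1 := by rw [← pow_succ', hY]
    exact mul_right_cancel (h4.trans h2.symm)
  have hy1 : f mY = 1 := by
    rw [hxy] at hX
    have h6 : f mY ^ 6 = 1 := by
      rw [show 6 = 3 * 2 from rfl, pow_mul, hX, one_pow]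
    rw [pow_succ, hY, one_mul] at h6
    exact h6
  have hs1 : f mS = 1 := by rw [hS, hxy, hy1, one_mul]
  have := evalSL_mem f.ker (MonoidHom.mem_ker.mpr hs1) (MonoidHom.mem_ker.mpr hy1) (word (toQ g))
  rw [← eq_evalSL g] at this
  exact MonoidHom.mem_ker.mp this

section comm

variable {G : Type*} [Group G] (A B : Subgroup G)

/-- elements of the join of two elementwise commuting subgroups are products -/
theorem mem_sup_comm (hcomm : ∀ a ∈ A, ∀ b ∈ B, a * b = b * a) {g : G} (hg : g ∈ A ⊔ B) :
    ∃ a ∈ A, ∃ b ∈ B, g = a * b := by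
  have hc : ∀ (a : A) (b : B), Commute (A.subtype a) (B.subtype b) :=
    fun a b => hcomm a a.2 b b.2
  have hr := MonoidHom.noncommCoprod_range A.subtype B.subtype hc
  rw [Subgroup.range_subtype, Subgroup.range_subtype] at hr
  rw [← hr] at hg
  obtain ⟨⟨a, b⟩, rfl⟩ := hg
  exact ⟨a, a.2, b, b.2, by simp [MonoidHom.noncommCoprod_apply]⟩

theorem card_sup_comm [Finite G] (hcomm : ∀ a ∈ A, ∀ b ∈ B, a * b = b * a) (hinf : A ⊓ B = ⊥) :
    Nat.card ↥(A ⊔ B) = Nat.card A * Nat.card B := by
  have hc : ∀ (a : A) (b : B), Commute (A.subtype a) (B.subtype b) :=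
    fun a b => hcomm a a.2 b b.2
  have hr := MonoidHom.noncommCoprod_range A.subtype B.subtype hc
  rw [Subgroup.range_subtype, Subgroup.range_subtype] at hr
  have hinj : Function.Injective
      (MonoidHom.noncommCoprod A.subtype B.subtype hc) := by
    rw [MonoidHom.noncommCoprod_injective]
    refine ⟨A.subtype_injective, B.subtype_injective, ?_⟩
    rw [Subgroup.range_subtype, Subgroup.range_subtype, disjoint_iff]
    exact hinf
  rw [← hr, ← Nat.card_congr (MonoidHom.ofInjective hinj).toEquiv, Nat.card_prod]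

/-- a direct factor of coprime order of a normal subgroup is normal -/
theorem normal_of_coprime_commute [Finite G] (G₀ : Subgroup G) (hG₀ : G₀.Normal)
    (hAB : A ⊔ B = G₀) (hcomm : ∀ a ∈ A, ∀ b ∈ B, a * b = b * a)
    (hcop : (Nat.card A).Coprime (Nat.card B)) : A.Normal := by
  constructor
  intro a ha x
  have haG : a ∈ G₀ := by rw [← hAB]; exact Subgroup.mem_sup_left ha
  have hmem : x * a * x⁻¹ ∈ A ⊔ B := by rw [hAB]; exact hG₀.conj_mem a haG x
  obtain ⟨a', ha', b', hb', heq⟩ := mem_sup_comm A B hcomm hmem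
  have hapow : a ^ Nat.card A = 1 :=
    orderOf_dvd_iff_pow_eq_one.mp (Subgroup.orderOf_dvd_natCard A ha)
  have ha'pow : a' ^ Nat.card A = 1 :=
    orderOf_dvd_iff_pow_eq_one.mp (Subgroup.orderOf_dvd_natCard A ha')
  have hpow : (x * a * x⁻¹) ^ Nat.card A = 1 := by
    rw [conj_pow, hapow, mul_one, mul_inv_cancel]
  have hc : Commute a' b' := hcomm a' ha' b' hb'
  rw [heq, hc.mul_pow, ha'pow, one_mul] at hpow
  have h1 : orderOf b' ∣ Nat.card A := orderOf_dvd_of_pow_eq_one hpow
  have h2 : orderOf b' ∣ Nat.card B := Subgroup.orderOf_dvd_natCard B hb'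
  have h3 := Nat.dvd_gcd h1 h2
  rw [hcop.gcd_eq_one, Nat.dvd_one, orderOf_eq_one_iff] at h3
  rw [heq, h3, mul_one]
  exact ha'

end comm

open Cfsg.Agent.Lib.Helper17 in
/-- a non-solvable group of order 60 has exactly five Sylow 2-subgroups -/
theorem card_sylow_two_of_sixty {A : Type*} [Group A] [Finite A] (h60 : Nat.card A = 60)
    (hns : ¬ Group.IsSolvable A) : Nat.card (Sylow 2 A) = 5 := by
  have hs : IsSimpleGroup A := Cfsg.Agent.S3378.simple_of_card_sixty A h60 hns
  have hG : ¬ IsMulCommutative A := fun h =>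
    hns (Group.isSolvable_of_comm (fun a b => h.is_comm.comm a b))
  have h60' : Nat.card A = 2 ^ 2 * 15 := by rw [h60]; norm_num
  have hm : ¬ (2 ∣ 15) := by decide
  have hdvd : Nat.card (Sylow 2 A) ∣ 15 := card_sylow_dvd_of_card_eq h60' hm
  have hne1 : Nat.card (Sylow 2 A) ≠ 1 :=
    card_sylow_ne_one_of_simple h60' hm (by decide) (by decide)
  have hfac := two_mul_card_dvd_factorial_card_sylow_of_simple hG hne1
  rw [h60] at hfac
  have hle : Nat.card (Sylow 2 A) ≤ 15 := Nat.le_of_dvd (by decide) hdvd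
  have hcases : Nat.card (Sylow 2 A) = 5 ∨ Nat.card (Sylow 2 A) = 15 := by
    generalize Nat.card (Sylow 2 A) = n at *
    interval_cases n <;> simp_all (config := {decide := true})
  rcases hcases with h5 | h15
  · exact h5
  · exfalso
    obtain ⟨P⟩ := (Sylow.nonempty : Nonempty (Sylow 2 A))
    have hP4 : Nat.card (P : Subgroup A) = 2 ^ 2 := sylow_card_of_card_eq P h60' hm
    have hN := card_sylow_mul_card_normalizer P
    rw [h15, h60] at hN
    have hN4 : Nat.card (Subgroup.normalizer ((P : Subgroup A) : Set A)) = 4 := by omega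
    have hNP : Subgroup.normalizer ((P : Subgroup A) : Set A) = (P : Subgroup A) := by
      symm
      apply Subgroup.eq_of_le_of_card_ge Subgroup.le_normalizer
      rw [hN4, hP4]; norm_num
    have hcomm : IsMulCommutative (P : Subgroup A) :=
      IsPGroup.isMulCommutative_of_card_eq_prime_sq hP4
    have hle' : Subgroup.normalizer ((P : Subgroup A) : Set A) ≤
        Subgroup.centralizer ((P : Subgroup A) : Set A) := by
      rw [hNP]
      exact Subgroup.le_centralizer (P : Subgroup A)
    have hc := MonoidHom.ker_transferSylow_isComplement' P hle'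
    have hcard := hc.card_mul_card
    rw [hP4, h60] at hcard
    have hK15 : Nat.card (MonoidHom.transferSylow P hle').ker = 15 := by omega
    rcases (inferInstance : (MonoidHom.transferSylow P hle').ker.Normal).eq_bot_or_eq_top with h | h
    · rw [h, Subgroup.card_bot] at hK15; omega
    · rw [h, Subgroup.card_top, h60] at hK15; omega

end Cfsg.Agent.Lib.Helper70.FC
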