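-- helper70: S4291 MODULE D, part B: a group acting on the five Sylow 2-subgroups of a normal
-- non-solvable subgroup of order 60.
import Mathlib
import Cfsg.Agent.Lib.Helper70.FCNonsolvA

set_option autoImplicit false

namespace Cfsg.Agent.Lib.Helper70.FC

open scoped Pointwise

section action

variable {Γ : Type*} [Group Γ] (D : Subgroup Γ) [D.Normal]

/-- the action of `Γ` on the Sylow 2-subgroups of the normal subgroup `D` -/
noncomputable def rho2 : Γ →* Equiv.Perm (Sylow 2 D) :=
  (MulAction.toPermHom (MulAut D) (Sylow 2 D)).comp MulAut.conjNormal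

theorem rho2_coe (d : D) (Q : Sylow 2 D) : rho2 D (d : Γ) Q = d • Q := by
  rw [Sylow.smul_def]
  change ((MulAut.conjNormal (d : Γ) : MulAut D) • Q : Sylow 2 D) = _
  congr 1
  ext x
  simp [MulAut.conjNormal_apply]

/-- a homomorphism to `S₅` whose kernel meets `D` trivially -/
theorem exists_hom_perm_five [Finite Γ] (hD : Nat.card D = 60) (hns : ¬ Group.IsSolvable D) :
    ∃ ρ : Γ →* Equiv.Perm (Fin 5), ρ.ker ⊓ D = ⊥ := by
  have h5 : Nat.card (Sylow 2 D) = 5 := card_sylow_two_of_sixty hD hns
  have hs : IsSimpleGroup D := Cfsg.Agent.S3378.simple_of_card_sixty D hD hns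
  obtain ⟨e⟩ : Nonempty (Sylow 2 D ≃ Fin 5) := ⟨(Finite.equivFin _).trans (finCongr h5)⟩
  refine ⟨(e.permCongrHom).toMonoidHom.comp (rho2 D), ?_⟩
  have hker : ((e.permCongrHom).toMonoidHom.comp (rho2 D)).ker = (rho2 D).ker := by
    ext g
    rw [MonoidHom.mem_ker, MonoidHom.mem_ker, MonoidHom.comp_apply]
    exact MulEquiv.map_eq_one_iff e.permCongrHom
  rw [hker]
  have hL : ((rho2 D).ker.subgroupOf D).Normal := inferInstance
  rcases hL.eq_bot_or_eq_top with h | h
  · rw [Subgroup.subgroupOf_eq_bot] at h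
    exact disjoint_iff.mp h
  · exfalso
    rw [Subgroup.subgroupOf_eq_top] at h
    have hfix : ∀ (d : D) (Q : Sylow 2 D), d • Q = Q := by
      intro d Q
      rw [← rho2_coe]
      have := MonoidHom.mem_ker.mp (h d.2)
      rw [this]
      rfl
    have hsub : Subsingleton (Sylow 2 D) := by
      constructor
      intro Q Q'
      obtain ⟨d, hd⟩ := MulAction.exists_smul_eq D Q Q'
      rw [← hd, hfix]
    have := Nat.card_unique (α := Sylow 2 D)
    omega

end action

end Cfsg.Agent.Lib.Helper70.FC
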