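-- helper70: S4291 MODULE D: the non-solvable case of Zassenhaus' structure theorem for
-- Frobenius complements (exact statement of board #1999).
import Mathlib
import Cfsg.Agent.Lib.Helper35.SL25ComplC
import Cfsg.Agent.Lib.Helper70.FCNonsolvB
import Cfsg.Agent.S0494

set_option autoImplicit false

namespace Cfsg.Agent.Lib.Helper70.FC

open Cfsg.Agent.Lib.Helper35.SL25Compl

/-- a group isomorphic to `SL(2,5)` is not solvable -/
theorem not_solvable_of_iso {S : Type*} [Group S]
    (e : S ≃* Matrix.SpecialLinearGroup (Fin 2) (ZMod 5)) : ¬ Group.IsSolvable S := by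
  intro h
  have hc : Nat.card S = 120 := (Nat.card_congr e.toEquiv).trans Cfsg.Agent.S3378.card_SL25
  have : Finite S := Nat.finite_of_card_ne_zero (by rw [hc]; norm_num)
  have hnt : Nontrivial S := by
    rw [← Finite.one_lt_card_iff_nontrivial, hc]; norm_num
  have hlt := Group.IsSolvable.commutator_lt_top_of_nontrivial S
  apply hlt.ne
  rw [eq_top_iff]
  intro s _
  have h1 := sl25_hom_trivial mul_comm ((Abelianization.of (G := S)).comp e.symm.toMonoidHom) (e s)
  rw [MonoidHom.comp_apply] at h1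
  have h2 : e.symm.toMonoidHom (e s) = s := e.symm_apply_apply s
  rw [h2] at h1
  exact (QuotientGroup.eq_one_iff s).mp h1

/-- if the kernel of `g` is central and the target is solvable then so is the source -/
theorem solvable_of_central_ker {S H : Type*} [Group S] [Group H] (g : S →* H)
    (hker : g.ker ≤ Subgroup.center S) (h : Group.IsSolvable H) : Group.IsSolvable S := by
  have h1 : Group.IsSolvable g.ker := by
    apply Group.isSolvable_of_comm
    intro a b
    apply Subtype.ext
    exact ((Subgroup.mem_center_iff.mp (hker a.2)) (b : S)).symm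
  exact Group.isSolvable_of_ker_le_range g.ker.subtype g (by rw [Subgroup.range_subtype])

section main

variable {G : Type*} [Group G]

/-- an element whose commutators with a copy `S` of `SL(2,5)` are central centralizes `S` -/
theorem commute_of_comm_mem_center {S : Subgroup G}
    (e : S ≃* Matrix.SpecialLinearGroup (Fin 2) (ZMod 5)) (k : G)
    (hk : ∀ s ∈ S, k * s * k⁻¹ * s⁻¹ ∈ Subgroup.center G) : ∀ s ∈ S, k * s = s * k := by
  let ψ : S →* Subgroup.center G := MonoidHom.mk' (fun s => ⟨k * s * k⁻¹ * (s : G)⁻¹, hk s s.2⟩) (by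
    intro s t
    apply Subtype.ext
    have hc := Subgroup.mem_center_iff.mp (hk t t.2) ((s : G)⁻¹)
    show k * ((s : G) * (t : G)) * k⁻¹ * ((s : G) * (t : G))⁻¹ =
      (k * s * k⁻¹ * (s : G)⁻¹) * (k * t * k⁻¹ * (t : G)⁻¹)
    calc k * ((s : G) * (t : G)) * k⁻¹ * ((s : G) * (t : G))⁻¹
        = k * s * k⁻¹ * ((k * t * k⁻¹ * (t : G)⁻¹) * (s : G)⁻¹) := by group
      _ = k * s * k⁻¹ * ((s : G)⁻¹ * (k * t * k⁻¹ * (t : G)⁻¹)) := by rw [hc]
      _ = (k * s * k⁻¹ * (s : G)⁻¹) * (k * t * k⁻¹ * (t : G)⁻¹) := by group)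
  intro s hs
  have h1 := sl25_hom_trivial (fun a b => Subtype.ext ((Subgroup.mem_center_iff.mp a.2 (b : G)).symm))
    (ψ.comp e.symm.toMonoidHom) (e ⟨s, hs⟩)
  rw [MonoidHom.comp_apply] at h1
  have h2 : e.symm.toMonoidHom (e ⟨s, hs⟩) = ⟨s, hs⟩ := e.symm_apply_apply _
  rw [h2] at h1
  have h3 : k * s * k⁻¹ * s⁻¹ = 1 := congrArg Subtype.val h1
  calc k * s = (k * s * k⁻¹ * s⁻¹) * (s * k) := by group
    _ = s * k := by rw [h3, one_mul]

/-- odd order subgroups lie in every subgroup of index two -/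
theorem le_of_odd_of_index_two [Finite G] (G₀ M' : Subgroup G) (h2 : G₀.index = 2)
    (hodd : ¬ 2 ∣ Nat.card M') : M' ≤ G₀ := by
  intro m hm
  have ho : orderOf m ∣ Nat.card M' := Subgroup.orderOf_dvd_natCard M' hm
  have hoodd : ¬ 2 ∣ orderOf m := fun h => hodd (h.trans ho)
  obtain ⟨j, hj⟩ : ∃ j, orderOf m + 1 = 2 * j := by
    have : orderOf m % 2 = 1 := by omega
    exact ⟨(orderOf m + 1) / 2, by omega⟩
  have : m = (m ^ 2) ^ j := by
    rw [← pow_mul, ← hj, pow_succ, pow_orderOf_eq_one, one_mul]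
  rw [this]
  exact G₀.pow_mem (Subgroup.sq_mem_of_index_two h2 m) j

end main

/-- MODULE D of S4291: the non-solvable case. -/
theorem good_of_nonsolvable {G : Type*} [Group G] [Finite G]
    (hinv : Cfsg.Agent.Lib.Helper35.SL25Compl.UniqueInvol G)
    (hU : Cfsg.Agent.Lib.Helper35.SL25Compl.UniqueOrderP G)
    (G₀ : Subgroup G) (hG₀ : G₀.Normal) (hidx : G₀.index = 1 ∨ G₀.index = 2)
    (S M : Subgroup G) (hSM : S ⊔ M = G₀) (hinf : S ⊓ M = ⊥)
    (hcomm : ∀ s ∈ S, ∀ x ∈ M, s * x = x * s)
    (hS : Nonempty (S ≃* Matrix.SpecialLinearGroup (Fin 2) (ZMod 5)))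
    (hM : (Nat.card M).Coprime 30) :
    ∃ N : Subgroup G, N.Normal ∧ (∀ (p : ℕ) [Fact p.Prime] (P : Sylow p N), IsCyclic P) ∧
      ((∃ f : G →* alternatingGroup (Fin 5), Function.Surjective f ∧ f.ker = N) ∨
        (∃ f : G →* Equiv.Perm (Fin 5), Function.Surjective f ∧ f.ker = N)) := by
  obtain ⟨e⟩ := hS
  have hD : Nat.card S = 120 := (Nat.card_congr e.toEquiv).trans Cfsg.Agent.S3378.card_SL25
  have hns : ¬ Group.IsSolvable S := not_solvable_of_iso e
  have hM2 : (Nat.card M).Coprime 2 := hM.coprime_dvd_right (by norm_num)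
  have hM3 : (Nat.card M).Coprime 3 := hM.coprime_dvd_right (by norm_num)
  have hM5 : (Nat.card M).Coprime 5 := hM.coprime_dvd_right (by norm_num)
  have hcop : (Nat.card S).Coprime (Nat.card M) := by
    rw [hD]
    have : (Nat.card M).Coprime (2 ^ 3 * 3 * 5) := ((hM2.pow_right 3).mul_right hM3).mul_right hM5
    exact this.symm
  have hModd : ¬ 2 ∣ Nat.card M := by
    intro h
    have := Nat.eq_one_of_dvd_coprimes hM2.symm (dvd_refl 2) h
    omega
  have hMpos : 0 < Nat.card M := Nat.card_pos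
  have hSn : S.Normal := normal_of_coprime_commute S M G₀ hG₀ hSM hcomm hcop
  have hMn : M.Normal := normal_of_coprime_commute M S G₀ hG₀ (by rw [sup_comm]; exact hSM)
    (fun a ha b hb => (hcomm b hb a ha).symm) hcop.symm
  have hSG₀ : S ≤ G₀ := by rw [← hSM]; exact le_sup_left
  have hMG₀ : M ≤ G₀ := by rw [← hSM]; exact le_sup_right
  obtain ⟨z, hzS, hz⟩ := exists_invol S hD
  have hzc : ∀ g : G, g * z = z * g := central_of_uniqueInvol hinv hz
  set Z := Subgroup.zpowers z with hZ
  have hZc : Z ≤ Subgroup.center G := by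
    rw [hZ, Subgroup.zpowers_le, Subgroup.mem_center_iff]
    exact hzc
  have hZn : Z.Normal := by
    constructor
    intro a ha g
    have : g * a * g⁻¹ = a := by
      rw [Subgroup.mem_center_iff.mp (hZc ha) g]; group
    rw [this]; exact ha
  have hZcard : Nat.card Z = 2 := by rw [hZ, Nat.card_zpowers, hz]
  have hZS : Z ≤ S := by rw [hZ]; exact Subgroup.zpowers_le.mpr hzS
  have hZM : Z ⊓ M = ⊥ := by
    rw [eq_bot_iff, ← hinf]; exact inf_le_inf_right M hZS
  have hZMcomm : ∀ a ∈ Z, ∀ b ∈ M, a * b = b * a := fun a ha b hb => hcomm a (hZS ha) b hb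
  have hNn : (Z ⊔ M).Normal := Subgroup.sup_normal Z M
  have hNcard : Nat.card ↥(Z ⊔ M) = 2 * Nat.card M := by
    rw [card_sup_comm Z M hZMcomm hZM, hZcard]
  have hG₀card : Nat.card G₀ = 120 * Nat.card M := by
    rw [← hSM, card_sup_comm S M hcomm hinf, hD]
  have hNle : Z ⊔ M ≤ G₀ := sup_le (hZS.trans hSG₀) hMG₀
  have hSN : S ⊓ (Z ⊔ M) ≤ Z := by
    rintro g ⟨hgS, hgN⟩
    obtain ⟨a, ha, b, hb, rfl⟩ := mem_sup_comm Z M hZMcomm hgN
    have hbS : b ∈ S := by
      have : b = a⁻¹ * (a * b) := by group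
      rw [this]; exact S.mul_mem (S.inv_mem (hZS ha)) hgS
    have hb1 : b = 1 := by
      have : b ∈ S ⊓ M := ⟨hbS, hb⟩
      rwa [hinf, Subgroup.mem_bot] at this
    rw [hb1, mul_one]; exact ha
  refine ⟨Z ⊔ M, hNn, ?_, ?_⟩
  · -- the Sylow subgroups of `N` are cyclic
    intro p hp P
    have huniq : ∀ H K : Subgroup ↥(P : Subgroup ↥(Z ⊔ M)), Nat.card H = p → Nat.card K = p →
        H = K := by
      intro H K hH hK
      set Q : Subgroup G := (P : Subgroup ↥(Z ⊔ M)).map (Z ⊔ M).subtype with hQ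
      have hQp : IsPGroup p Q := P.2.map (Z ⊔ M).subtype
      let e' : ↥(P : Subgroup ↥(Z ⊔ M)) ≃* ↥Q :=
        (P : Subgroup ↥(Z ⊔ M)).equivMapOfInjective (Z ⊔ M).subtype (Z ⊔ M).subtype_injective
      have h1 : Nat.card (H.map e'.toMonoidHom) = p := by
        rw [Subgroup.card_map_of_injective e'.injective]; exact hH
      have h2 : Nat.card (K.map e'.toMonoidHom) = p := by
        rw [Subgroup.card_map_of_injective e'.injective]; exact hK
      have := hU p Q hQp _ _ h1 h2
      exact Subgroup.map_injective e'.injective this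
    rcases Cfsg.Agent.S0016.result (G := ↥(P : Subgroup ↥(Z ⊔ M))) p P.2 huniq with h | ⟨h2, -⟩
    · exact h
    · subst h2
      have hc : Nat.card (P : Subgroup ↥(Z ⊔ M)) = 2 := by
        rw [Sylow.card_eq_multiplicity, hNcard,
          Nat.factorization_mul (by norm_num) hMpos.ne', Finsupp.add_apply,
          Nat.Prime.factorization_self Nat.prime_two,
          Nat.factorization_eq_zero_of_not_dvd hModd]
        norm_num
      have : Fact (Nat.Prime 2) := ⟨Nat.prime_two⟩
      exact isCyclic_of_prime_card hc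
  · -- the quotient
    have hπs : Function.Surjective (QuotientGroup.mk' (Z ⊔ M)) :=
      QuotientGroup.mk'_surjective (Z ⊔ M)
    have hGcard : Nat.card G = (120 * Nat.card M) * G₀.index := by
      rw [← hG₀card]; exact (Subgroup.card_mul_index G₀).symm
    have hQmul : (2 * Nat.card M) * Nat.card (G ⧸ (Z ⊔ M)) = (120 * Nat.card M) * G₀.index := by
      rw [← hNcard, ← hGcard, ← Subgroup.index_eq_card]; exact Subgroup.card_mul_index (Z ⊔ M)
    have hQ : Nat.card (G ⧸ (Z ⊔ M)) = 60 * G₀.index := by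
      have h1 : Nat.card M * (2 * Nat.card (G ⧸ (Z ⊔ M))) = Nat.card M * (120 * G₀.index) := by
        calc Nat.card M * (2 * Nat.card (G ⧸ (Z ⊔ M)))
            = (2 * Nat.card M) * Nat.card (G ⧸ (Z ⊔ M)) := by ring
          _ = (120 * Nat.card M) * G₀.index := hQmul
          _ = Nat.card M * (120 * G₀.index) := by ring
      have h2 := Nat.eq_of_mul_eq_mul_left hMpos h1
      omega
    -- the kernel of the restriction of the projection to `S` is central
    have hkerS : ∀ {H : Type _} [Group H] (g : S →* H), (∀ s : S, g s = 1 → (s : G) ∈ Z ⊔ M) →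
        g.ker ≤ Subgroup.center S := by
      intro H _ g hg s hs
      have h1 : (s : G) ∈ Z := hSN ⟨s.2, hg s (MonoidHom.mem_ker.mp hs)⟩
      rw [Subgroup.mem_center_iff]
      intro t
      apply Subtype.ext
      exact Subgroup.mem_center_iff.mp (hZc h1) (t : G)
    rcases hidx with h1 | h2
    · left
      have hc60 : Nat.card (G ⧸ (Z ⊔ M)) = 60 := by rw [hQ, h1]
      have hnsQ : ¬ Group.IsSolvable (G ⧸ (Z ⊔ M)) := fun h =>
        hns (solvable_of_central_ker ((QuotientGroup.mk' (Z ⊔ M)).comp S.subtype)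
          (hkerS _ (fun s hs => (QuotientGroup.eq_one_iff (s : G)).mp hs)) h)
      have hsimple : IsSimpleGroup (G ⧸ (Z ⊔ M)) :=
        Cfsg.Agent.S3378.simple_of_card_sixty _ hc60 hnsQ
      obtain ⟨ε⟩ := Cfsg.Agent.S0494.result hc60
      refine ⟨ε.toMonoidHom.comp (QuotientGroup.mk' (Z ⊔ M)), ε.surjective.comp hπs, ?_⟩
      ext g
      rw [MonoidHom.mem_ker, MonoidHom.comp_apply]
      constructor
      · intro hg
        have : (QuotientGroup.mk' (Z ⊔ M)) g = 1 := ε.injective (hg.trans (map_one ε).symm)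
        exact (QuotientGroup.eq_one_iff g).mp this
      · intro hg
        have : (QuotientGroup.mk' (Z ⊔ M)) g = 1 := (QuotientGroup.eq_one_iff g).mpr hg
        rw [this]; exact map_one ε
    · right
      have hc120 : Nat.card (G ⧸ (Z ⊔ M)) = 120 := by rw [hQ, h2]
      have hAn : (G₀.map (QuotientGroup.mk' (Z ⊔ M))).Normal := hG₀.map _ hπs
      have hAidx : (G₀.map (QuotientGroup.mk' (Z ⊔ M))).index = 2 := by
        rw [Subgroup.index_map_eq G₀ hπs (by rw [QuotientGroup.ker_mk']; exact hNle), h2]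
      have hAcard : Nat.card ↥(G₀.map (QuotientGroup.mk' (Z ⊔ M))) = 60 := by
        have := Subgroup.card_mul_index (G₀.map (QuotientGroup.mk' (Z ⊔ M)))
        rw [hAidx, hc120] at this
        omega
      have hnsA : ¬ Group.IsSolvable ↥(G₀.map (QuotientGroup.mk' (Z ⊔ M))) := by
        intro h
        apply hns
        refine solvable_of_central_ker
          (((QuotientGroup.mk' (Z ⊔ M)).comp S.subtype).codRestrict
            (G₀.map (QuotientGroup.mk' (Z ⊔ M)))
            (fun s => Subgroup.mem_map_of_mem _ (hSG₀ s.2))) (hkerS _ ?_) h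
        intro s hs
        have : (QuotientGroup.mk' (Z ⊔ M)) (s : G) = 1 := congrArg Subtype.val hs
        exact (QuotientGroup.eq_one_iff (s : G)).mp this
      obtain ⟨ρ, hρ⟩ := exists_hom_perm_five (G₀.map (QuotientGroup.mk' (Z ⊔ M))) hAcard hnsA
      have hKN : ∀ k : G, ρ ((QuotientGroup.mk' (Z ⊔ M)) k) = 1 → k ∈ Z ⊔ M := by
        intro k hk
        have hcm : ∀ s ∈ S, k * s * k⁻¹ * s⁻¹ ∈ Subgroup.center G := by
          intro s hs
          apply hZc
          apply hSN
          constructor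
          · exact S.mul_mem (hSn.conj_mem s hs k) (S.inv_mem hs)
          · have h1 : (QuotientGroup.mk' (Z ⊔ M)) (k * s * k⁻¹ * s⁻¹) ∈
                ρ.ker ⊓ G₀.map (QuotientGroup.mk' (Z ⊔ M)) := by
              refine ⟨MonoidHom.mem_ker.mpr ?_, ?_⟩
              · simp only [map_mul, map_inv, hk]
                group
              · exact Subgroup.mem_map_of_mem _
                  (G₀.mul_mem (hG₀.conj_mem s (hSG₀ hs) k) (G₀.inv_mem (hSG₀ hs)))
            rw [hρ, Subgroup.mem_bot] at h1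
            exact (QuotientGroup.eq_one_iff _).mp h1
        have hkC : k ∈ Subgroup.centralizer (S : Set G) := by
          rw [Subgroup.mem_centralizer_iff]
          intro s hs
          exact (commute_of_comm_mem_center e k hcm s hs).symm
        obtain ⟨M', hM'C, hM'odd, hCM'⟩ := exists_odd_complement S hinv hD hns
        have hM'G₀ : M' ≤ G₀ := le_of_odd_of_index_two G₀ M' h2 hM'odd
        have hkG₀ : k ∈ G₀ := (sup_le hSG₀ hM'G₀) (hCM' hkC)
        have h1 : (QuotientGroup.mk' (Z ⊔ M)) k ∈ ρ.ker ⊓ G₀.map (QuotientGroup.mk' (Z ⊔ M)) :=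
          ⟨MonoidHom.mem_ker.mpr hk, Subgroup.mem_map_of_mem _ hkG₀⟩
        rw [hρ, Subgroup.mem_bot] at h1
        exact (QuotientGroup.eq_one_iff k).mp h1
      have hρinj : Function.Injective ρ := by
        rw [injective_iff_map_eq_one]
        intro x hx
        obtain ⟨k, rfl⟩ := hπs x
        exact (QuotientGroup.eq_one_iff k).mpr (hKN k hx)
      have hρbij : Function.Bijective ρ := by
        rw [Nat.bijective_iff_injective_and_card]
        refine ⟨hρinj, ?_⟩
        rw [hc120, Nat.card_eq_fintype_card, Fintype.card_perm, Fintype.card_fin]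
        rfl
      refine ⟨ρ.comp (QuotientGroup.mk' (Z ⊔ M)), hρbij.surjective.comp hπs, ?_⟩
      ext g
      rw [MonoidHom.mem_ker, MonoidHom.comp_apply]
      constructor
      · exact hKN g
      · intro hg
        have : (QuotientGroup.mk' (Z ⊔ M)) g = 1 := (QuotientGroup.eq_one_iff g).mpr hg
        rw [this]; exact map_one ρ

end Cfsg.Agent.Lib.Helper70.FC
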