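import Mathlib
import Cfsg.Agent.S0012
import Cfsg.Agent.S0013
import Cfsg.Agent.S0014

/-!
# Frattini index bounds for finite 2-groups (helper70)

`frattini_index_le_mul`: `|T : Φ(T)| ≤ |T/K : Φ(T/K)| * |K : Φ(K)|` for a normal subgroup `K` of a
finite `2`-group `T`  (i.e. `d(T) ≤ d(T/K) + d(K)`).
-/

set_option autoImplicit false

namespace Cfsg.Agent.Lib.Helper70.FrattiniIndex

open Subgroup
open scoped commutatorElement

variable {T : Type*} [Group T] [Finite T]

/-- `d(T) ≤ d(T/K) + d(K)` in index form. -/
theorem frattini_index_le_mul {p : ℕ} [Fact p.Prime] (hT : IsPGroup p T) (K : Subgroup T)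
    [K.Normal] :
    (frattini T).index ≤ (frattini (T ⧸ K)).index * (frattini ↥K).index := by
  classical
  set Φ := frattini T with hΦ
  have : Φ.Normal := Subgroup.normal_of_characteristic Φ
  obtain ⟨hcomm, hpow⟩ := Cfsg.Agent.S0012.result p hT
  -- (1) Frattini of the quotient
  have h1 : frattini (T ⧸ K) ≤ Φ.map (QuotientGroup.mk' K) := by
    have : (Φ.map (QuotientGroup.mk' K)).Normal :=
      Subgroup.Normal.map inferInstance _ (QuotientGroup.mk'_surjective K)
    refine Cfsg.Agent.S0013.result p (hT.to_quotient K) (Φ.map (QuotientGroup.mk' K)) ?_ ?_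
    · have : commutator (T ⧸ K) = (commutator T).map (QuotientGroup.mk' K) := by
        rw [commutator_def, commutator_def, Subgroup.map_commutator,
          Subgroup.map_top_of_surjective _ (QuotientGroup.mk'_surjective K)]
      rw [this]
      exact Subgroup.map_mono hcomm
    · intro x
      induction x using QuotientGroup.induction_on with
      | H g =>
        exact ⟨g ^ p, hpow g, by simp⟩
  -- (2) index of the image
  have h2 : (Φ.map (QuotientGroup.mk' K)).index = (Φ ⊔ K).index := by
    rw [Subgroup.index_map, QuotientGroup.ker_mk',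
      MonoidHom.range_eq_top.mpr (QuotientGroup.mk'_surjective K), Subgroup.index_top, mul_one]
  -- (3) Frattini of the subgroup
  have h3 : frattini ↥K ≤ Φ.subgroupOf K := by
    have : (Φ.subgroupOf K).Normal := Subgroup.Normal.subgroupOf inferInstance K
    refine Cfsg.Agent.S0013.result p (hT.to_subgroup K) (Φ.subgroupOf K) ?_ ?_
    · rw [commutator_def, Subgroup.commutator_le]
      intro x _ y _
      rw [Subgroup.mem_subgroupOf]
      apply hcomm
      rw [commutator_def]
      have : ((⁅x, y⁆ : ↥K) : T) = ⁅(x : T), (y : T)⁆ := by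
        simp [commutatorElement_def]
      rw [this]
      exact Subgroup.commutator_mem_commutator (Subgroup.mem_top _) (Subgroup.mem_top _)
    · intro x
      rw [Subgroup.mem_subgroupOf]
      simpa using hpow (x : T)
  -- assemble
  have e1 : Φ.index = Φ.relIndex K * (Φ ⊔ K).index := by
    have := Subgroup.relIndex_mul_index (H := Φ) (K := Φ ⊔ K) le_sup_left
    rw [← this, sup_comm, Subgroup.relIndex_sup_right]
  have e2 : (Φ ⊔ K).index ≤ (frattini (T ⧸ K)).index := by
    rw [← h2]
    exact Nat.le_of_dvd (Nat.pos_of_ne_zero Subgroup.index_ne_zero_of_finite)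
      (Subgroup.index_dvd_of_le h1)
  have e3 : Φ.relIndex K ≤ (frattini ↥K).index := by
    have : Φ.relIndex K = (Φ.subgroupOf K).index := rfl
    rw [this]
    exact Nat.le_of_dvd (Nat.pos_of_ne_zero Subgroup.index_ne_zero_of_finite)
      (Subgroup.index_dvd_of_le h3)
  rw [e1, mul_comm]
  exact Nat.mul_le_mul e2 e3

/-- `d(T) ≤ 1 + d(M)` for a subgroup of index `2`. -/
theorem frattini_index_le_two_mul (hT : IsPGroup 2 T) (M : Subgroup T) (hM : M.index = 2) :
    (frattini T).index ≤ 2 * (frattini ↥M).index := by
  have : Fact (Nat.Prime 2) := ⟨Nat.prime_two⟩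
  have : M.Normal := Subgroup.normal_of_index_eq_two hM
  refine le_trans (frattini_index_le_mul hT M) ?_
  refine Nat.mul_le_mul_right _ ?_
  have h1 : (frattini (T ⧸ M)).index ∣ Nat.card (T ⧸ M) := Subgroup.index_dvd_card _
  have h2 : Nat.card (T ⧸ M) = 2 := by rw [← Subgroup.index_eq_card, hM]
  rw [h2] at h1
  exact Nat.le_of_dvd (by norm_num) h1

/-- A finite `2`-group generated by a set with at most `m` elements has `|T : Φ(T)| ≤ 2 ^ m`. -/
theorem frattini_index_le_of_closure (hT : IsPGroup 2 T) (S : Finset T) (m : ℕ)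
    (hS : S.card ≤ m) (hgen : Subgroup.closure (S : Set T) = ⊤) :
    (frattini T).index ≤ 2 ^ m := by
  have : Fact (Nat.Prime 2) := ⟨Nat.prime_two⟩
  obtain ⟨n', hn'⟩ := hT.index (frattini T)
  have hle := (Cfsg.Agent.S0014.result 2 n' hT hn').2 S hgen
  rw [hn']
  exact Nat.pow_le_pow_right (by norm_num) (le_trans hle hS)

/-- A cyclic finite `2`-group has `|T : Φ(T)| ≤ 2`. -/
theorem frattini_index_le_two_of_isCyclic (hT : IsPGroup 2 T) [IsCyclic T] :
    (frattini T).index ≤ 2 := by
  classical
  obtain ⟨c, hc⟩ := IsCyclic.exists_generator (α := T)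
  have := frattini_index_le_of_closure hT {c} 1 (by simp) (by
    rw [Finset.coe_singleton, ← Subgroup.zpowers_eq_closure]
    exact top_unique fun y _ => hc y)
  simpa using this

/-- A finite `2`-group with a cyclic subgroup of index at most `2` has `|T : Φ(T)| ≤ 4`. -/
theorem frattini_index_le_four_of_cyclic_index (hT : IsPGroup 2 T) (C : Subgroup T)
    [IsCyclic ↥C] (hidx : C.index ≤ 2) : (frattini T).index ≤ 4 := by
  classical
  obtain ⟨c, hc⟩ := IsCyclic.exists_generator (α := ↥C)
  have hCeq : C = Subgroup.zpowers (c : T) := by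
    apply le_antisymm
    · intro y hy
      obtain ⟨k, hk⟩ := Subgroup.mem_zpowers_iff.mp (hc ⟨y, hy⟩)
      refine Subgroup.mem_zpowers_iff.mpr ⟨k, ?_⟩
      have := congrArg Subtype.val hk
      simpa using this
    · exact Subgroup.zpowers_le.mpr c.2
  have hidx0 : C.index ≠ 0 := Subgroup.index_ne_zero_of_finite
  by_cases h1 : C = ⊤
  · have := frattini_index_le_of_closure hT {(c : T)} 2 (by simp) (by
      rw [Finset.coe_singleton, ← Subgroup.zpowers_eq_closure, ← hCeq, h1])
    simpa using this
  · obtain ⟨y, hy⟩ : ∃ y : T, y ∉ C := by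
      by_contra hcon
      push Not at hcon
      exact h1 (top_unique fun y _ => hcon y)
    have hC2 : C.index = 2 := by
      have : C.index ≠ 1 := fun h => h1 (Subgroup.index_eq_one.mp h)
      omega
    have := frattini_index_le_of_closure hT {(c : T), y} 2 Finset.card_le_two (by
      set K := Subgroup.closure ((({(c : T), y} : Finset T)) : Set T) with hK
      have hcK : (c : T) ∈ K := Subgroup.subset_closure (by simp)
      have hyK : y ∈ K := Subgroup.subset_closure (by simp)
      have hle : C ≤ K := by rw [hCeq]; exact Subgroup.zpowers_le.mpr hcK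
      have hrel : C.relIndex K ≠ 1 := by
        rw [Ne, Subgroup.relIndex_eq_one]
        intro h; exact hy (h hyK)
      have hmul := Subgroup.relIndex_mul_index hle
      rw [hC2] at hmul
      have hd : C.relIndex K ∣ 2 := Dvd.intro _ hmul
      have h3 : C.relIndex K = 1 ∨ C.relIndex K = 2 := (Nat.dvd_prime Nat.prime_two).mp hd
      rcases h3 with h3 | h3
      · exact absurd h3 hrel
      · rw [h3] at hmul
        have : K.index = 1 := by omega
        exact Subgroup.index_eq_one.mp this)
    simpa using this

end Cfsg.Agent.Lib.Helper70.FrattiniIndex
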