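import Mathlib
import Cfsg.Agent.S0016
import Cfsg.Agent.S0519
import Cfsg.Agent.S0184

/-!
# A dichotomy for finite 2-groups (helper70)

A finite `2`-group either has a cyclic subgroup of index at most `2`, or it has a central
involution `z` and a non-central-looking involution `a` all of whose conjugates lie in `{a, z a}`
(i.e. `⟨a, z⟩` is a normal four-group).  Built on S0016 (unique subgroup of order `p`) and S0519
(all normal abelian subgroups cyclic).
-/

set_option autoImplicit false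

namespace Cfsg.Agent.Lib.Helper70.TwoGroupDichotomy

open Subgroup

variable {T : Type*} [Group T]

/-- elements of `⟨z⟩` for an involution `z` -/
lemma eq_one_or_eq_of_mem_zpowers {z x : T} (hz : z * z = 1) (hx : x ∈ Subgroup.zpowers z) :
    x = 1 ∨ x = z := by
  obtain ⟨i, rfl⟩ := Subgroup.mem_zpowers_iff.mp hx
  have hz2 : z ^ (2 : ℤ) = 1 := by
    rw [zpow_ofNat, pow_two]; exact hz
  have hi : i = i % 2 + 2 * (i / 2) := (Int.emod_add_mul_ediv i 2).symm
  rw [hi, zpow_add, zpow_mul, hz2, one_zpow, mul_one]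
  rcases Int.emod_two_eq_zero_or_one i with h | h
  · left; rw [h, zpow_zero]
  · right; rw [h, zpow_one]

/-- an element `x` with `2 * orderOf x = |T|` generates a cyclic subgroup of index two -/
lemma exists_cyclic_of_orderOf [Finite T] (x : T) (hx : 2 * orderOf x = Nat.card T) :
    ∃ C : Subgroup T, IsCyclic C ∧ C.index ≤ 2 := by
  refine ⟨Subgroup.zpowers x, inferInstance, ?_⟩
  have h := Subgroup.card_mul_index (Subgroup.zpowers x)
  rw [Nat.card_zpowers, ← hx] at h
  have hpos : 0 < orderOf x := orderOf_pos x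
  have : (Subgroup.zpowers x).index = 2 := by
    have h' : orderOf x * (Subgroup.zpowers x).index = orderOf x * 2 := by rw [h]; ring
    exact Nat.eq_of_mul_eq_mul_left hpos h'
  omega

lemma exists_cyclic_of_quaternion [Finite T] {n : ℕ} (e : T ≃* QuaternionGroup n) :
    ∃ C : Subgroup T, IsCyclic C ∧ C.index ≤ 2 := by
  have hord : orderOf (e.symm (QuaternionGroup.a 1)) = 2 * n := by
    rw [MulEquiv.orderOf_eq, QuaternionGroup.orderOf_a_one]
  have hn : n ≠ 0 := by
    intro h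
    have := orderOf_pos (e.symm (QuaternionGroup.a 1))
    rw [hord, h] at this
    omega
  have : NeZero n := ⟨hn⟩
  apply exists_cyclic_of_orderOf (e.symm (QuaternionGroup.a 1))
  rw [hord, Nat.card_congr e.toEquiv, Nat.card_eq_fintype_card, QuaternionGroup.card]
  ring

lemma exists_cyclic_of_dihedral [Finite T] {n : ℕ} (e : T ≃* DihedralGroup n) :
    ∃ C : Subgroup T, IsCyclic C ∧ C.index ≤ 2 := by
  have hord : orderOf (e.symm (DihedralGroup.r 1)) = n := by
    rw [MulEquiv.orderOf_eq, DihedralGroup.orderOf_r_one]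
  apply exists_cyclic_of_orderOf (e.symm (DihedralGroup.r 1))
  rw [hord, Nat.card_congr e.toEquiv, DihedralGroup.nat_card]

/-- two distinct involutions from two distinct subgroups of order two -/
lemma exists_two_involutions {G : Type*} [Group G] [Finite G]
    (h : ¬ Cfsg.Agent.S0016.Uniq 2 G) :
    ∃ x y : G, x ≠ 1 ∧ y ≠ 1 ∧ x ≠ y ∧ x * x = 1 ∧ y * y = 1 := by
  unfold Cfsg.Agent.S0016.Uniq at h
  push Not at h
  obtain ⟨H, K, hH, hK, hHK⟩ := h
  have hsq : ∀ L : Subgroup G, Nat.card L = 2 → ∀ x ∈ L, x * x = 1 := by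
    intro L hL x hx
    have := pow_card_eq_one' (G := L) (x := ⟨x, hx⟩)
    rw [hL] at this
    have := congrArg Subtype.val this
    simpa [pow_two] using this
  obtain ⟨x, hxH, hxK⟩ : ∃ x ∈ H, x ∉ K := by
    by_contra hcon
    push Not at hcon
    exact hHK (Subgroup.eq_of_le_of_card_ge hcon (by rw [hH, hK]))
  have hKne : K ≠ ⊥ := by
    rw [← Subgroup.one_lt_card_iff_ne_bot, hK]; norm_num
  obtain ⟨⟨y, hyK⟩, hy1⟩ := (Subgroup.ne_bot_iff_exists_ne_one).mp hKne
  refine ⟨x, y, ?_, ?_, ?_, hsq H hH x hxH, hsq K hK y hyK⟩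
  · intro h; exact hxK (h ▸ K.one_mem)
  · intro h; exact hy1 (Subtype.ext h)
  · intro h; exact hxK (h ▸ hyK)

variable [Finite T]

/-- a central involution -/
lemma exists_central_involution [Nontrivial T] (hT : IsPGroup 2 T) :
    ∃ z : T, z ≠ 1 ∧ z * z = 1 ∧ ∀ g, g * z = z * g := by
  have : Fact (Nat.Prime 2) := ⟨Nat.prime_two⟩
  have hnt : Nontrivial (Subgroup.center T) := hT.center_nontrivial
  obtain ⟨n, hn0, hcard⟩ := (hT.to_subgroup (Subgroup.center T)).nontrivial_iff_card.mp hnt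
  have hdvd : 2 ∣ Nat.card (Subgroup.center T) := by
    rw [hcard]; exact dvd_pow_self 2 (by omega)
  obtain ⟨x, hx⟩ := exists_prime_orderOf_dvd_card' 2 hdvd
  refine ⟨(x : T), ?_, ?_, ?_⟩
  · intro h
    have : x = 1 := Subtype.ext h
    rw [this, orderOf_one] at hx
    omega
  · have := pow_orderOf_eq_one x
    rw [hx] at this
    have := congrArg Subtype.val this
    simpa [pow_two] using this
  · exact Subgroup.mem_center_iff.mp x.2

/-- Step 1: without a cyclic subgroup of index at most two there is a noncyclic normal abelian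
subgroup. -/
theorem exists_normal_abelian_noncyclic (hT : IsPGroup 2 T)
    (hcyc : ¬ ∃ C : Subgroup T, IsCyclic C ∧ C.index ≤ 2) :
    ∃ A : Subgroup T, A.Normal ∧ IsMulCommutative A ∧ ¬ IsCyclic A := by
  have : Fact (Nat.Prime 2) := ⟨Nat.prime_two⟩
  by_contra hcon
  push Not at hcon
  have hn : ∀ A : Subgroup T, A.Normal → IsMulCommutative A → IsCyclic A := hcon
  by_cases hu : Cfsg.Agent.S0016.Uniq 2 T
  · rcases Cfsg.Agent.S0016.result 2 hT hu with h | ⟨-, n, ⟨e⟩⟩
    · apply hcyc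
      refine ⟨⊤, (MulEquiv.isCyclic Subgroup.topEquiv).mpr h, ?_⟩
      rw [Subgroup.index_top]; norm_num
    · exact hcyc (exists_cyclic_of_quaternion e)
  · obtain ⟨h, k, hh1, hk1, hhk, hh2, hk2⟩ := exists_two_involutions hu
    have : Nontrivial T := ⟨⟨h, 1, hh1⟩⟩
    obtain ⟨z, hz1, hz2, hzc⟩ := exists_central_involution hT
    obtain ⟨a, ha1, ha2, haz⟩ : ∃ a : T, a ≠ 1 ∧ a * a = 1 ∧ a ≠ z := by
      by_cases hhz : h = z
      · exact ⟨k, hk1, hk2, fun hkz => hhk (hhz.trans hkz.symm)⟩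
      · exact ⟨h, hh1, hh2, hhz⟩
    have hm : ∃ B : Subgroup T, IsMulCommutative B ∧ ¬ IsCyclic B := by
      refine ⟨Subgroup.closure {a, z}, ?_, ?_⟩
      · apply Subgroup.isMulCommutative_closure
        intro x hx y hy
        rcases hx with rfl | rfl <;> rcases hy with rfl | rfl
        · rfl
        · exact hzc x
        · exact (hzc y).symm
        · rfl
      · intro hc
        set B := Subgroup.closure ({a, z} : Set T) with hB
        have haB : a ∈ B := Subgroup.subset_closure (by simp)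
        have hzB : z ∈ B := Subgroup.subset_closure (by simp)
        have hleA : Subgroup.zpowers a ≤ B := Subgroup.zpowers_le.mpr haB
        have hleZ : Subgroup.zpowers z ≤ B := Subgroup.zpowers_le.mpr hzB
        have horda : orderOf a = 2 := orderOf_eq_prime (by rw [pow_two]; exact ha2) ha1
        have hordz : orderOf z = 2 := orderOf_eq_prime (by rw [pow_two]; exact hz2) hz1
        have hc1 : Nat.card ((Subgroup.zpowers a).subgroupOf B) = 2 := by
          rw [Nat.card_congr (Subgroup.subgroupOfEquivOfLe hleA).toEquiv, Nat.card_zpowers, horda]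
        have hc2 : Nat.card ((Subgroup.zpowers z).subgroupOf B) = 2 := by
          rw [Nat.card_congr (Subgroup.subgroupOfEquivOfLe hleZ).toEquiv, Nat.card_zpowers, hordz]
        have heq := Cfsg.Agent.S0519.subgroup_eq_of_card_eq
          ((Subgroup.zpowers a).subgroupOf B) ((Subgroup.zpowers z).subgroupOf B)
          (hc1.trans hc2.symm)
        have : (⟨a, haB⟩ : B) ∈ (Subgroup.zpowers z).subgroupOf B := by
          rw [← heq, Subgroup.mem_subgroupOf]
          exact Subgroup.mem_zpowers a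
        rw [Subgroup.mem_subgroupOf] at this
        rcases eq_one_or_eq_of_mem_zpowers hz2 this with h | h
        · exact ha1 h
        · exact haz h
    obtain ⟨-, hres⟩ := Cfsg.Agent.S0519.result 2 hT hn hm
    rcases hres with ⟨n, ⟨e⟩⟩ | ⟨n, -, ⟨e⟩⟩ | ⟨n, -, hcard, x, y, hx, -, -⟩
    · exact hcyc (exists_cyclic_of_quaternion e)
    · exact hcyc (exists_cyclic_of_dihedral e)
    · apply hcyc
      apply exists_cyclic_of_orderOf x
      rw [hx, hcard, pow_succ]; ring

/-- the subgroup of elements of order dividing two in a commutative subgroup -/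
def omegaSub (A : Subgroup T) (hA : ∀ x ∈ A, ∀ y ∈ A, x * y = y * x) : Subgroup T where
  carrier := {x | x ∈ A ∧ x * x = 1}
  mul_mem' := by
    rintro x y ⟨hx, hx2⟩ ⟨hy, hy2⟩
    refine ⟨A.mul_mem hx hy, ?_⟩
    calc x * y * (x * y) = x * (y * x) * y := by group
      _ = x * (x * y) * y := by rw [hA y hy x hx]
      _ = (x * x) * (y * y) := by group
      _ = 1 := by rw [hx2, hy2, one_mul]
  one_mem' := ⟨A.one_mem, one_mul 1⟩
  inv_mem' := by
    rintro x ⟨hx, hx2⟩
    refine ⟨A.inv_mem hx, ?_⟩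
    rw [← mul_inv_rev, hx2, inv_one]

lemma mem_omegaSub {A : Subgroup T} {hA : ∀ x ∈ A, ∀ y ∈ A, x * y = y * x} {x : T} :
    x ∈ omegaSub A hA ↔ x ∈ A ∧ x * x = 1 := Iff.rfl

/-- Step 2: a noncyclic normal abelian subgroup yields a normal four-group `{1, z, a, z a}` with
`z` central. -/
theorem exists_four_group_data (hT : IsPGroup 2 T) (A : Subgroup T) (hAn : A.Normal)
    (hAc : IsMulCommutative A) (hnc : ¬ IsCyclic A) :
    ∃ z a : T, z ≠ 1 ∧ z * z = 1 ∧ (∀ g, g * z = z * g) ∧ a * a = 1 ∧ a ≠ 1 ∧ a ≠ z ∧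
      ∀ g, g * a * g⁻¹ = a ∨ g * a * g⁻¹ = z * a := by
  classical
  have : Fact (Nat.Prime 2) := ⟨Nat.prime_two⟩
  have hA : ∀ x ∈ A, ∀ y ∈ A, x * y = y * x := by
    intro x hx y hy
    have := hAc.is_comm.comm (⟨x, hx⟩ : A) ⟨y, hy⟩
    exact congrArg Subtype.val this
  -- two distinct involutions in `A`
  have hnu : ¬ Cfsg.Agent.S0016.Uniq 2 A := by
    intro hu
    apply hnc
    let _ : CommGroup A := { (inferInstance : Group A) with mul_comm := hAc.is_comm.comm }
    exact Cfsg.Agent.S0016.isCyclic_of_comm 2 (hT.to_subgroup A) hu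
  obtain ⟨x, y, hx1, hy1, hxy, hx2, hy2⟩ := exists_two_involutions hnu
  set Ω := omegaSub A hA with hΩ
  have hxΩ : (x : T) ∈ Ω := ⟨x.2, by simpa using congrArg Subtype.val hx2⟩
  have hyΩ : (y : T) ∈ Ω := ⟨y.2, by simpa using congrArg Subtype.val hy2⟩
  have hΩn : Ω.Normal := by
    constructor
    rintro n ⟨hn, hn2⟩ g
    refine ⟨hAn.conj_mem n hn g, ?_⟩
    calc g * n * g⁻¹ * (g * n * g⁻¹) = g * (n * n) * g⁻¹ := by group
      _ = 1 := by rw [hn2]; group
  have hΩne : Ω ≠ ⊥ := by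
    intro h
    have := h ▸ hxΩ
    rw [Subgroup.mem_bot] at this
    exact hx1 (Subtype.ext this)
  obtain ⟨z, hzΩ, hz1, hzc⟩ := Cfsg.Agent.S0184.normal_inf_center_ne_bot hT Ω hΩne
  have hz2 : z * z = 1 := hzΩ.2
  -- the quotient by `⟨z⟩`
  have hZn : (Subgroup.zpowers z).Normal :=
    Cfsg.Agent.S0016.zpowers_normal_of_mem_center (Subgroup.mem_center_iff.mpr hzc)
  set π := QuotientGroup.mk' (Subgroup.zpowers z) with hπ
  have hΩbar_n : (Ω.map π).Normal := hΩn.map π (QuotientGroup.mk'_surjective _)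
  -- an element of `Ω` outside `⟨z⟩`
  obtain ⟨a0, ha0Ω, ha0Z⟩ : ∃ a0 ∈ Ω, a0 ∉ Subgroup.zpowers z := by
    by_cases hxz : (x : T) ∈ Subgroup.zpowers z
    · refine ⟨(y : T), hyΩ, ?_⟩
      intro hyz
      rcases eq_one_or_eq_of_mem_zpowers hz2 hxz with h | h
      · exact hx1 (Subtype.ext h)
      · rcases eq_one_or_eq_of_mem_zpowers hz2 hyz with h' | h'
        · exact hy1 (Subtype.ext h')
        · exact hxy (Subtype.ext (h.trans h'.symm))
    · exact ⟨(x : T), hxΩ, hxz⟩
  have hΩbar_ne : Ω.map π ≠ ⊥ := by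
    intro h
    have : π a0 ∈ Ω.map π := Subgroup.mem_map_of_mem π ha0Ω
    rw [h, Subgroup.mem_bot] at this
    exact ha0Z ((QuotientGroup.eq_one_iff a0).mp this)
  obtain ⟨w, hwΩ, hw1, hwc⟩ :=
    Cfsg.Agent.S0184.normal_inf_center_ne_bot (hT.to_quotient (Subgroup.zpowers z)) (Ω.map π)
      hΩbar_ne
  obtain ⟨a, haΩ, rfl⟩ := Subgroup.mem_map.mp hwΩ
  have haZ : a ∉ Subgroup.zpowers z := fun h => hw1 ((QuotientGroup.eq_one_iff a).mpr h)
  refine ⟨z, a, hz1, hz2, hzc, haΩ.2, ?_, ?_, ?_⟩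
  · intro h; exact haZ (h ▸ (Subgroup.zpowers z).one_mem)
  · intro h; exact haZ (h ▸ Subgroup.mem_zpowers z)
  · intro g
    have h1 : π (g * a * g⁻¹ * a⁻¹) = 1 := by
      rw [map_mul, map_mul, map_mul, map_inv, map_inv, hwc (π g)]
      group
    have h2 : g * a * g⁻¹ * a⁻¹ ∈ Subgroup.zpowers z := (QuotientGroup.eq_one_iff _).mp h1
    rcases eq_one_or_eq_of_mem_zpowers hz2 h2 with h | h
    · left
      calc g * a * g⁻¹ = g * a * g⁻¹ * a⁻¹ * a := by group
        _ = a := by rw [h, one_mul]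
    · right
      calc g * a * g⁻¹ = g * a * g⁻¹ * a⁻¹ * a := by group
        _ = z * a := by rw [h]

/-- The dichotomy. -/
theorem cyclic_or_four_group (hT : IsPGroup 2 T) :
    (∃ C : Subgroup T, IsCyclic C ∧ C.index ≤ 2) ∨
    ∃ z a : T, z ≠ 1 ∧ z * z = 1 ∧ (∀ g, g * z = z * g) ∧ a * a = 1 ∧ a ≠ 1 ∧ a ≠ z ∧
      ∀ g, g * a * g⁻¹ = a ∨ g * a * g⁻¹ = z * a := by
  by_cases hcyc : ∃ C : Subgroup T, IsCyclic C ∧ C.index ≤ 2
  · exact Or.inl hcyc
  · right
    obtain ⟨A, hAn, hAc, hnc⟩ := exists_normal_abelian_noncyclic hT hcyc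
    exact exists_four_group_data hT A hAn hAc hnc

end Cfsg.Agent.Lib.Helper70.TwoGroupDichotomy
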