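import Mathlib
import Cfsg.Agent.Lib.Helper70.FrattiniIndex
import Cfsg.Agent.Lib.Helper70.TwoGroupDichotomy

/-!
# Number of generators of a linear 2-group in odd characteristic (helper70)

For a finite `2`-group `T` acting faithfully on a finite `ZMod q`-vector space `V` (`q` an odd
prime) of dimension `n`:  `|T : Φ(T)| ≤ 2 ^ Dq q n` where `Dq q n = 2n - 1` (`q ≥ 5`) and
`Dq 3 n = ⌊3n/2⌋ - 1` (`n ≥ 2`), `Dq 3 1 = 1`.  (Isaacs-type bound, by induction on `n`.)
-/

set_option autoImplicit false

namespace Cfsg.Agent.Lib.Helper70.FratRep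

open Subgroup Cfsg.Agent.Lib.Helper70.FrattiniIndex Cfsg.Agent.Lib.Helper70.TwoGroupDichotomy

universe u v

/-- the exponent bound -/
def Dq (q n : ℕ) : ℕ := if q = 3 then (if n ≤ 1 then n else 3 * n / 2 - 1) else 2 * n - 1

/-- the statement proved by induction on `n` -/
def BoundAt (q : ℕ) [Fact q.Prime] (n : ℕ) : Prop :=
  ∀ (T : Type u) [Group T] [Finite T] (V : Type v) [AddCommGroup V] [Module (ZMod q) V] [Finite V]
    (ρ : Representation (ZMod q) T V), Function.Injective ρ → IsPGroup 2 T →
    Module.finrank (ZMod q) V = n → (frattini T).index ≤ 2 ^ Dq q n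

section

variable {q : ℕ} [hq : Fact q.Prime]
variable {T : Type u} [Group T] {V : Type v} [AddCommGroup V] [Module (ZMod q) V]

omit hq in
lemma two_pow_ne_zero [Fact q.Prime] (hq2 : q ≠ 2) (m : ℕ) : ((2 ^ m : ℕ) : ZMod q) ≠ 0 := by
  intro h
  rw [ZMod.natCast_eq_zero_iff] at h
  have h2 : q ∣ 2 := (Fact.out : q.Prime).dvd_of_dvd_pow h
  exact hq2 ((Nat.prime_dvd_prime_iff_eq Fact.out Nat.prime_two).mp h2)

/-- an element of `2`-power order acting trivially on `W` and on `V/W` acts trivially. -/
lemma rho_eq_one_of_unipotent (ρ : Representation (ZMod q) T V) (hq2 : q ≠ 2)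
    (hT : IsPGroup 2 T) (W : Submodule (ZMod q) V) (x : T) (h1 : ∀ w ∈ W, ρ x w = w)
    (h2 : ∀ v, ρ x v - v ∈ W) : ρ x = 1 := by
  obtain ⟨m, hm⟩ := hT x
  have key : ∀ j : ℕ, ∀ v, (ρ x ^ j) v = v + j • (ρ x v - v) := by
    intro j
    induction j with
    | zero => intro v; simp
    | succ j ih =>
      intro v
      rw [pow_succ', Module.End.mul_apply, ih v, map_add, map_nsmul, h1 _ (h2 v)]
      rw [succ_nsmul]
      abel
  have hp : ρ x ^ (2 ^ m) = 1 := by rw [← map_pow, hm, map_one]
  ext v
  have := key (2 ^ m) v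
  rw [hp, Module.End.one_apply] at this
  have h0 : (2 ^ m) • (ρ x v - v) = 0 := by
    have h' : v + 0 = v + (2 ^ m) • (ρ x v - v) := by rw [add_zero]; exact this
    exact (add_left_cancel h').symm
  rw [← Nat.cast_smul_eq_nsmul (ZMod q)] at h0
  rcases smul_eq_zero.mp h0 with h | h
  · exact absurd h (two_pow_ne_zero hq2 m)
  · rw [Module.End.one_apply]
    exact sub_eq_zero.mp h

section pieces

variable (ρ : Representation (ZMod q) T V) (W : Submodule (ZMod q) V)
  (hW : ∀ g, W ≤ W.comap (ρ g))

/-- the kernel of the action on the invariant subspace `W` -/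
def subKer : Subgroup T := (ρ.subrepresentation W hW).ker

instance subKer_normal : (subKer ρ W hW).Normal := MonoidHom.normal_ker _

lemma mem_subKer_iff (x : T) : x ∈ subKer ρ W hW ↔ ∀ w ∈ W, ρ x w = w := by
  unfold subKer
  rw [MonoidHom.mem_ker]
  constructor
  · intro h w hw
    have := congrArg (fun f => ((f ⟨w, hw⟩ : W) : V)) h
    simpa using this
  · intro h
    ext ⟨w, hw⟩
    simpa using h w hw

/-- the induced faithful action of `T / K` on `W` -/
def sigma : T ⧸ subKer ρ W hW →* Module.End (ZMod q) W :=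
  QuotientGroup.lift (subKer ρ W hW) (ρ.subrepresentation W hW)
    (show subKer ρ W hW ≤ (ρ.subrepresentation W hW).ker from le_rfl)

lemma sigma_injective : Function.Injective (sigma ρ W hW) := by
  intro a b
  induction a using QuotientGroup.induction_on with
  | H a =>
    induction b using QuotientGroup.induction_on with
    | H b =>
      intro h
      have h : (ρ.subrepresentation W hW) a = (ρ.subrepresentation W hW) b := h
      rw [QuotientGroup.eq]
      show a⁻¹ * b ∈ (ρ.subrepresentation W hW).ker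
      rw [MonoidHom.mem_ker, map_mul, ← h, ← map_mul, inv_mul_cancel, map_one]

/-- the action of the kernel `K` on `V / W` -/
def tau : ↥(subKer ρ W hW) →* Module.End (ZMod q) (V ⧸ W) :=
  (ρ.quotient W hW).comp (subKer ρ W hW).subtype

lemma tau_injective (hinj : Function.Injective ρ) (hq2 : q ≠ 2) (hT : IsPGroup 2 T) :
    Function.Injective (tau ρ W hW) := by
  rw [injective_iff_map_eq_one]
  intro x hx
  have h1 : ∀ w ∈ W, ρ (x : T) w = w := (mem_subKer_iff ρ W hW x).mp x.2
  have h2 : ∀ v, ρ (x : T) v - v ∈ W := by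
    intro v
    have := congrArg (fun f => f (Submodule.Quotient.mk v)) hx
    simp only [tau, MonoidHom.comp_apply, Subgroup.coe_subtype, Representation.quotient_apply,
      Submodule.mapQ_apply, Module.End.one_apply] at this
    exact (Submodule.Quotient.eq W).mp this
  have h3 := rho_eq_one_of_unipotent ρ hq2 hT W (x : T) h1 h2
  have h4 : (x : T) = 1 := hinj (by rw [h3, map_one])
  exact Subtype.ext h4

end pieces


/-- the reducible step: `d(T) ≤ d(T/K) + d(K)` with both pieces acting faithfully on smaller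
spaces -/
theorem reducible_step [Finite T] [Finite V] (hq2 : q ≠ 2) {n : ℕ}
    (IH : ∀ m < n, BoundAt.{u, v} q m)
    (ρ : Representation (ZMod q) T V) (hinj : Function.Injective ρ) (hT : IsPGroup 2 T)
    (hn : Module.finrank (ZMod q) V = n) (W : Submodule (ZMod q) V)
    (hW : ∀ g, W ≤ W.comap (ρ g)) (hW0 : W ≠ ⊥) (hW1 : W ≠ ⊤) :
    (frattini T).index ≤ 2 ^ Dq q (Module.finrank (ZMod q) W) *
      2 ^ Dq q (Module.finrank (ZMod q) (V ⧸ W)) := by
  have : Fact (Nat.Prime 2) := ⟨Nat.prime_two⟩
  have : Finite (V ⧸ W) := Finite.of_surjective _ (Submodule.mkQ_surjective W)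
  have hlt1 : Module.finrank (ZMod q) W < n := hn ▸ Submodule.finrank_lt hW1
  have hsum := Submodule.finrank_quotient_add_finrank W
  have hpos : 1 ≤ Module.finrank (ZMod q) W := Submodule.one_le_finrank_iff.mpr hW0
  have hlt2 : Module.finrank (ZMod q) (V ⧸ W) < n := by omega
  have b1 := IH _ hlt1 (T ⧸ subKer ρ W hW) W (sigma ρ W hW) (sigma_injective ρ W hW)
    (hT.to_quotient _) rfl
  have b2 := IH _ hlt2 (↥(subKer ρ W hW)) (V ⧸ W) (tau ρ W hW)
    (tau_injective ρ W hW hinj hq2 hT) (hT.to_subgroup _) rfl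
  exact le_trans (frattini_index_le_mul hT _) (Nat.mul_le_mul b1 b2)

/-- irreducibility -/
def Irr (ρ : Representation (ZMod q) T V) : Prop :=
  ∀ W : Submodule (ZMod q) V, (∀ g, W ≤ W.comap (ρ g)) → W = ⊥ ∨ W = ⊤

/-- a central involution of an irreducible faithful group acts as `-1`. -/
lemma central_involution_neg (ρ : Representation (ZMod q) T V) (hinj : Function.Injective ρ)
    (hirr : Irr ρ) (z : T) (hzc : ∀ g, g * z = z * g) (hz2 : z * z = 1) (hz1 : z ≠ 1) :
    ∀ v, ρ z v = -v := by
  set W : Submodule (ZMod q) V := LinearMap.ker (ρ z - 1) with hWdef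
  have hmem : ∀ v, v ∈ W ↔ ρ z v = v := by
    intro v
    rw [hWdef, LinearMap.mem_ker, LinearMap.sub_apply, Module.End.one_apply, sub_eq_zero]
  have hinv : ∀ g, W ≤ W.comap (ρ g) := by
    intro g v hv
    rw [Submodule.mem_comap, hmem]
    rw [hmem] at hv
    calc ρ z (ρ g v) = (ρ z * ρ g) v := rfl
      _ = ρ (z * g) v := by rw [map_mul]
      _ = ρ (g * z) v := by rw [hzc g]
      _ = (ρ g * ρ z) v := by rw [map_mul]
      _ = ρ g (ρ z v) := rfl
      _ = ρ g v := by rw [hv]
  rcases hirr W hinv with h | h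
  · intro v
    have hu : v + ρ z v ∈ W := by
      rw [hmem, map_add]
      have : ρ z (ρ z v) = v := by
        calc ρ z (ρ z v) = (ρ z * ρ z) v := rfl
          _ = ρ (z * z) v := by rw [map_mul]
          _ = v := by rw [hz2, map_one, Module.End.one_apply]
      rw [this, add_comm]
    rw [h, Submodule.mem_bot] at hu
    exact (neg_eq_of_add_eq_zero_right hu).symm
  · exfalso
    apply hz1
    apply hinj
    rw [map_one]
    ext v
    rw [Module.End.one_apply]
    exact (hmem v).mp (h ▸ Submodule.mem_top)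

/-- an irreducible faithful `2`-group with trivial Frattini subgroup has order at most `2`. -/
lemma card_le_two_of_frattini_eq_bot [Finite T] (ρ : Representation (ZMod q) T V)
    (hinj : Function.Injective ρ) (hirr : Irr ρ) (hT : IsPGroup 2 T) (hΦ : frattini T = ⊥) :
    Nat.card T ≤ 2 := by
  classical
  have : Fact (Nat.Prime 2) := ⟨Nat.prime_two⟩
  have hsq : ∀ x : T, x * x = 1 := by
    intro x
    have := (Cfsg.Agent.S0012.result 2 hT).2 x
    rw [hΦ, Subgroup.mem_bot, pow_two] at this
    exact this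
  have hinv : ∀ x : T, x⁻¹ = x := fun x => inv_eq_of_mul_eq_one_right (hsq x)
  have hcomm : ∀ a b : T, a * b = b * a := by
    intro a b
    have h := hinv (a * b)
    rw [mul_inv_rev, hinv a, hinv b] at h
    exact h.symm
  have hneg : ∀ x : T, x ≠ 1 → ∀ v, ρ x v = -v := fun x hx =>
    central_involution_neg ρ hinj hirr x (fun g => hcomm g x) (hsq x) hx
  have huniq : ∀ x y : T, x ≠ 1 → y ≠ 1 → x = y := by
    intro x y hx hy
    apply hinj
    ext v
    rw [hneg x hx, hneg y hy]
  by_contra hcon
  push Not at hcon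
  have : Fintype T := Fintype.ofFinite T
  rw [Nat.card_eq_fintype_card] at hcon
  obtain ⟨a, b, c, hab, hac, hbc⟩ := Fintype.two_lt_card_iff.mp hcon
  by_cases ha : a = 1
  · have hb : b ≠ 1 := fun h => hab (ha.trans h.symm)
    have hc : c ≠ 1 := fun h => hac (ha.trans h.symm)
    exact hbc (huniq b c hb hc)
  · by_cases hb : b = 1
    · have hc : c ≠ 1 := fun h => hbc (hb.trans h.symm)
      exact hac (huniq a c ha hc)
    · exact hab (huniq a b ha hb)

/-- in dimension one every operator is a scalar -/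
lemma exists_scalar_hom (ρ : Representation (ZMod q) T V)
    (h1 : Module.finrank (ZMod q) V = 1) :
    ∃ χ : T →* ZMod q, ∀ t v, ρ t v = χ t • v := by
  classical
  obtain ⟨v0, hv0, hspan⟩ := finrank_eq_one_iff'.mp h1
  have hcancel : ∀ a b : ZMod q, a • v0 = b • v0 → a = b := by
    intro a b h
    have : (a - b) • v0 = 0 := by rw [sub_smul, h, sub_self]
    rcases smul_eq_zero.mp this with h | h
    · exact sub_eq_zero.mp h
    · exact absurd h hv0
  choose c hc using fun t : T => hspan (ρ t v0)
  have hall : ∀ t v, ρ t v = c t • v := by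
    intro t v
    obtain ⟨a, rfl⟩ := hspan v
    rw [map_smul, ← hc t, smul_comm]
  refine ⟨⟨⟨c, ?_⟩, ?_⟩, hall⟩
  · apply hcancel
    rw [hc 1, map_one, Module.End.one_apply, one_smul]
  · intro s t
    apply hcancel
    show c (s * t) • v0 = (c s * c t) • v0
    rw [hc (s * t), map_mul, Module.End.mul_apply, hall t v0, map_smul, hall s v0, smul_smul,
      mul_comm]

/-- dimension one: the group is cyclic -/
lemma isCyclic_of_finrank_one [Finite T] (ρ : Representation (ZMod q) T V)
    (hinj : Function.Injective ρ) (h1 : Module.finrank (ZMod q) V = 1) : IsCyclic T := by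
  obtain ⟨χ, hχ⟩ := exists_scalar_hom ρ h1
  refine isCyclic_of_injective_ringHom χ ?_
  intro s t hst
  apply hinj
  ext v
  rw [hχ s v, hχ t v, hst]

/-- dimension one over `ZMod 3`: the group has order at most two -/
lemma card_le_two_of_finrank_one [Finite T] (hq3 : q = 3) (ρ : Representation (ZMod q) T V)
    (hinj : Function.Injective ρ) (h1 : Module.finrank (ZMod q) V = 1) : Nat.card T ≤ 2 := by
  subst hq3
  obtain ⟨χ, hχ⟩ := exists_scalar_hom ρ h1
  have hχinj : Function.Injective χ := by
    intro s t hst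
    apply hinj
    ext v
    rw [hχ s v, hχ t v, hst]
  have h2 : Function.Injective χ.toHomUnits := by
    intro s t hst
    apply hχinj
    have := congrArg Units.val hst
    simpa using this
  have h3 := Nat.card_le_card_of_injective _ h2
  have h4 : Nat.card (ZMod 3)ˣ = 2 := by
    rw [Nat.card_eq_fintype_card, ZMod.card_units_eq_totient]
    decide
  omega


omit hq in
lemma Dq_add (q a b : ℕ) (ha : 1 ≤ a) (hb : 1 ≤ b) : Dq q a + Dq q b ≤ Dq q (a + b) := by
  unfold Dq
  split_ifs <;> omega

omit hq in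
lemma Dq_double (q h : ℕ) (hh : 1 ≤ h) (hne : ¬ (q = 3 ∧ h = 1)) :
    1 + 2 * Dq q h ≤ Dq q (2 * h) := by
  unfold Dq
  split_ifs <;> omega

omit hq in
lemma two_le_Dq (q n : ℕ) (hn : 2 ≤ n) : 2 ≤ Dq q n := by
  unfold Dq
  split_ifs <;> omega

omit hq in
lemma Dq_one (q : ℕ) : Dq q 1 = 1 := by
  unfold Dq
  split_ifs <;> omega

omit hq in
lemma Dq_three_two : Dq 3 2 = 2 := by
  unfold Dq
  norm_num

/-- a submodule invariant under a subgroup of index two and one element outside is invariant -/
lemma invariant_of_index_two (ρ : Representation (ZMod q) T V) (M : Subgroup T)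
    (hM : M.index = 2) (g0 : T) (hg0 : g0 ∉ M) (X : Submodule (ZMod q) V)
    (hX : ∀ g ∈ M, X ≤ X.comap (ρ g)) (hX0 : X ≤ X.comap (ρ g0)) :
    ∀ g, X ≤ X.comap (ρ g) := by
  intro g
  by_cases hg : g ∈ M
  · exact hX g hg
  · have hm : g0⁻¹ * g ∈ M := by
      rw [Subgroup.mul_mem_iff_of_index_two hM, Subgroup.inv_mem_iff]
      exact ⟨fun h => absurd h hg0, fun h => absurd h hg⟩
    intro v hv
    rw [Submodule.mem_comap]
    have : ρ g v = ρ g0 (ρ (g0⁻¹ * g) v) := by
      calc ρ g v = ρ (g0 * (g0⁻¹ * g)) v := by rw [mul_inv_cancel_left]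
        _ = (ρ g0 * ρ (g0⁻¹ * g)) v := by rw [map_mul]
        _ = ρ g0 (ρ (g0⁻¹ * g) v) := rfl
    rw [this]
    exact hX0 (hX _ hm hv)

/-- the imprimitive step -/
theorem imprimitive_step [Finite T] [Finite V] (hq2 : q ≠ 2) {n : ℕ}
    (IH : ∀ m < n, BoundAt.{u, v} q m)
    (ρ : Representation (ZMod q) T V) (hinj : Function.Injective ρ) (hT : IsPGroup 2 T)
    (hn : Module.finrank (ZMod q) V = n) (hirr : Irr ρ)
    (M : Subgroup T) (hM : M.index = 2) (W : Submodule (ZMod q) V)
    (hW : ∀ g ∈ M, W ≤ W.comap (ρ g)) (hW0 : W ≠ ⊥) (hW1 : W ≠ ⊤) :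
    (frattini T).index ≤ 2 ^ Dq q n := by
  classical
  have hMn : M.Normal := Subgroup.normal_of_index_eq_two hM
  obtain ⟨g0, hg0⟩ : ∃ g0 : T, g0 ∉ M := by
    by_contra hcon
    push Not at hcon
    have : M = ⊤ := top_unique fun y _ => hcon y
    rw [this, Subgroup.index_top] at hM
    omega
  have hg00 : g0 * g0 ∈ M := by
    rw [Subgroup.mul_mem_iff_of_index_two hM]
  -- the linear equivalence given by `g0`
  let e : V ≃ₗ[ZMod q] V := LinearEquiv.ofLinearMap (ρ g0) (ρ g0⁻¹)
    (by
      ext v
      show (ρ g0 * ρ g0⁻¹) v = v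
      rw [← map_mul, mul_inv_cancel, map_one, Module.End.one_apply])
    (by
      ext v
      show (ρ g0⁻¹ * ρ g0) v = v
      rw [← map_mul, inv_mul_cancel, map_one, Module.End.one_apply])
  have he : ∀ v, e v = ρ g0 v := fun v => rfl
  set W' : Submodule (ZMod q) V := W.map (e : V →ₗ[ZMod q] V) with hW'def
  have hmemW' : ∀ v, v ∈ W' ↔ ∃ w ∈ W, ρ g0 w = v := by
    intro v
    rw [hW'def, Submodule.mem_map]
    rfl
  -- `W'` is `M`-invariant
  have hW'inv : ∀ g ∈ M, W' ≤ W'.comap (ρ g) := by
    intro g hg v hv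
    rw [Submodule.mem_comap]
    obtain ⟨w, hw, rfl⟩ := (hmemW' v).mp hv
    rw [hmemW']
    refine ⟨ρ (g0⁻¹ * g * g0) w, hW _ ?_ hw, ?_⟩
    · have := hMn.conj_mem g hg g0⁻¹
      simpa using this
    · have key : g0 * (g0⁻¹ * g * g0) = g * g0 := by group
      calc ρ g0 (ρ (g0⁻¹ * g * g0) w) = (ρ g0 * ρ (g0⁻¹ * g * g0)) w := rfl
        _ = ρ (g0 * (g0⁻¹ * g * g0)) w := by rw [← map_mul]
        _ = ρ (g * g0) w := by rw [key]
        _ = (ρ g * ρ g0) w := by rw [map_mul]
        _ = ρ g (ρ g0 w) := rfl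
  -- `g0` swaps `W` and `W'`
  have hg0W : ∀ w ∈ W, ρ g0 w ∈ W' := fun w hw => (hmemW' _).mpr ⟨w, hw, rfl⟩
  have hg0W' : ∀ v ∈ W', ρ g0 v ∈ W := by
    intro v hv
    obtain ⟨w, hw, rfl⟩ := (hmemW' v).mp hv
    have : ρ g0 (ρ g0 w) = ρ (g0 * g0) w := by
      calc ρ g0 (ρ g0 w) = (ρ g0 * ρ g0) w := rfl
        _ = ρ (g0 * g0) w := by rw [map_mul]
    rw [this]
    exact hW _ hg00 hw
  -- intersection and sum are invariant
  have hIinv : ∀ g, (W ⊓ W') ≤ (W ⊓ W').comap (ρ g) := by
    apply invariant_of_index_two ρ M hM g0 hg0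
    · intro g hg v hv
      rw [Submodule.mem_comap]
      exact ⟨hW g hg hv.1, hW'inv g hg hv.2⟩
    · intro v hv
      rw [Submodule.mem_comap]
      exact ⟨hg0W' v hv.2, hg0W v hv.1⟩
  have hSinv : ∀ g, (W ⊔ W') ≤ (W ⊔ W').comap (ρ g) := by
    apply invariant_of_index_two ρ M hM g0 hg0
    · intro g hg v hv
      rw [Submodule.mem_comap]
      obtain ⟨a, ha, b, hb, rfl⟩ := Submodule.mem_sup.mp hv
      rw [map_add]
      exact Submodule.add_mem_sup (hW g hg ha) (hW'inv g hg hb)
    · intro v hv
      rw [Submodule.mem_comap]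
      obtain ⟨a, ha, b, hb, rfl⟩ := Submodule.mem_sup.mp hv
      rw [map_add, add_comm]
      exact Submodule.add_mem_sup (hg0W' b hb) (hg0W a ha)
  have hI : W ⊓ W' = ⊥ := by
    rcases hirr _ hIinv with h | h
    · exact h
    · exfalso; apply hW1
      exact top_unique (h ▸ inf_le_left)
  have hS : W ⊔ W' = ⊤ := by
    rcases hirr _ hSinv with h | h
    · exfalso; apply hW0
      exact bot_unique (h ▸ le_sup_left)
    · exact h
  -- dimensions
  have hdimW' : Module.finrank (ZMod q) W' = Module.finrank (ZMod q) W :=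
    LinearEquiv.finrank_map_eq e W
  have hdim := Submodule.finrank_sup_add_finrank_inf_eq W W'
  rw [hS, hI, finrank_top, finrank_bot, hdimW', hn] at hdim
  have hquot := Submodule.finrank_quotient_add_finrank W
  rw [hn] at hquot
  set h := Module.finrank (ZMod q) W with hh
  have hn2 : n = 2 * h := by omega
  have hq' : Module.finrank (ZMod q) (V ⧸ W) = h := by omega
  have hh1 : 1 ≤ h := Submodule.one_le_finrank_iff.mpr hW0
  -- restrict to `M`
  set ρM : Representation (ZMod q) ↥M V := ρ.comp M.subtype with hρM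
  have hρMinj : Function.Injective ρM := fun a b hab => Subtype.ext (hinj hab)
  have hWM : ∀ g : ↥M, W ≤ W.comap (ρM g) := fun g => hW g g.2
  have hTM : IsPGroup 2 ↥M := hT.to_subgroup M
  have r := reducible_step hq2 IH ρM hρMinj hTM hn W hWM hW0 hW1
  rw [hq', ← hh] at r
  have r2 := frattini_index_le_two_mul hT M hM
  by_cases hsp : q = 3 ∧ h = 1
  · -- the special case
    obtain ⟨hq3, hh1'⟩ := hsp
    have : Finite (V ⧸ W) := Finite.of_surjective _ (Submodule.mkQ_surjective W)
    have c1 : Nat.card (↥M ⧸ subKer ρM W hWM) ≤ 2 :=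
      card_le_two_of_finrank_one hq3 (sigma ρM W hWM) (sigma_injective ρM W hWM)
        (by rw [← hh, hh1'])
    have c2 : Nat.card ↥(subKer ρM W hWM) ≤ 2 :=
      card_le_two_of_finrank_one hq3 (tau ρM W hWM) (tau_injective ρM W hWM hρMinj hq2 hTM)
        (by rw [hq', hh1'])
    have c3 : Nat.card ↥M ≤ 4 := by
      rw [Subgroup.card_eq_card_quotient_mul_card_subgroup (subKer ρM W hWM)]
      calc _ ≤ 2 * 2 := Nat.mul_le_mul c1 c2
        _ = 4 := by norm_num
    have c4 : Nat.card T ≤ 8 := by
      rw [← Subgroup.card_mul_index M, hM]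
      omega
    have hD : Dq q n = 2 := by
      rw [hn2, hh1', hq3]
      exact Dq_three_two
    rw [hD]
    by_cases hΦ : frattini T = ⊥
    · have c5 := card_le_two_of_frattini_eq_bot ρ hinj hirr hT hΦ
      have c6 : (frattini T).index ≤ Nat.card T :=
        Nat.le_of_dvd Nat.card_pos (Subgroup.index_dvd_card _)
      omega
    · have c5 : 1 < Nat.card ↥(frattini T) := (Subgroup.one_lt_card_iff_ne_bot _).mpr hΦ
      have c6 := Subgroup.card_mul_index (frattini T)
      have c7 : 2 * (frattini T).index ≤ Nat.card ↥(frattini T) * (frattini T).index :=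
        Nat.mul_le_mul_right _ c5
      norm_num
      omega
  · have hD := Dq_double q h hh1 hsp
    rw [← hn2] at hD
    calc (frattini T).index ≤ 2 * (frattini ↥M).index := r2
      _ ≤ 2 * (2 ^ Dq q h * 2 ^ Dq q h) := Nat.mul_le_mul_left _ r
      _ = 2 ^ (1 + 2 * Dq q h) := by ring
      _ ≤ 2 ^ Dq q n := Nat.pow_le_pow_right (by norm_num) hD


/-- an irreducible faithful `2`-group is `2`-generated mod Frattini, or imprimitive via a subgroup
of index two -/
theorem primitive_or_imprimitive [Finite T] (ρ : Representation (ZMod q) T V)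
    (hinj : Function.Injective ρ) (hT : IsPGroup 2 T) (hirr : Irr ρ) :
    (frattini T).index ≤ 4 ∨
    ∃ (M : Subgroup T) (W : Submodule (ZMod q) V), M.index = 2 ∧
      (∀ g ∈ M, W ≤ W.comap (ρ g)) ∧ W ≠ ⊥ ∧ W ≠ ⊤ := by
  rcases cyclic_or_four_group hT with ⟨C, hC, hidx⟩ | ⟨z, a, hz1, hz2, hzc, ha2, ha1, haz, hconj⟩
  · left
    have := hC
    exact frattini_index_le_four_of_cyclic_index hT C hidx
  · right
    have hzneg := central_involution_neg ρ hinj hirr z hzc hz2 hz1
    -- `a` is not central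
    obtain ⟨g0, hg0⟩ : ∃ g0, g0 * a * g0⁻¹ ≠ a := by
      by_contra hcon
      push Not at hcon
      have hac : ∀ g, g * a = a * g := by
        intro g
        calc g * a = g * a * g⁻¹ * g := by group
          _ = a * g := by rw [hcon g]
      have haneg := central_involution_neg ρ hinj hirr a hac ha2 ha1
      apply haz
      apply hinj
      ext v
      rw [haneg, hzneg]
    have hg0' : g0 * a * g0⁻¹ = z * a := (hconj g0).resolve_left hg0
    have hzinv : z⁻¹ = z := inv_eq_of_mul_eq_one_right hz2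
    have hza : z * a ≠ a := by
      intro h
      apply hz1
      calc z = z * a * a⁻¹ := by group
        _ = 1 := by rw [h, mul_inv_cancel]
    have hg0'' : g0⁻¹ * a * g0 = z * a := by
      have h1 : a = g0⁻¹ * (z * a) * g0 := by rw [← hg0']; group
      have h2 : g0⁻¹ * (z * a) * g0 = z * (g0⁻¹ * a * g0) := by
        calc g0⁻¹ * (z * a) * g0 = (g0⁻¹ * z) * a * g0 := by group
          _ = (z * g0⁻¹) * a * g0 := by rw [hzc g0⁻¹]
          _ = z * (g0⁻¹ * a * g0) := by group
      calc g0⁻¹ * a * g0 = z⁻¹ * (z * (g0⁻¹ * a * g0)) := by group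
        _ = z⁻¹ * a := by rw [← h2, ← h1]
        _ = z * a := by rw [hzinv]
    set M := Subgroup.centralizer ({a} : Set T) with hMdef
    have hmemM : ∀ b, b ∈ M ↔ b * a * b⁻¹ = a := by
      intro b
      rw [hMdef, Subgroup.mem_centralizer_singleton_iff, mul_inv_eq_iff_eq_mul]
    have hM : M.index = 2 := by
      rw [Subgroup.index_eq_two_iff]
      refine ⟨g0⁻¹, fun b => ?_⟩
      have hkey : b * g0⁻¹ * a * (b * g0⁻¹)⁻¹ = z * (b * a * b⁻¹) := by
        calc b * g0⁻¹ * a * (b * g0⁻¹)⁻¹ = b * (g0⁻¹ * a * g0) * b⁻¹ := by group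
          _ = (b * z) * a * b⁻¹ := by rw [hg0'']; group
          _ = (z * b) * a * b⁻¹ := by rw [hzc b]
          _ = z * (b * a * b⁻¹) := by group
      rcases hconj b with hb | hb
      · right
        refine ⟨(hmemM b).mpr hb, ?_⟩
        rw [hmemM, hkey, hb]
        exact hza
      · left
        refine ⟨?_, ?_⟩
        · rw [hmemM, hkey, hb, ← mul_assoc, hz2, one_mul]
        · rw [hmemM, hb]
          exact hza
    set W : Submodule (ZMod q) V := LinearMap.ker (ρ a - 1) with hWdef
    have hmem : ∀ v, v ∈ W ↔ ρ a v = v := by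
      intro v
      rw [hWdef, LinearMap.mem_ker, LinearMap.sub_apply, Module.End.one_apply, sub_eq_zero]
    refine ⟨M, W, hM, ?_, ?_, ?_⟩
    · intro g hg v hv
      rw [Submodule.mem_comap, hmem]
      rw [hmem] at hv
      have hga : a * g = g * a := by
        have := (hmemM g).mp hg
        calc a * g = g * a * g⁻¹ * g := by rw [this]
          _ = g * a := by group
      calc ρ a (ρ g v) = (ρ a * ρ g) v := rfl
        _ = ρ (a * g) v := by rw [map_mul]
        _ = ρ (g * a) v := by rw [hga]
        _ = (ρ g * ρ a) v := by rw [map_mul]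
        _ = ρ g (ρ a v) := rfl
        _ = ρ g v := by rw [hv]
    · intro h
      apply haz
      apply hinj
      ext v
      have hu : v + ρ a v ∈ W := by
        rw [hmem, map_add]
        have : ρ a (ρ a v) = v := by
          calc ρ a (ρ a v) = (ρ a * ρ a) v := rfl
            _ = ρ (a * a) v := by rw [map_mul]
            _ = v := by rw [ha2, map_one, Module.End.one_apply]
        rw [this, add_comm]
      rw [h, Submodule.mem_bot] at hu
      rw [hzneg]
      exact (neg_eq_of_add_eq_zero_right hu).symm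
    · intro h
      apply ha1
      apply hinj
      rw [map_one]
      ext v
      rw [Module.End.one_apply]
      exact (hmem v).mp (h ▸ Submodule.mem_top)

/-- **Main bound** (Isaacs-type): a `2`-group acting faithfully on an `n`-dimensional space over
`ZMod q`, `q` odd, has Frattini quotient of order at most `2 ^ Dq q n`. -/
theorem boundAt (hq2 : q ≠ 2) : ∀ n, BoundAt.{u, v} q n := by
  intro n
  induction n using Nat.strong_induction_on with
  | _ n IH =>
  intro T _ _ V _ _ _ ρ hinj hT hn
  have : Fact (Nat.Prime 2) := ⟨Nat.prime_two⟩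
  by_cases hred : ∃ W : Submodule (ZMod q) V, (∀ g, W ≤ W.comap (ρ g)) ∧ W ≠ ⊥ ∧ W ≠ ⊤
  · obtain ⟨W, hW, h0, h1⟩ := hred
    have r := reducible_step hq2 IH ρ hinj hT hn W hW h0 h1
    have hsum := Submodule.finrank_quotient_add_finrank W
    rw [hn] at hsum
    have ha : 1 ≤ Module.finrank (ZMod q) W := Submodule.one_le_finrank_iff.mpr h0
    have hb : 1 ≤ Module.finrank (ZMod q) (V ⧸ W) := by
      have := Submodule.finrank_lt h1
      rw [hn] at this
      omega
    have hD := Dq_add q _ _ ha hb
    have hsum' : Module.finrank (ZMod q) W + Module.finrank (ZMod q) (V ⧸ W) = n := by omega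
    rw [hsum'] at hD
    calc (frattini T).index ≤ _ := r
      _ = 2 ^ (Dq q (Module.finrank (ZMod q) W) + Dq q (Module.finrank (ZMod q) (V ⧸ W))) :=
        (pow_add _ _ _).symm
      _ ≤ 2 ^ Dq q n := Nat.pow_le_pow_right (by norm_num) hD
  · have hirr : Irr ρ := by
      intro W hW
      by_contra h
      push Not at h
      exact hred ⟨W, hW, h.1, h.2⟩
    rcases Nat.lt_or_ge n 2 with hlt | hge
    · interval_cases n
      · have hsub : Subsingleton V := Module.finrank_zero_iff.mp hn
        have hT1 : Subsingleton T := ⟨fun a b => hinj (by ext v; exact Subsingleton.elim _ _)⟩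
        have : (frattini T).index ≤ Nat.card T :=
          Nat.le_of_dvd Nat.card_pos (Subgroup.index_dvd_card _)
        rw [Nat.card_of_subsingleton (1 : T)] at this
        exact le_trans this Nat.one_le_two_pow
      · have := isCyclic_of_finrank_one ρ hinj hn
        rw [Dq_one]
        simpa using frattini_index_le_two_of_isCyclic hT
    · rcases primitive_or_imprimitive ρ hinj hT hirr with h4 | ⟨M, W, hM, hW, h0, h1⟩
      · calc (frattini T).index ≤ 4 := h4
          _ = 2 ^ 2 := by norm_num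
          _ ≤ 2 ^ Dq q n := Nat.pow_le_pow_right (by norm_num) (two_le_Dq q n hge)
      · exact imprimitive_step hq2 IH ρ hinj hT hn hirr M hM W hW h0 h1

end

end Cfsg.Agent.Lib.Helper70.FratRep
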