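import Mathlib
import Cfsg.Agent.Lib.Helper70.FratRep

/-!
# `|P : Φ(P)| ≤ |V| - 1` for a 2-group acting faithfully on an elementary abelian q-group, q odd
(helper70)
-/

set_option autoImplicit false

namespace Cfsg.Agent.Lib.Helper70.FratAction

open Cfsg.Agent.Lib.Helper70.FratRep

universe u

lemma two_pow_Dq_three (n : ℕ) (hn : 2 ≤ n) : 2 ^ (3 * n / 2 - 1) + 1 ≤ 3 ^ n := by
  induction n using Nat.strong_induction_on with
  | _ n IH =>
  rcases Nat.lt_or_ge n 4 with h | h
  · interval_cases n <;> norm_num
  · have h2 : 2 ≤ n - 2 := by omega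
    have ih := IH (n - 2) (by omega) h2
    have e1 : 3 * n / 2 - 1 = (3 * (n - 2) / 2 - 1) + 3 := by omega
    have e2 : n = (n - 2) + 2 := by omega
    rw [e1, pow_add]
    conv_rhs => rw [e2, pow_add]
    nlinarith [Nat.one_le_two_pow (n := 3 * (n - 2) / 2 - 1)]

lemma two_pow_Dq_large (q n : ℕ) (hq : 5 ≤ q) (hn : 1 ≤ n) : 2 ^ (2 * n - 1) + 1 ≤ q ^ n := by
  induction n, hn using Nat.le_induction with
  | base => simp; omega
  | succ n hn ih =>
    have e1 : 2 * (n + 1) - 1 = (2 * n - 1) + 2 := by omega
    have e2 : (2 : ℕ) ^ (2 * n - 1 + 2) = 2 ^ (2 * n - 1) * 4 := by rw [pow_add]; norm_num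
    have e3 : q ^ (n + 1) = q ^ n * q := pow_succ _ _
    have e4 := Nat.mul_le_mul_left (q ^ n) hq
    rw [e1, e2, e3]
    omega

lemma two_pow_Dq_le (q n : ℕ) (hq : q = 3 ∨ 5 ≤ q) (hn : 1 ≤ n) : 2 ^ Dq q n ≤ q ^ n - 1 := by
  unfold Dq
  rcases hq with rfl | hq
  · simp only [if_true]
    split_ifs with h1
    · have : n = 1 := by omega
      subst this
      norm_num
    · have := two_pow_Dq_three n (by omega)
      omega
  · have hq3 : q ≠ 3 := by omega
    simp only [hq3, if_false]
    have := two_pow_Dq_large q n hq hn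
    omega

section action

variable {P V : Type u} [Group P] [Finite P] [CommGroup V] [Finite V]
variable (q : ℕ) [Fact q.Prime]

/-- the representation on `Additive V` induced by an action by automorphisms -/
def rhoOf [Module (ZMod q) (Additive V)] (φ : P →* MulAut V) :
    Representation (ZMod q) P (Additive V) where
  toFun g := AddMonoidHom.toZModLinearMap q (MonoidHom.toAdditive ((φ g).toMonoidHom))
  map_one' := by
    ext v
    show Additive.ofMul ((φ 1) (Additive.toMul v)) = v
    rw [map_one]
    rfl
  map_mul' g h := by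
    ext v
    show Additive.ofMul ((φ (g * h)) (Additive.toMul v)) = _
    rw [map_mul]
    rfl

omit [Finite P] [Finite V] in
lemma rhoOf_apply [Module (ZMod q) (Additive V)] (φ : P →* MulAut V) (g : P) (v : V) :
    rhoOf q φ g (Additive.ofMul v) = Additive.ofMul (φ g v) := rfl

/-- **Main theorem, abstract form.** -/
theorem frattini_index_le_card_sub_one (hq2 : q ≠ 2) (hexp : ∀ v : V, v ^ q = 1)
    (φ : P →* MulAut V) (hφ : Function.Injective φ) (hP : IsPGroup 2 P) (hV : Nontrivial V) :
    (frattini P).index ≤ Nat.card V - 1 := by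
  let _ : Module (ZMod q) (Additive V) := AddCommGroup.zmodModule (n := q) (by
    intro x
    show Additive.ofMul ((Additive.toMul x) ^ q) = 0
    rw [hexp]
    rfl)
  have : Finite (Additive V) := Finite.of_equiv V Additive.ofMul
  set ρ := rhoOf q φ with hρ
  have hinj : Function.Injective ρ := by
    intro g h hgh
    apply hφ
    ext v
    have := LinearMap.congr_fun hgh (Additive.ofMul v)
    simp only [hρ, rhoOf_apply] at this
    exact Additive.ofMul.injective this
  have hcard : Nat.card V = q ^ Module.finrank (ZMod q) (Additive V) := by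
    have hfin : Module.Finite (ZMod q) (Additive V) := Module.Finite.of_finite
    have := @Module.natCard_eq_pow_finrank (ZMod q) (Additive V) _ _ _ hfin
    rw [Nat.card_zmod] at this
    rw [← this]
    exact Nat.card_congr Additive.ofMul
  set n := Module.finrank (ZMod q) (Additive V) with hn
  have hn1 : 1 ≤ n := by
    by_contra h
    have h0 : n = 0 := by omega
    rw [h0, pow_zero] at hcard
    have : 1 < Nat.card V := Finite.one_lt_card
    omega
  have hb := boundAt.{u, u} hq2 n P (Additive V) ρ hinj hP rfl
  have hq' : q = 3 ∨ 5 ≤ q := by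
    have hp : q.Prime := Fact.out
    have h2 := hp.two_le
    have h4 : q ≠ 4 := by
      intro h
      rw [h] at hp
      norm_num at hp
    omega
  rw [hcard]
  exact le_trans hb (two_pow_Dq_le q n hq' hn1)

end action

end Cfsg.Agent.Lib.Helper70.FratAction
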