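import Mathlib
import Cfsg.Agent.Lib.Helper70.AutPGroup
import Cfsg.Agent.Lib.Helper96.ElemAb

/-!
Counting generating tuples: of an elementary abelian group, and of a group modulo its Frattini
subgroup.
-/

set_option autoImplicit false

namespace Cfsg.Agent.Lib.Helper70

open Cfsg.Agent.Lib.Helper96

section elemab

variable {E : Type*} [CommGroup E] [Finite E] (p : ℕ) [Fact p.Prime] [Module (ZMod p) (Additive E)]

theorem finrank_additive_eq' (n : ℕ) (hcard : Nat.card E = p ^ n) :
    Module.finrank (ZMod p) (Additive E) = n := by
  have h1 : Nat.card (Additive E) = Nat.card (ZMod p) ^ Module.finrank (ZMod p) (Additive E) :=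
    Module.natCard_eq_pow_finrank
  have h2 : Nat.card (Additive E) = Nat.card E := Nat.card_congr Additive.toMul
  rw [h2, hcard, Nat.card_zmod] at h1
  exact (Nat.pow_right_injective (Fact.out : p.Prime).two_le h1).symm

theorem gen_iff_linearIndependent (r : ℕ) (hcard : Nat.card E = p ^ r) (y : Fin r → E) :
    Subgroup.closure (Set.range y) = ⊤ ↔
      LinearIndependent (ZMod p) (fun i => Additive.ofMul (y i)) := by
  have hfr := finrank_additive_eq' p r hcard
  have hrange : Set.range (fun i => Additive.ofMul (y i)) = addImage (Set.range y) := by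
    unfold addImage
    rw [← Set.range_comp]
    rfl
  have hfinA : Finite (Additive E) := inferInstanceAs (Finite E)
  have hfd : FiniteDimensional (ZMod p) (Additive E) := Module.Finite.of_finite
  constructor
  · intro h
    apply linearIndependent_of_top_le_span_of_card_eq_finrank
    · rw [hrange, span_eq_top_of_closure_eq_top p _ h]
    · rw [Fintype.card_fin, hfr]
  · intro h
    apply closure_eq_top_of_span_eq_top p
    rw [← hrange]
    apply h.span_eq_top_of_card_eq_finrank'
    rw [Fintype.card_fin, hfr]

theorem card_genTuples_elemab_aux (r : ℕ) (hcard : Nat.card E = p ^ r) :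
    Nat.card (genTuples E (Fin r)) = ∏ i ∈ Finset.range r, (p ^ r - p ^ i) := by
  have hfr := finrank_additive_eq' p r hcard
  have e : genTuples E (Fin r) ≃
      {s : Fin r → Additive E // LinearIndependent (ZMod p) s} :=
    { toFun := fun y => ⟨fun i => Additive.ofMul ((y : Fin r → E) i),
        (gen_iff_linearIndependent p r hcard _).mp y.2⟩
      invFun := fun s => ⟨fun i => Additive.toMul ((s : Fin r → Additive E) i),
        (gen_iff_linearIndependent p r hcard _).mpr (by simpa using s.2)⟩
      left_inv := fun y => by
        apply Subtype.ext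
        funext i
        rfl
      right_inv := fun s => by
        apply Subtype.ext
        funext i
        rfl }
  rw [Nat.card_congr e, card_linearIndependent (K := ZMod p) (V := Additive E) (k := r)
    (by rw [hfr]), hfr, ZMod.card, Fin.prod_univ_eq_prod_range (fun i => p ^ r - p ^ i) r]

end elemab

/-- the number of generating `r`-tuples of an elementary abelian group of order `p^r` -/
theorem card_genTuples_elemab {E : Type*} [Group E] [Finite E] (p r : ℕ) [Fact p.Prime]
    (hcomm : ∀ a b : E, a * b = b * a) (hexp : ∀ x : E, x ^ p = 1) (hcard : Nat.card E = p ^ r) :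
    Nat.card (genTuples E (Fin r)) = ∏ i ∈ Finset.range r, (p ^ r - p ^ i) := by
  let _i1 : CommGroup E := { (inferInstance : Group E) with mul_comm := hcomm }
  let _i2 : Module (ZMod p) (Additive E) := AddCommGroup.zmodModule (n := p) (fun v => by
    have := hexp (Additive.toMul v)
    exact congrArg Additive.ofMul this)
  exact card_genTuples_elemab_aux p r hcard

/-- generating tuples of `P` versus generating tuples of `P ⧸ Φ(P)` -/
noncomputable def genTuplesEquiv (P : Type*) [Group P] [Finite P] (ι : Type*) :
    genTuples P ι ≃ genTuples (P ⧸ frattini P) ι × (ι → frattini P) where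
  toFun y := (⟨fun i => (QuotientGroup.mk ((y : ι → P) i) : P ⧸ frattini P),
      map_mk_closure_eq_top (frattini P) _ y.2⟩,
    fun i => ⟨((QuotientGroup.mk ((y : ι → P) i) : P ⧸ frattini P).out)⁻¹ * (y : ι → P) i, by
      rw [← QuotientGroup.eq, QuotientGroup.out_eq']⟩)
  invFun w := ⟨fun i => ((w.1 : ι → P ⧸ frattini P) i).out * (w.2 i : P), by
    apply closure_eq_top_of_map_mk
    have : (fun i => (QuotientGroup.mk (((w.1 : ι → P ⧸ frattini P) i).out * (w.2 i : P)) :
        P ⧸ frattini P)) = (w.1 : ι → P ⧸ frattini P) := by
      funext i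
      rw [QuotientGroup.mk_mul, QuotientGroup.out_eq',
        (QuotientGroup.eq_one_iff (w.2 i : P)).mpr (w.2 i).2, mul_one]
    rw [this]
    exact w.1.2⟩
  left_inv y := by
    apply Subtype.ext
    funext i
    simp
  right_inv w := by
    have h1 : ∀ i, (QuotientGroup.mk (((w.1 : ι → P ⧸ frattini P) i).out * (w.2 i : P)) :
        P ⧸ frattini P) = (w.1 : ι → P ⧸ frattini P) i := by
      intro i
      rw [QuotientGroup.mk_mul, QuotientGroup.out_eq',
        (QuotientGroup.eq_one_iff (w.2 i : P)).mpr (w.2 i).2, mul_one]
    apply Prod.ext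
    · apply Subtype.ext
      funext i
      exact h1 i
    · funext i
      apply Subtype.ext
      show ((QuotientGroup.mk (((w.1 : ι → P ⧸ frattini P) i).out * (w.2 i : P)) :
        P ⧸ frattini P).out)⁻¹ * (((w.1 : ι → P ⧸ frattini P) i).out * (w.2 i : P)) = (w.2 i : P)
      rw [h1 i]
      group

end Cfsg.Agent.Lib.Helper70
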