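import Mathlib
import Cfsg.Prelude.Def_Transfer
import Cfsg.Agent.Lib.Helper33.OrbitSum

/-!
# The Hall-Wielandt theorem for a weakly closed subgroup with the Engel condition (helper70 library)

`focal_le_of_weaklyClosed_engel`: `P` a Sylow `p`-subgroup of the finite group `G`, `Q` weakly closed in `P` with respect
to `G`, and `[u, z; p-1] = 1` for all `u` in `P`, `z` in `Q`.  Then `P ∩ G' ≤ N_G(Q)'`.

The proof is by the transfer of `G` into `N_G(Q) / N_G(Q)'`, evaluated at an element `u` of `P ∩ G'` of least order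
outside `N_G(Q)'`: only the cosets fixed by `u` contribute, and those different from `N_G(Q)` are grouped in `p`-tuples
`z^i x` (`z` in `N_Q(D) \ D`, `D = P ∩ Stab x`), over which the product is `φ ((σ - 1)^(p-1) u) = 1`.
-/

set_option autoImplicit false
set_option linter.style.haveILetI false

open Finset

namespace Cfsg.Agent.Lib.Helper70.HallWielandt



theorem sum_range_eq_zero_of_fwdDiff (p : ℕ) [hp : Fact p.Prime] {M : Type*} [AddCommGroup M] (f : ℕ → M)
    (hpf : ∀ i, p • f i = 0) (hΔ : (fwdDiff (1 : ℕ))^[p - 1] f 0 = 0) : ∑ i ∈ range p, f i = 0 := by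
  have hchoose : ∀ (n k : ℕ), ∑ i ∈ range n, i.choose k = n.choose (k + 1) := by
    intro n k
    induction n with
    | zero => simp
    | succ n ih => rw [sum_range_succ, ih, Nat.choose_succ_succ' n k, add_comm]
  have hg : ∀ k, p • ((fwdDiff (1 : ℕ))^[k] f 0) = 0 := by
    intro k
    rw [fwdDiff_iter_eq_sum_shift, smul_sum]
    apply sum_eq_zero
    intro i _
    rw [smul_comm, hpf, smul_zero]
  have hf : ∀ i ∈ range p, f i = ∑ k ∈ range p, i.choose k • (fwdDiff (1 : ℕ))^[k] f 0 := by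
    intro i hi
    have h1 := shift_eq_sum_fwdDiff_iter (1 : ℕ) f i 0
    simp only [smul_eq_mul, mul_one, zero_add] at h1
    rw [h1]
    have hi' : i + 1 ≤ p := Nat.succ_le_of_lt (mem_range.mp hi)
    rw [← sum_range_add_sum_Ico _ hi']
    rw [eq_comm, add_eq_left]
    apply sum_eq_zero
    intro k hk
    rw [mem_Ico] at hk
    rw [Nat.choose_eq_zero_of_lt (by omega), zero_smul]
  rw [sum_congr rfl hf, sum_comm]
  apply sum_eq_zero
  intro k hk
  rw [← sum_smul, hchoose]
  rw [mem_range] at hk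
  by_cases hk1 : k = p - 1
  · rw [hk1, hΔ, smul_zero]
  · have hdvd : p ∣ p.choose (k + 1) := hp.out.dvd_choose_self (by omega) (by omega)
    obtain ⟨m, hm⟩ := hdvd
    rw [hm, mul_comm, mul_smul, hg, smul_zero]

/-- multiplicative form with an explicit table of differences -/
theorem prod_range_eq_one_of_table (p : ℕ) [hp : Fact p.Prime] {A : Type*} [CommGroup A] (b : ℕ → ℕ → A)
    (hb : ∀ i j, b i (j + 1) = (b i j)⁻¹ * b (i + 1) j) (hpb : ∀ i, b i 0 ^ p = 1)
    (hE : b 0 (p - 1) = 1) : ∏ i ∈ range p, b i 0 = 1 := by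
  have key : ∀ j i, (fwdDiff (1 : ℕ))^[j] (fun i => Additive.ofMul (b i 0)) i = Additive.ofMul (b i j) := by
    intro j
    induction j with
    | zero => intro i; rfl
    | succ j ih =>
      intro i
      rw [Function.iterate_succ_apply', fwdDiff, ih, ih, hb, ← ofMul_div]
      congr 1
      rw [div_eq_mul_inv, mul_comm]
  have h := sum_range_eq_zero_of_fwdDiff p (fun i => Additive.ofMul (b i 0))
    (fun i => by
      show p • Additive.ofMul (b i 0) = 0
      rw [← ofMul_pow, hpb]; rfl)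
    (by rw [key, hE]; rfl)
  have h2 : Additive.ofMul (∏ i ∈ range p, b i 0) = 0 := by
    rw [ofMul_prod]; exact h
  exact h2

/-- group form: `Φ` multiplicative on the subgroup `D`, `z` normalising `D`, `u ∈ D` with `[u, z; p-1] = 1` and
all `Φ (z⁻ⁱ u zⁱ)` of order dividing `p`: the product over `i < p` of the `Φ (z⁻ⁱ u zⁱ)` is `1`. -/
theorem prod_conj_eq_one_of_engel (p : ℕ) [hp : Fact p.Prime] {G A : Type*} [Group G] [CommGroup A]
    (D : Subgroup G) (Φ : G → A) (hΦ : ∀ x ∈ D, ∀ y ∈ D, Φ (x * y) = Φ x * Φ y)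
    (z u : G) (hz : ∀ d ∈ D, z⁻¹ * d * z ∈ D) (hu : u ∈ D)
    (hE : (fun y : G => y⁻¹ * z⁻¹ * y * z)^[p - 1] u = 1)
    (hpu : ∀ i : ℕ, Φ ((z ^ i)⁻¹ * u * z ^ i) ^ p = 1) :
    ∏ i ∈ range p, Φ ((z ^ i)⁻¹ * u * z ^ i) = 1 := by
  have hΦ1 : Φ 1 = 1 := by
    have := hΦ 1 D.one_mem 1 D.one_mem
    rw [mul_one] at this
    exact (left_eq_mul.mp this)
  have hΦinv : ∀ x ∈ D, Φ x⁻¹ = (Φ x)⁻¹ := by
    intro x hx
    have := hΦ x⁻¹ (D.inv_mem hx) x hx
    rw [inv_mul_cancel, hΦ1] at this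
    exact eq_inv_of_mul_eq_one_left this.symm
  have hzi : ∀ (i : ℕ), ∀ d ∈ D, (z ^ i)⁻¹ * d * z ^ i ∈ D := by
    intro i
    induction i with
    | zero => intro d hd; simpa using hd
    | succ i ih =>
      intro d hd
      have := hz _ (ih d hd)
      have e : (z ^ (i + 1))⁻¹ * d * z ^ (i + 1) = z⁻¹ * ((z ^ i)⁻¹ * d * z ^ i) * z := by
        rw [pow_succ]; group
      rw [e]; exact this
  have hc : ∀ j : ℕ, (fun y : G => y⁻¹ * z⁻¹ * y * z)^[j] u ∈ D := by
    intro j
    induction j with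
    | zero => exact hu
    | succ j ih =>
      rw [Function.iterate_succ_apply']
      have := D.mul_mem (D.inv_mem ih) (hz _ ih)
      have e : ((fun y : G => y⁻¹ * z⁻¹ * y * z)^[j] u)⁻¹ * z⁻¹ * (fun y : G => y⁻¹ * z⁻¹ * y * z)^[j] u * z =
        ((fun y : G => y⁻¹ * z⁻¹ * y * z)^[j] u)⁻¹ * (z⁻¹ * (fun y : G => y⁻¹ * z⁻¹ * y * z)^[j] u * z) := by group
      show ((fun y : G => y⁻¹ * z⁻¹ * y * z)^[j] u)⁻¹ * z⁻¹ * (fun y : G => y⁻¹ * z⁻¹ * y * z)^[j] u * z ∈ D
      rw [e]; exact this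
  apply prod_range_eq_one_of_table p
    (fun i j => Φ ((z ^ i)⁻¹ * ((fun y : G => y⁻¹ * z⁻¹ * y * z)^[j] u) * z ^ i))
  · intro i j
    show Φ ((z ^ i)⁻¹ * ((fun y : G => y⁻¹ * z⁻¹ * y * z)^[j + 1] u) * z ^ i) = _
    rw [Function.iterate_succ_apply']
    generalize hw : (fun y : G => y⁻¹ * z⁻¹ * y * z)^[j] u = w
    have hwD : w ∈ D := hw ▸ hc j
    show Φ ((z ^ i)⁻¹ * (w⁻¹ * z⁻¹ * w * z) * z ^ i) = (Φ ((z ^ i)⁻¹ * w * z ^ i))⁻¹ * Φ ((z ^ (i + 1))⁻¹ * w * z ^ (i + 1))
    have e : (z ^ i)⁻¹ * (w⁻¹ * z⁻¹ * w * z) * z ^ i = ((z ^ i)⁻¹ * w * z ^ i)⁻¹ * ((z ^ (i + 1))⁻¹ * w * z ^ (i + 1)) := by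
      rw [pow_succ]; group
    rw [e, hΦ _ (D.inv_mem (hzi i w hwD)) _ (hzi (i + 1) w hwD), hΦinv _ (hzi i w hwD)]
  · intro i
    exact hpu i
  · show Φ ((z ^ 0)⁻¹ * ((fun y : G => y⁻¹ * z⁻¹ * y * z)^[p - 1] u) * z ^ 0) = 1
    rw [hE]
    simpa using hΦ1



theorem exists_normalizing_elt (p : ℕ) [hp : Fact p.Prime] {G : Type*} [Group G] [Finite G] (P Q D : Subgroup G)
    (hP : IsPGroup p P) (hQP : Q ≤ P) (hQn : P ≤ Subgroup.normalizer (Q : Set G)) (hDP : D ≤ P) (hQD : ¬ Q ≤ D) :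
    ∃ z ∈ Q, z ∉ D ∧ z ^ p ∈ D ∧ z ∈ Subgroup.normalizer (D : Set G) := by
  have hKP : D ⊔ Q ≤ P := sup_le hDP hQP
  have hK : IsPGroup p ↥(D ⊔ Q) := hP.to_le hKP
  haveI : Group.IsNilpotent ↥(D ⊔ Q) := hK.isNilpotent
  have hlt : D.subgroupOf (D ⊔ Q) < ⊤ := by
    rw [lt_top_iff_ne_top, Ne, Subgroup.subgroupOf_eq_top]
    intro h
    exact hQD (le_sup_right.trans h)
  have hnc := Group.normalizerCondition_of_isNilpotent (G := ↥(D ⊔ Q)) _ hlt
  rw [← Subgroup.subgroupOf_normalizer_eq le_sup_left] at hnc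
  obtain ⟨k, hkN, hkD⟩ := SetLike.exists_of_lt hnc
  rw [Subgroup.mem_subgroupOf] at hkN hkD
  have hkK : (k : G) ∈ ((D ⊔ Q : Subgroup G) : Set G) := k.2
  rw [Subgroup.coe_mul_of_left_le_normalizer_right D Q (hDP.trans hQn)] at hkK
  obtain ⟨d, hd, q, hq, hdq⟩ := hkK
  have hdD : d ∈ D := hd
  have hqQ : q ∈ Q := hq
  have hqN : q ∈ Subgroup.normalizer (D : Set G) := by
    have : q = d⁻¹ * (k : G) := by rw [← hdq]; group
    rw [this]
    exact Subgroup.mul_mem _ (Subgroup.inv_mem _ (Subgroup.le_normalizer hdD)) hkN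
  have hqD : q ∉ D := by
    intro h
    apply hkD
    rw [← hdq]
    exact D.mul_mem hdD h
  -- reduce to `z ^ p ∈ D`
  obtain ⟨n, hn⟩ := (IsPGroup.iff_orderOf.mp hP) ⟨q, hQP hqQ⟩
  have hex : ∃ j : ℕ, q ^ (p ^ j) ∈ D := by
    refine ⟨n, ?_⟩
    have h1 : q ^ (p ^ n) = 1 := by
      have := pow_orderOf_eq_one (⟨q, hQP hqQ⟩ : ↥P)
      rw [hn] at this
      exact congrArg Subtype.val this
    rw [h1]; exact D.one_mem
  classical
  have hj0 : Nat.find hex ≠ 0 := by
    intro h0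
    have := Nat.find_spec hex
    rw [h0, pow_zero, pow_one] at this
    exact hqD this
  obtain ⟨j, hj⟩ := Nat.exists_eq_succ_of_ne_zero hj0
  refine ⟨q ^ (p ^ j), Q.pow_mem hqQ _, ?_, ?_, Subgroup.pow_mem _ hqN _⟩
  · intro h
    have := Nat.find_min' hex h
    omega
  · have := Nat.find_spec hex
    rw [hj, pow_succ, pow_mul] at this
    exact this



variable {G : Type*} [Group G]

theorem mem_map_conj_iff (g x : G) (S : Subgroup G) :
    x ∈ S.map (MulAut.conj g).toMonoidHom ↔ g⁻¹ * x * g ∈ S := by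
  rw [Subgroup.mem_map_equiv, MulAut.conj_symm_apply]

theorem mem_sylow_smul_iff {p : ℕ} (k x : G) (P : Sylow p G) :
    x ∈ ((k • P : Sylow p G) : Subgroup G) ↔ k⁻¹ * x * k ∈ (P : Subgroup G) := by
  rw [Sylow.coe_subgroup_smul, Subgroup.mem_pointwise_smul_iff_inv_smul_mem, MulAut.smul_def,
    MulAut.inv_apply, MulAut.conj_symm_apply]

/-- the form of weak closure we use: two conjugates of `Q` inside one `p`-subgroup coincide -/
theorem map_conj_eq_of_le_pGroup [Finite G] {p : ℕ} [Fact p.Prime] (P : Sylow p G) (Q : Subgroup G)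
    (hQ : Cfsg.IsWeaklyClosed Q (P : Subgroup G)) (S : Subgroup G) (hS : IsPGroup p S) (hQS : Q ≤ S)
    (g : G) (hgS : Q.map (MulAut.conj g).toMonoidHom ≤ S) : Q.map (MulAut.conj g).toMonoidHom = Q := by
  obtain ⟨R, hSR⟩ := hS.exists_le_sylow
  obtain ⟨k, hk⟩ := MulAction.exists_smul_eq G P R
  have hSP : ∀ x ∈ S, k⁻¹ * x * k ∈ (P : Subgroup G) := by
    intro x hx
    rw [← mem_sylow_smul_iff, hk]
    exact hSR hx
  have h1 : Q.map (MulAut.conj k⁻¹).toMonoidHom = Q := by
    apply hQ.2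
    intro x hx
    rw [mem_map_conj_iff, inv_inv] at hx
    have := hSP _ (hQS hx)
    have e : k⁻¹ * (k * x * k⁻¹) * k = x := by group
    rwa [e] at this
  have h2 : Q.map (MulAut.conj (k⁻¹ * g)).toMonoidHom = Q := by
    apply hQ.2
    intro x hx
    rw [mem_map_conj_iff] at hx
    have hx' : k * x * k⁻¹ ∈ Q.map (MulAut.conj g).toMonoidHom := by
      rw [mem_map_conj_iff]
      have e : g⁻¹ * (k * x * k⁻¹) * g = (k⁻¹ * g)⁻¹ * x * (k⁻¹ * g) := by group
      rw [e]; exact hx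
    have := hSP _ (hgS hx')
    have e : k⁻¹ * (k * x * k⁻¹) * k = x := by group
    rwa [e] at this
  ext x
  rw [mem_map_conj_iff]
  have e1 : g⁻¹ * x * g ∈ Q ↔ k⁻¹ * x * k ∈ Q.map (MulAut.conj (k⁻¹ * g)).toMonoidHom := by
    rw [mem_map_conj_iff]
    have e : (k⁻¹ * g)⁻¹ * (k⁻¹ * x * k) * (k⁻¹ * g) = g⁻¹ * x * g := by group
    rw [e]
  rw [e1, h2]
  have e2 : k⁻¹ * x * k ∈ Q ↔ k⁻¹ * x * k ∈ Q.map (MulAut.conj k⁻¹).toMonoidHom := by rw [h1]
  rw [e2, mem_map_conj_iff, inv_inv]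
  have e : k * (k⁻¹ * x * k) * k⁻¹ = x := by group
  rw [e]

/-- `Q` is normal in `P` -/
theorem le_normalizer_of_weaklyClosed (P Q : Subgroup G)
    (hQ : Cfsg.IsWeaklyClosed Q P) : P ≤ Subgroup.normalizer (Q : Set G) := by
  intro g hg
  rw [Subgroup.mem_normalizer_iff_map_conj_eq]
  apply hQ.2
  intro x hx
  rw [mem_map_conj_iff] at hx
  have := P.mul_mem (P.mul_mem hg (hQ.1 hx)) (P.inv_mem hg)
  have e : g * (g⁻¹ * x * g) * g⁻¹ = x := by group
  rwa [e] at this

/-- if `g⁻¹ Q g ≤ N(Q)` then `g ∈ N(Q)` -/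
theorem mem_normalizer_of_conj_le [Finite G] {p : ℕ} [Fact p.Prime] (P : Sylow p G) (Q : Subgroup G)
    (hQ : Cfsg.IsWeaklyClosed Q (P : Subgroup G)) (g : G)
    (h : ∀ q ∈ Q, g⁻¹ * q * g ∈ Subgroup.normalizer (Q : Set G)) : g ∈ Subgroup.normalizer (Q : Set G) := by
  have hQp : IsPGroup p Q := P.2.to_le hQ.1
  have hQ1p : IsPGroup p (Q.map (MulAut.conj g⁻¹).toMonoidHom) := hQp.map _
  have hle : Q.map (MulAut.conj g⁻¹).toMonoidHom ≤ Subgroup.normalizer (Q : Set G) := by
    intro x hx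
    rw [mem_map_conj_iff, inv_inv] at hx
    have := h _ hx
    have e : g⁻¹ * (g * x * g⁻¹) * g = x := by group
    rwa [e] at this
  have hS := IsPGroup.to_sup_of_normal_right' hQ1p hQp hle
  have := map_conj_eq_of_le_pGroup P Q hQ _ hS le_sup_right g⁻¹ le_sup_left
  have h1 : g⁻¹ ∈ Subgroup.normalizer (Q : Set G) := by
    rw [Subgroup.mem_normalizer_iff_map_conj_eq]
    exact this
  have := Subgroup.inv_mem _ h1
  rwa [inv_inv] at this




/-- extension by `1` of a homomorphism defined on a subgroup -/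
noncomputable def extd {A : Type*} [CommGroup A] (H : Subgroup G) (lam : ↥H →* A) : G → A :=
  fun x => by classical exact if h : x ∈ H then lam ⟨x, h⟩ else 1

section extd
variable {A : Type*} [CommGroup A] (H : Subgroup G) (lam : ↥H →* A)

theorem extd_of_mem {x : G} (h : x ∈ H) : extd H lam x = lam ⟨x, h⟩ := by
  unfold extd; rw [dif_pos h]

theorem extd_mul {x y : G} (hx : x ∈ H) (hy : y ∈ H) : extd H lam (x * y) = extd H lam x * extd H lam y := by
  rw [extd_of_mem H lam hx, extd_of_mem H lam hy, extd_of_mem H lam (H.mul_mem hx hy), ← map_mul]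
  rfl

theorem extd_pow {x : G} (hx : x ∈ H) (n : ℕ) : extd H lam (x ^ n) = extd H lam x ^ n := by
  rw [extd_of_mem H lam hx, extd_of_mem H lam (H.pow_mem hx n), ← map_pow]
  rfl

theorem extd_conj {x h : G} (hx : x ∈ H) (hh : h ∈ H) : extd H lam (h⁻¹ * x * h) = extd H lam x := by
  rw [extd_mul H lam (H.mul_mem (H.inv_mem hh) hx) hh, extd_mul H lam (H.inv_mem hh) hx,
    extd_of_mem H lam hh, extd_of_mem H lam (H.inv_mem hh), mul_comm, ← mul_assoc, ← map_mul]
  have : (⟨h, hh⟩ : ↥H) * ⟨h⁻¹, H.inv_mem hh⟩ = 1 := by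
    apply Subtype.ext; simp
  rw [this, map_one, one_mul]

/-- class-function property: `Λ (g⁻¹ u g)` depends only on the coset `g H` -/
theorem extd_out_conj (u : G) (x : G ⧸ H) (g : G) (hg : (g : G ⧸ H) = x) (hu : g⁻¹ * u * g ∈ H) :
    extd H lam (x.out⁻¹ * u * x.out) = extd H lam (g⁻¹ * u * g) := by
  have h1 : g⁻¹ * x.out ∈ H := by
    rw [← QuotientGroup.eq, hg, QuotientGroup.out_eq']
  have e : x.out⁻¹ * u * x.out = (g⁻¹ * x.out)⁻¹ * (g⁻¹ * u * g) * (g⁻¹ * x.out) := by group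
  rw [e, extd_conj H lam hu h1]

theorem smul_mk_eq_iff (k g : G) : k • (g : G ⧸ H) = (g : G ⧸ H) ↔ g⁻¹ * k * g ∈ H := by
  rw [MulAction.Quotient.smul_mk, eq_comm, QuotientGroup.eq]
  have e : g⁻¹ * (k • g) = g⁻¹ * k * g := by rw [smul_eq_mul, mul_assoc]
  rw [e]

end extd

/-- transfer evaluated as a product over the fixed cosets, when the contributions of longer cycles vanish -/
theorem transfer_eq_prod_fixed [Finite G] {A : Type*} [CommGroup A] (H : Subgroup G) (lam : ↥H →* A) (u : G)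
    [Fintype (G ⧸ H)] [DecidableEq (G ⧸ H)]
    (hcyc : ∀ (y : G) (r : ℕ), 1 < r → r ∣ orderOf u → y⁻¹ * u ^ r * y ∈ H → extd H lam (y⁻¹ * u ^ r * y) = 1) :
    MonoidHom.transfer lam u =
      ∏ x ∈ (univ : Finset (G ⧸ H)).filter (fun x => u • x = x), extd H lam (x.out⁻¹ * u * x.out) := by
  classical
  haveI := Fintype.ofFinite (Quotient (MulAction.orbitRel (Subgroup.zpowers u) (G ⧸ H)))
  rw [MonoidHom.transfer_eq_prod_quotient_orbitRel_zpowers_quot]
  have hper : ∀ x : G ⧸ H, Function.minimalPeriod (u • ·) x ∣ orderOf u := by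
    intro x
    apply Function.IsPeriodicPt.minimalPeriod_dvd
    show (u • ·)^[orderOf u] x = x
    rw [smul_iterate, pow_orderOf_eq_one]
    exact one_smul _ x
  have hpos : ∀ x : G ⧸ H, 0 < Function.minimalPeriod (u • ·) x := by
    intro x
    exact Nat.pos_of_dvd_of_pos (hper x) (orderOf_pos u)
  have h1 : ∀ q : Quotient (MulAction.orbitRel (Subgroup.zpowers u) (G ⧸ H)),
      lam ⟨q.out.out⁻¹ * u ^ Function.minimalPeriod (u • ·) q.out * q.out.out,
        QuotientGroup.out_conj_pow_minimalPeriod_mem H u q.out⟩ =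
      if Function.minimalPeriod (u • ·) q.out = 1 then extd H lam (q.out.out⁻¹ * u * q.out.out) else 1 := by
    intro q
    have hmem := QuotientGroup.out_conj_pow_minimalPeriod_mem H u q.out
    rw [← extd_of_mem H lam hmem]
    split_ifs with h
    · rw [h, pow_one]
    · apply hcyc _ _ _ (hper _) hmem
      have := hpos q.out
      omega
  rw [Fintype.prod_congr _ _ h1, ← Finset.prod_filter]
  apply Finset.prod_bij (fun q _ => q.out)
  · intro q hq
    rw [mem_filter] at hq ⊢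
    refine ⟨mem_univ _, ?_⟩
    exact Function.minimalPeriod_eq_one_iff_isFixedPt.mp hq.2
  · intro q _ q' _ h
    exact Quotient.out_injective h
  · intro x hx
    rw [mem_filter] at hx
    have hfix : ∀ s : Subgroup.zpowers u, s • x = x := by
      intro s
      have hle : Subgroup.zpowers u ≤ MulAction.stabilizer G x := by
        rw [Subgroup.zpowers_le]
        exact hx.2
      exact hle s.2
    have hout : (Quotient.mk (MulAction.orbitRel (Subgroup.zpowers u) (G ⧸ H)) x).out = x := by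
      have := Quotient.mk_out (s := MulAction.orbitRel (Subgroup.zpowers u) (G ⧸ H)) x
      have this2 : (Quotient.mk (MulAction.orbitRel (Subgroup.zpowers u) (G ⧸ H)) x).out ∈
          MulAction.orbit (Subgroup.zpowers u) x := MulAction.orbitRel_apply.mp this
      obtain ⟨s, hs⟩ := this2
      rw [← hs]
      exact hfix s
    refine ⟨Quotient.mk _ x, ?_, hout⟩
    rw [mem_filter]
    refine ⟨mem_univ _, ?_⟩
    rw [hout]
    exact Function.minimalPeriod_eq_one_iff_isFixedPt.mpr hx.2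
  · intro q _
    rfl


/-- conjugating a `p`-element of `H ≥ P` into the Sylow subgroup `P` inside `H` -/
theorem exists_conj_mem_sylow [Finite G] {p : ℕ} [Fact p.Prime] (P : Sylow p G) (H : Subgroup G)
    (hPH : (P : Subgroup G) ≤ H) (w : G) (hw : w ∈ H) (hord : ∃ k : ℕ, orderOf w = p ^ k) :
    ∃ h ∈ H, h⁻¹ * w * h ∈ (P : Subgroup G) := by
  obtain ⟨k, hk⟩ := hord
  have hz : IsPGroup p (Subgroup.zpowers (⟨w, hw⟩ : ↥H)) := by
    apply IsPGroup.of_card (n := k)
    rw [Nat.card_zpowers, ← hk]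
    exact Subgroup.orderOf_mk w hw
  obtain ⟨R, hR⟩ := hz.exists_le_sylow
  obtain ⟨h, hh⟩ := MulAction.exists_smul_eq ↥H (P.subtype hPH) R
  have h1 : (⟨w, hw⟩ : ↥H) ∈ ((h • P.subtype hPH : Sylow p ↥H) : Subgroup ↥H) := by
    rw [hh]
    exact hR (Subgroup.mem_zpowers _)
  rw [mem_sylow_smul_iff, Sylow.coe_subtype, Subgroup.mem_subgroupOf] at h1
  exact ⟨h, h.2, h1⟩

theorem focal_le_of_weaklyClosed_engel [Finite G] {p : ℕ} [hp : Fact p.Prime] (P : Sylow p G) (Q : Subgroup G)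
    (hQ : Cfsg.IsWeaklyClosed Q (P : Subgroup G))
    (hE : ∀ u ∈ (P : Subgroup G), ∀ z ∈ Q, (fun y : G => y⁻¹ * z⁻¹ * y * z)^[p - 1] u = 1) :
    (P : Subgroup G) ⊓ commutator G ≤
      ⁅Subgroup.normalizer (Q : Set G), Subgroup.normalizer (Q : Set G)⁆ := by
  classical
  -- notation
  have hQn : (P : Subgroup G) ≤ Subgroup.normalizer (Q : Set G) := le_normalizer_of_weaklyClosed _ _ hQ
  have hQH : Q ≤ Subgroup.normalizer (Q : Set G) := Subgroup.le_normalizer
  generalize hH : Subgroup.normalizer (Q : Set G) = H at hQn hQH ⊢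
  let lam : ↥H →* Abelianization ↥H := Abelianization.of
  have hΛ1 : ∀ x : G, x ∈ H → (extd H lam x = 1 ↔ x ∈ ⁅H, H⁆) := by
    intro x hx
    rw [extd_of_mem H lam hx, ← MonoidHom.mem_ker, Abelianization.ker_of, ← Subgroup.map_subtype_commutator]
    constructor
    · intro h
      exact ⟨⟨x, hx⟩, h, rfl⟩
    · rintro ⟨y, hy, hyx⟩
      have : y = ⟨x, hx⟩ := Subtype.ext hyx
      rwa [← this]
  -- the main induction
  have main : ∀ (n : ℕ) (w : G), orderOf w = n → w ∈ H → w ∈ commutator G → (∃ k : ℕ, orderOf w = p ^ k) →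
      w ∈ ⁅H, H⁆ := by
    intro n
    induction n using Nat.strong_induction_on with
    | _ n IH =>
    intro w hwn hwH hwG hwp
    -- conjugate into `P`
    obtain ⟨h, hhH, hu⟩ := exists_conj_mem_sylow P H hQn w hwH hwp
    have huH : h⁻¹ * w * h ∈ H := hQn hu
    rw [← hΛ1 w hwH, ← extd_conj H lam hwH hhH]
    have huG : h⁻¹ * w * h ∈ commutator G := by
      have := (inferInstance : (commutator G).Normal).conj_mem w hwG h⁻¹
      rwa [inv_inv] at this
    have hord : orderOf (h⁻¹ * w * h) = n := by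
      have := (MulAut.conj h⁻¹).orderOf_eq w
      rw [MulAut.conj_apply, inv_inv] at this
      rw [this, hwn]
    have hup : ∃ k : ℕ, orderOf (h⁻¹ * w * h) = p ^ k := by
      obtain ⟨k, hk⟩ := hwp
      exact ⟨k, by rw [hord, ← hwn, hk]⟩
    generalize h⁻¹ * w * h = u at hu huH huG hord hup
    clear hwn hwH hwG hwp hhH h w
    -- now `u ∈ P ∩ G'` of order `n`
    by_cases hu1 : u = 1
    · rw [hu1, hΛ1 1 H.one_mem]; exact Subgroup.one_mem _
    obtain ⟨k, hk⟩ := hup
    have hk0 : k ≠ 0 := by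
      intro h0
      rw [h0, pow_zero, orderOf_eq_one_iff] at hk
      exact hu1 hk
    have hpn : p ∣ orderOf u := by
      rw [hk]; exact dvd_pow_self p hk0
    -- the induction hypothesis for conjugates of proper powers of `u`
    have IH' : ∀ (y : G) (r : ℕ), 1 < r → r ∣ orderOf u → y⁻¹ * u ^ r * y ∈ H →
        extd H lam (y⁻¹ * u ^ r * y) = 1 := by
      intro y r hr hrd hmem
      rw [hΛ1 _ hmem]
      have hr0 : r ≠ 0 := by omega
      have ho1 : orderOf (u ^ r) = orderOf u / r := orderOf_pow_of_dvd hr0 hrd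
      have ho2 : orderOf (y⁻¹ * u ^ r * y) = orderOf u / r := by
        have := (MulAut.conj y⁻¹).orderOf_eq (u ^ r)
        rw [MulAut.conj_apply, inv_inv] at this
        rw [this, ho1]
      have hlt : orderOf u / r < n := by
        rw [← hord]
        exact Nat.div_lt_self (orderOf_pos u) hr
      apply IH _ hlt _ ho2 hmem
      · have h1 : u ^ r ∈ commutator G := Subgroup.pow_mem _ huG r
        have := (inferInstance : (commutator G).Normal).conj_mem _ h1 y⁻¹
        rwa [inv_inv] at this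
      · have hdvd : orderOf u / r ∣ p ^ k := by
          rw [← hk]; exact Nat.div_dvd_of_dvd hrd
        obtain ⟨j, _, hj⟩ := (Nat.dvd_prime_pow hp.out).mp hdvd
        exact ⟨j, by rw [ho2, hj]⟩
    -- the transfer
    haveI : Fintype (G ⧸ H) := Fintype.ofFinite _
    have htr : MonoidHom.transfer lam u = 1 := by
      have := Abelianization.commutator_subset_ker (MonoidHom.transfer lam) huG
      exact this
    rw [transfer_eq_prod_fixed H lam u IH'] at htr
    have hx0 : ((1 : G) : G ⧸ H) ∈ (univ : Finset (G ⧸ H)).filter (fun x : G ⧸ H => u • x = x) := by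
      rw [mem_filter]
      refine ⟨mem_univ _, ?_⟩
      rw [smul_mk_eq_iff]
      simpa using huH
    rw [← Finset.mul_prod_erase _ _ hx0] at htr
    have hF0 : extd H lam ((((1 : G) : G ⧸ H)).out⁻¹ * u * (((1 : G) : G ⧸ H)).out) = extd H lam u := by
      have := extd_out_conj H lam u ((1 : G) : G ⧸ H) 1 rfl (by simpa using huH)
      simpa using this
    suffices hrest : ∏ x ∈ ((univ : Finset (G ⧸ H)).filter (fun x : G ⧸ H => u • x = x)).erase ((1 : G) : G ⧸ H),
        extd H lam (x.out⁻¹ * u * x.out) = 1 by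
      rw [hrest, mul_one, hF0] at htr
      exact htr
    -- the subgroups `D x = P ∩ Stab x`
    let Dx : G ⧸ H → Subgroup G := fun x => (P : Subgroup G) ⊓ MulAction.stabilizer G x
    have hDxP : ∀ x, Dx x ≤ (P : Subgroup G) := fun x => inf_le_left
    have hzc : ∀ D : Subgroup G, ∃ z : G, D ≤ (P : Subgroup G) → ¬ Q ≤ D →
        z ∈ Q ∧ z ∉ D ∧ z ^ p ∈ D ∧ z ∈ Subgroup.normalizer (D : Set G) := by
      intro D
      by_cases h : D ≤ (P : Subgroup G) ∧ ¬ Q ≤ D
      · obtain ⟨z, hz⟩ := exists_normalizing_elt p (P : Subgroup G) Q D P.2 hQ.1 (by rw [hH]; exact hQn) h.1 h.2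
        exact ⟨z, fun _ _ => hz⟩
      · exact ⟨1, fun h1 h2 => absurd ⟨h1, h2⟩ h⟩
    choose zc hzc using hzc
    -- (K1) only the base point has `Q ≤ D x`
    have K1 : ∀ x : G ⧸ H, x ≠ ((1 : G) : G ⧸ H) → ¬ Q ≤ Dx x := by
      intro x hx hle
      apply hx
      obtain ⟨g, rfl⟩ := QuotientGroup.mk_surjective x
      have hg : g ∈ Subgroup.normalizer (Q : Set G) := by
        apply mem_normalizer_of_conj_le P Q hQ g
        intro q hq
        rw [hH, ← smul_mk_eq_iff]
        exact (hle hq).2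
      rw [hH] at hg
      rw [QuotientGroup.eq]
      simpa using hg
    -- (K2) invariance of `D x` under elements of `P` normalising it
    have K2 : ∀ (x : G ⧸ H) (z : G), z ∈ (P : Subgroup G) → z ∈ Subgroup.normalizer ((Dx x : Subgroup G) : Set G) →
        Dx (z • x) = Dx x := by
      intro x z hzP hzN
      ext k
      have hzN' := Subgroup.mem_normalizer_iff''.mp hzN k
      rw [hzN']
      show k ∈ (P : Subgroup G) ⊓ MulAction.stabilizer G (z • x) ↔
        z⁻¹ * k * z ∈ (P : Subgroup G) ⊓ MulAction.stabilizer G x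
      rw [Subgroup.mem_inf, Subgroup.mem_inf, MulAction.mem_stabilizer_iff, MulAction.mem_stabilizer_iff]
      have e1 : k ∈ (P : Subgroup G) ↔ z⁻¹ * k * z ∈ (P : Subgroup G) := by
        constructor
        · intro hk
          exact Subgroup.mul_mem _ (Subgroup.mul_mem _ (Subgroup.inv_mem _ hzP) hk) hzP
        · intro hk
          have := Subgroup.mul_mem _ (Subgroup.mul_mem _ hzP hk) (Subgroup.inv_mem _ hzP)
          have e : z * (z⁻¹ * k * z) * z⁻¹ = k := by group
          rwa [e] at this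
      have e2 : k • z • x = z • x ↔ (z⁻¹ * k * z) • x = x := by
        rw [mul_smul, mul_smul, inv_smul_eq_iff]
      rw [e1, e2]
    have K0 : Q ≤ Dx ((1 : G) : G ⧸ H) := by
      intro q hq
      refine ⟨hQ.1 hq, ?_⟩
      show q ∈ MulAction.stabilizer G (((1 : G) : G ⧸ H))
      rw [MulAction.mem_stabilizer_iff, smul_mk_eq_iff]
      simpa using hQH hq
    -- the permutation `τ`
    let τf : G ⧸ H → G ⧸ H := fun x => if Q ≤ Dx x then x else zc (Dx x) • x
    have hτf_pos : ∀ x, Q ≤ Dx x → τf x = x := fun x h => if_pos h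
    have hτf_neg : ∀ x, ¬ Q ≤ Dx x → τf x = zc (Dx x) • x := fun x h => if_neg h
    have hτD : ∀ x, Dx (τf x) = Dx x := by
      intro x
      by_cases h : Q ≤ Dx x
      · rw [hτf_pos x h]
      · rw [hτf_neg x h]
        obtain ⟨h1, h2, h3, h4⟩ := hzc (Dx x) (hDxP x) h
        exact K2 x _ (hQ.1 h1) h4
    have hτinj : Function.Injective τf := by
      intro x y hxy
      have hD : Dx x = Dx y := by rw [← hτD x, ← hτD y, hxy]
      by_cases h : Q ≤ Dx x
      · have h' : Q ≤ Dx y := hD ▸ h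
        rw [hτf_pos x h, hτf_pos y h'] at hxy
        exact hxy
      · have h' : ¬ Q ≤ Dx y := hD ▸ h
        rw [hτf_neg x h, hτf_neg y h', hD] at hxy
        exact MulAction.injective _ hxy
    let τ : Equiv.Perm (G ⧸ H) := Equiv.ofBijective τf (Finite.injective_iff_bijective.mp hτinj)
    have hτ : ∀ x, τ x = τf x := fun x => rfl
    apply Cfsg.Agent.Lib.Helper33.prod_eq_one_of_perm_cycles τ (fun x : G ⧸ H => extd H lam (x.out⁻¹ * u * x.out)) _ _ rfl
    · -- invariance
      intro a ha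
      rw [mem_erase, mem_filter] at ha ⊢
      obtain ⟨ha1, -, hafix⟩ := ha
      have hQa : ¬ Q ≤ Dx a := K1 a ha1
      have huD : u ∈ Dx a := ⟨hu, hafix⟩
      refine ⟨?_, mem_univ _, ?_⟩
      · intro h1
        apply hQa
        rw [← hτD a, ← hτ a, h1]
        exact K0
      · have : u ∈ Dx (τf a) := by rw [hτD a]; exact huD
        exact this.2
    · -- the product over a cycle
      intro a ha
      rw [mem_erase, mem_filter] at ha
      obtain ⟨ha1, -, hafix⟩ := ha
      have hQa : ¬ Q ≤ Dx a := K1 a ha1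
      have huD : u ∈ Dx a := ⟨hu, hafix⟩
      obtain ⟨h1, h2, h3, h4⟩ := hzc (Dx a) (hDxP a) hQa
      obtain ⟨z, hzdef⟩ : ∃ z, zc (Dx a) = z := ⟨_, rfl⟩
      rw [hzdef] at h1 h2 h3 h4
      have hzP : z ∈ (P : Subgroup G) := hQ.1 h1
      have hziD : ∀ i : ℕ, Dx (z ^ i • a) = Dx a := fun i =>
        K2 a _ (Subgroup.pow_mem _ hzP i) (Subgroup.pow_mem _ h4 i)
      have hpow : ∀ i : ℕ, (τ ^ i) a = z ^ i • a := by
        intro i
        induction i with
        | zero => simp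
        | succ i ih =>
          rw [pow_succ', Equiv.Perm.mul_apply, ih, hτ, hτf_neg _ (by rw [hziD i]; exact hQa), hziD i, hzdef,
            pow_succ', mul_smul]
      have hper : Function.minimalPeriod τ a = p := by
        have hpp : Function.IsPeriodicPt τ p a := by
          show (⇑τ)^[p] a = a
          rw [Equiv.Perm.iterate_eq_pow, hpow]
          exact h3.2
        rcases (Nat.dvd_prime hp.out).mp hpp.minimalPeriod_dvd with h | h
        · exfalso
          rw [Function.minimalPeriod_eq_one_iff_isFixedPt] at h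
          have h' : τ a = a := h
          have h5 := hpow 1
          rw [pow_one, pow_one, h'] at h5
          exact h2 ⟨hzP, h5.symm⟩
        · exact h
      rw [hper]
      -- rewrite the factors
      obtain ⟨g, hg⟩ : ∃ g : G, (g : G ⧸ H) = a := QuotientGroup.mk_surjective a
      have hstab : ∀ d : G, d ∈ Dx a → g⁻¹ * d * g ∈ H := by
        intro d hd
        rw [← smul_mk_eq_iff, hg]
        exact hd.2
      have hzi : ∀ (i : ℕ), ∀ d ∈ Dx a, (z ^ i)⁻¹ * d * z ^ i ∈ Dx a := by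
        intro i d hd
        exact (Subgroup.mem_normalizer_iff''.mp (Subgroup.pow_mem _ h4 i) d).mp hd
      have hfac : ∀ i ∈ range p, extd H lam (((τ ^ i) a).out⁻¹ * u * ((τ ^ i) a).out) =
          (fun d : G => extd H lam (g⁻¹ * d * g)) ((z ^ i)⁻¹ * u * z ^ i) := by
        intro i _
        have hgi : ((z ^ i * g : G) : G ⧸ H) = (τ ^ i) a := by
          rw [hpow, ← hg]
          rfl
        have e : (z ^ i * g)⁻¹ * u * (z ^ i * g) = g⁻¹ * ((z ^ i)⁻¹ * u * z ^ i) * g := by group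
        have hmem : (z ^ i * g)⁻¹ * u * (z ^ i * g) ∈ H := by
          rw [e]; exact hstab _ (hzi i u huD)
        rw [extd_out_conj H lam u _ _ hgi hmem, e]
      rw [Finset.prod_congr rfl hfac]
      apply prod_conj_eq_one_of_engel p (Dx a) (fun d : G => extd H lam (g⁻¹ * d * g)) _ z u
        (fun d hd => by simpa using hzi 1 d hd) huD (hE u hu z h1)
      · intro i
        show extd H lam (g⁻¹ * ((z ^ i)⁻¹ * u * z ^ i) * g) ^ p = 1
        have hm := hstab _ (hzi i u huD)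
        rw [← extd_pow H lam hm]
        have e : (g⁻¹ * ((z ^ i)⁻¹ * u * z ^ i) * g) ^ p = (z ^ i * g)⁻¹ * u ^ p * (z ^ i * g) := by
          have e1 : g⁻¹ * ((z ^ i)⁻¹ * u * z ^ i) * g = (z ^ i * g)⁻¹ * u * (z ^ i * g)⁻¹⁻¹ := by group
          rw [e1, conj_pow, inv_inv]
        have hm2 : (z ^ i * g)⁻¹ * u ^ p * (z ^ i * g) ∈ H := by
          rw [← e]; exact H.pow_mem hm p
        rw [e]
        exact IH' _ p hp.out.one_lt hpn hm2
      · intro x hx y hy
        show extd H lam (g⁻¹ * (x * y) * g) = extd H lam (g⁻¹ * x * g) * extd H lam (g⁻¹ * y * g)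
        rw [← extd_mul H lam (hstab x hx) (hstab y hy)]
        congr 1
        group
  -- conclusion
  intro u hu
  obtain ⟨huP, huG⟩ := hu
  exact main _ u rfl (hQn huP) huG (by
    obtain ⟨k, hk⟩ := (IsPGroup.iff_orderOf.mp P.2) ⟨u, huP⟩
    exact ⟨k, by rw [← hk]; exact (Subgroup.orderOf_mk u huP).symm⟩)


end Cfsg.Agent.Lib.Helper70.HallWielandt
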