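import Mathlib
import Cfsg.Agent.S0071
import Cfsg.Agent.Lib.Helper65.NilpBasic
import Cfsg.Agent.Lib.Helper70.PNilpSection
import Cfsg.Prelude.Def_SolvableStructure

/-!
# Groups whose maximal subgroups of order divisible by `p` are nilpotent
-/

set_option autoImplicit false
set_option linter.unusedSectionVars false
set_option linter.style.haveILetI false

namespace Cfsg.Agent.Lib.Helper70

open Cfsg.Agent.Lib.Helper65
open scoped Pointwise

section MaxNilp

variable {G : Type*} [Group G] [Finite G]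

/-- Every maximal subgroup of order divisible by `p` is nilpotent. -/
def MaxNilp (p : ℕ) (G : Type*) [Group G] : Prop :=
  ∀ M : Subgroup G, IsCoatom M → p ∣ Nat.card M → Group.IsNilpotent M

theorem isNilpotent_of_comm {H : Type*} [Group H] (h : ∀ a b : H, a * b = b * a) :
    Group.IsNilpotent H := by
  letI : CommGroup H := { ‹Group H› with mul_comm := h }
  infer_instance

theorem MaxNilp.nilpotent_of_proper {p : ℕ} (h : MaxNilp p G) (L : Subgroup G) (hL : L ≠ ⊤)
    (hp : p ∣ Nat.card L) : Group.IsNilpotent L := by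
  obtain ⟨M, hM, hLM⟩ := (eq_top_or_exists_le_coatom L).resolve_left hL
  exact isNilpotent_of_le hLM (h M hM (hp.trans (Subgroup.card_dvd_of_le hLM)))

theorem commute_of_mem_nilpotent (L : Subgroup G) (hL : Group.IsNilpotent L) {x y : G}
    (hx : x ∈ L) (hy : y ∈ L) (hc : Nat.Coprime (orderOf x) (orderOf y)) : Commute x y := by
  haveI := hL
  have h1 := commute_of_coprime_orderOf (⟨x, hx⟩ : L) ⟨y, hy⟩
    (by rw [Subgroup.orderOf_mk, Subgroup.orderOf_mk]; exact hc)
  have h2 := congrArg Subtype.val h1.eq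
  exact h2

theorem coprime_orderOf_of_mem_sylow {p : ℕ} [Fact p.Prime] (P : Sylow p G) {x y : G}
    (hx : x ∈ P) (hy : (orderOf y).Coprime p) : Nat.Coprime (orderOf x) (orderOf y) := by
  obtain ⟨k, hk⟩ := P.2 ⟨x, hx⟩
  have hk' : x ^ p ^ k = 1 := by
    have := congrArg Subtype.val hk
    simpa using this
  have hdvd : orderOf x ∣ p ^ k := orderOf_dvd_of_pow_eq_one hk'
  exact Nat.Coprime.coprime_dvd_left hdvd (Nat.Coprime.pow_left k hy.symm)

theorem eq_one_of_mem_sylow_of_coprime {p : ℕ} [Fact p.Prime] (P : Sylow p G) {x : G}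
    (hx : x ∈ P) (hc : (orderOf x).Coprime p) : x = 1 := by
  have := coprime_orderOf_of_mem_sylow P hx hc
  rw [Nat.coprime_self] at this
  exact orderOf_eq_one_iff.mp this

theorem coprime_orderOf_of_mem {p : ℕ} (hp : p.Prime) (M : Subgroup G) (hpM : ¬ p ∣ Nat.card M)
    {y : G} (hy : y ∈ M) : (orderOf y).Coprime p :=
  Nat.Coprime.coprime_dvd_left (M.orderOf_dvd_natCard hy)
    ((Nat.Prime.coprime_iff_not_dvd hp).mpr hpM).symm

theorem dvd_card_of_ne_bot {p : ℕ} [hp : Fact p.Prime] {Q : Subgroup G} (hQ : IsPGroup p Q)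
    (hne : Q ≠ ⊥) : p ∣ Nat.card Q := by
  obtain ⟨n, hn⟩ := hQ.exists_card_eq
  rw [hn]
  apply dvd_pow_self
  intro h0
  rw [h0, pow_zero] at hn
  exact hne (Subgroup.card_eq_one.mp hn)

theorem exists_coatom_not_nilpotent (hmin : ¬ Cfsg.IsMinimalNonNilpotent G)
    (hnn : ¬ Group.IsNilpotent G) : ∃ M : Subgroup G, IsCoatom M ∧ ¬ Group.IsNilpotent M := by
  unfold Cfsg.IsMinimalNonNilpotent at hmin
  push Not at hmin
  obtain ⟨H, hH, hHn⟩ := hmin hnn
  obtain ⟨M, hM, hHM⟩ := (eq_top_or_exists_le_coatom H).resolve_left hH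
  exact ⟨M, hM, fun h => hHn (isNilpotent_of_le hHM h)⟩

/-- A `p`-group acting on a normal `p'`-subgroup fixes a Sylow `r`-subgroup. -/
theorem exists_invariant_sylow {p : ℕ} [Fact p.Prime] (P : Subgroup G) (hP : IsPGroup p P)
    (K : Subgroup G) [K.Normal] (hpK : ¬ p ∣ Nat.card K) (r : ℕ) [Fact r.Prime] :
    ∃ R₀ : Sylow r K, ∀ x ∈ P, ∀ w : K, w ∈ R₀ → (MulAut.conjNormal (H := K) x) w ∈ R₀ := by
  letI : MulAction P (Sylow r K) :=
    MulAction.compHom (Sylow r K) ((MulAut.conjNormal (H := K)).comp P.subtype)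
  have hnd : ¬ p ∣ Nat.card (Sylow r K) := by
    intro hd
    have R₁ : Sylow r K := default
    have h1 := Sylow.card_dvd_index R₁
    have h2 : (R₁ : Subgroup K).index ∣ Nat.card K := Subgroup.index_dvd_card _
    exact hpK (hd.trans (h1.trans h2))
  obtain ⟨R₀, hR₀⟩ := hP.nonempty_fixed_point_of_prime_not_dvd_card (Sylow r K) hnd
  refine ⟨R₀, fun x hx w hw => ?_⟩
  have hfix : (⟨x, hx⟩ : P) • R₀ = R₀ := hR₀ ⟨x, hx⟩
  have h3 : (MulAut.conjNormal (H := K) x) • R₀ = R₀ := hfix
  have h4 : (MulAut.conjNormal (H := K) x) • (R₀ : Subgroup K) = R₀ := by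
    rw [← Sylow.pointwise_smul_def, h3]
  have h5 := Subgroup.smul_mem_pointwise_smul w (MulAut.conjNormal (H := K) x)
    (R₀ : Subgroup K) hw
  rw [h4] at h5
  exact h5


/-- Decomposition of an element of `N ⊔ H` with `N` normal. -/
theorem exists_mul_of_mem_normal_sup {N H : Subgroup G} [N.Normal] {y : G} (hy : y ∈ N ⊔ H) :
    ∃ a ∈ N, ∃ b ∈ H, a * b = y := by
  rw [← SetLike.mem_coe, Subgroup.normal_mul, Set.mem_mul] at hy
  obtain ⟨a, ha, b, hb, hab⟩ := hy
  exact ⟨a, ha, b, hb, hab⟩

theorem exists_mul_of_mem_sup_normal {H N : Subgroup G} [N.Normal] {y : G} (hy : y ∈ H ⊔ N) :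
    ∃ a ∈ H, ∃ b ∈ N, a * b = y := by
  rw [← SetLike.mem_coe, Subgroup.mul_normal, Set.mem_mul] at hy
  obtain ⟨a, ha, b, hb, hab⟩ := hy
  exact ⟨a, ha, b, hb, hab⟩

/-- Case of a normal Sylow `p`-subgroup. -/
theorem caseB {p : ℕ} [hp : Fact p.Prime] (h : MaxNilp p G) (P : Sylow p G)
    (hPn : (P : Subgroup G).Normal) (hPne : (P : Subgroup G) ≠ ⊥)
    (M : Subgroup G) (hM : IsCoatom M) (hMn : ¬ Group.IsNilpotent M) (hpM : ¬ p ∣ Nat.card M) :
    ∃ Z K : Subgroup G, Z.Normal ∧ K.Normal ∧ Z ⊓ K = ⊥ ∧ Z ⊔ K = ⊤ ∧ Nat.card Z = p ∧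
      Cfsg.IsMinimalNonNilpotent K ∧ ¬ p ∣ Nat.card K := by
  haveI := hPn
  have hMcop : ∀ y ∈ M, (orderOf y).Coprime p := fun y hy =>
    coprime_orderOf_of_mem hp.out M hpM hy
  have hinf : (P : Subgroup G) ⊓ M = ⊥ := by
    rw [Subgroup.eq_bot_iff_forall]
    rintro x ⟨hxP, hxM⟩
    exact eq_one_of_mem_sylow_of_coprime P hxP (hMcop x hxM)
  have hsup : (P : Subgroup G) ⊔ M = ⊤ := by
    apply hM.2
    apply lt_of_le_of_ne le_sup_right
    intro heq
    apply hPne
    have hPM : (P : Subgroup G) ≤ M := by rw [heq]; exact le_sup_left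
    rw [← hinf]
    exact (inf_eq_left.mpr hPM).symm
  have hpP : p ∣ Nat.card (P : Subgroup G) := dvd_card_of_ne_bot P.2 hPne
  -- proper subgroups of `M`
  have hK₁ : ∀ K₁ : Subgroup G, K₁ ≤ M → K₁ ≠ M →
      Group.IsNilpotent K₁ ∧ ∀ k ∈ K₁, ∀ x ∈ P, Commute k x := by
    intro K₁ hle hne
    have hLtop : (P : Subgroup G) ⊔ K₁ ≠ ⊤ := by
      intro htop
      apply hne
      apply le_antisymm hle
      intro m hm
      have hm' : m ∈ (P : Subgroup G) ⊔ K₁ := by rw [htop]; exact Subgroup.mem_top m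
      obtain ⟨x, hx, k, hk, rfl⟩ := exists_mul_of_mem_normal_sup hm'
      have hxM : x ∈ M := by
        have : x = x * k * k⁻¹ := by group
        rw [this]
        exact M.mul_mem hm (M.inv_mem (hle hk))
      have hx1 : x ∈ (P : Subgroup G) ⊓ M := ⟨hx, hxM⟩
      rw [hinf, Subgroup.mem_bot] at hx1
      rw [hx1, one_mul]
      exact hk
    have hLnil : Group.IsNilpotent ((P : Subgroup G) ⊔ K₁ : Subgroup G) :=
      h.nilpotent_of_proper _ hLtop (hpP.trans (Subgroup.card_dvd_of_le le_sup_left))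
    refine ⟨isNilpotent_of_le le_sup_right hLnil, ?_⟩
    intro k hk x hx
    exact (commute_of_mem_nilpotent _ hLnil (le_sup_left (a := (P : Subgroup G)) hx)
      (le_sup_right (b := K₁) hk) (coprime_orderOf_of_mem_sylow P hx (hMcop k (hle hk)))).symm
  -- `M` is minimal non-nilpotent
  have hmin : Cfsg.IsMinimalNonNilpotent M := by
    refine ⟨hMn, fun H' hH' => ?_⟩
    have hle : H'.map M.subtype ≤ M := Subgroup.map_subtype_le H'
    have hne : H'.map M.subtype ≠ M := by
      intro heq
      apply hH'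
      rw [eq_top_iff]
      intro y _
      have : (y : G) ∈ H'.map M.subtype := by rw [heq]; exact y.2
      obtain ⟨y', hy', hyy'⟩ := this
      have : y' = y := Subtype.ext hyy'
      rw [← this]
      exact hy'
    haveI := (hK₁ _ hle hne).1
    exact Group.nilpotent_of_mulEquiv (H'.equivMapOfInjective M.subtype M.subtype_injective).symm
  -- `M` centralizes `P`
  have hcent : ∀ k ∈ M, ∀ x ∈ P, Commute k x := by
    intro k hk x hx
    have hle : Subgroup.zpowers k ≤ M := Subgroup.zpowers_le.mpr hk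
    have hne : Subgroup.zpowers k ≠ M := by
      intro heq
      apply hMn
      rw [← heq]
      apply isNilpotent_of_comm
      intro a b
      exact mul_comm' a b
    exact (hK₁ _ hle hne).2 k (Subgroup.mem_zpowers k) x hx
  -- `M` is normal
  have hMnormal : M.Normal := by
    rw [← Subgroup.normalizer_eq_top_iff, eq_top_iff, ← hsup]
    apply sup_le _ Subgroup.le_normalizer
    intro x hx
    rw [Subgroup.mem_normalizer_iff]
    intro y
    constructor
    · intro hy
      have := (hcent y hy x hx).eq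
      have e : x * y * x⁻¹ = y := by rw [← this]; group
      rw [e]; exact hy
    · intro hy
      have := (hcent _ hy x hx).eq
      have e : y = x * y * x⁻¹ := by
        have h2 : x * y * x⁻¹ * x = x * (x * y * x⁻¹) := this
        have h3 : x * y = x * (x * y * x⁻¹) := by rw [← h2]; group
        exact mul_left_cancel h3
      rw [e]; exact hy
  haveI := hMnormal
  -- `P` has order `p`
  have hcard : Nat.card (P : Subgroup G) = p := by
    obtain ⟨x, hx⟩ := exists_prime_orderOf_dvd_card' (G := (P : Subgroup G)) p hpP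
    have hxo : orderOf (x : G) = p := (Subgroup.orderOf_coe x).trans hx
    have hxM : (x : G) ∉ M := by
      intro hxM
      have hx1 : (x : G) ∈ (P : Subgroup G) ⊓ M := ⟨x.2, hxM⟩
      rw [hinf, Subgroup.mem_bot] at hx1
      rw [hx1, orderOf_one] at hxo
      exact hp.out.one_lt.ne hxo
    have htop : Subgroup.zpowers (x : G) ⊔ M = ⊤ := by
      apply hM.2
      apply lt_of_le_of_ne le_sup_right
      intro heq
      apply hxM
      rw [heq]
      exact (le_sup_left : Subgroup.zpowers (x : G) ≤ _) (Subgroup.mem_zpowers _)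
    have hzP : Subgroup.zpowers (x : G) ≤ P := Subgroup.zpowers_le.mpr x.2
    have hPz : (P : Subgroup G) ≤ Subgroup.zpowers (x : G) := by
      intro y hy
      have hy' : y ∈ Subgroup.zpowers (x : G) ⊔ M := by rw [htop]; exact Subgroup.mem_top y
      obtain ⟨z, hz, m, hm, rfl⟩ := exists_mul_of_mem_sup_normal hy'
      have hmP : m ∈ (P : Subgroup G) := by
        have : m = z⁻¹ * (z * m) := by group
        rw [this]
        exact Subgroup.mul_mem _ (Subgroup.inv_mem _ (hzP hz)) hy
      have hm1 : m ∈ (P : Subgroup G) ⊓ M := ⟨hmP, hm⟩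
      rw [hinf, Subgroup.mem_bot] at hm1
      rw [hm1, mul_one]
      exact hz
    have heq : (P : Subgroup G) = Subgroup.zpowers (x : G) := le_antisymm hPz hzP
    rw [heq, Nat.card_zpowers, hxo]
  exact ⟨P, M, hPn, hMnormal, hinf, hsup, hcard, hmin, hpM⟩


/-- The Frobenius condition holds when the Sylow `p`-subgroup is not normal. -/
theorem frobenius_cond {p : ℕ} [hp : Fact p.Prime] (h : MaxNilp p G) (P : Sylow p G)
    (hPn : ¬ (P : Subgroup G).Normal) :
    ∀ Q : Subgroup G, Q ≤ (P : Subgroup G) → ∀ g ∈ Subgroup.normalizer (Q : Set G),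
      Nat.Coprime (orderOf g) p → g ∈ Subgroup.centralizer (Q : Set G) := by
  intro Q hQP g hgN hgc
  rw [Subgroup.mem_centralizer_iff]
  intro x hx
  by_cases hQ : Q = ⊥
  · rw [hQ] at hx
    have : x = 1 := hx
    rw [this, one_mul, mul_one]
  set L : Subgroup G := Q ⊔ Subgroup.zpowers g with hL
  have hQL : Q ≤ L := le_sup_left
  have hgL : g ∈ L := (le_sup_right : Subgroup.zpowers g ≤ L) (Subgroup.mem_zpowers g)
  by_cases hLtop : L = ⊤
  · exfalso
    apply hPn
    have hQn : Q.Normal := by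
      rw [← Subgroup.normalizer_eq_top_iff, eq_top_iff, ← hLtop]
      exact sup_le Subgroup.le_normalizer (Subgroup.zpowers_le.mpr hgN)
    haveI := hQn
    have hPQ : (P : Subgroup G) ≤ Q := by
      intro y hy
      have hy' : y ∈ Q ⊔ Subgroup.zpowers g := by rw [← hL, hLtop]; exact Subgroup.mem_top y
      obtain ⟨a, ha, z, hz, rfl⟩ := exists_mul_of_mem_normal_sup hy'
      have hzP : z ∈ (P : Subgroup G) := by
        have : z = a⁻¹ * (a * z) := by group
        rw [this]
        exact Subgroup.mul_mem _ (Subgroup.inv_mem _ (hQP ha)) hy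
      have hzc : (orderOf z).Coprime p :=
        Nat.Coprime.coprime_dvd_left (orderOf_dvd_of_mem_zpowers hz) hgc
      rw [eq_one_of_mem_sylow_of_coprime P hzP hzc, mul_one]
      exact ha
    have : (P : Subgroup G) = Q := le_antisymm hPQ hQP
    rw [this]
    exact hQn
  · have hQp : IsPGroup p Q := P.2.to_le hQP
    have hpL : p ∣ Nat.card L := (dvd_card_of_ne_bot hQp hQ).trans (Subgroup.card_dvd_of_le hQL)
    have hLnil := h.nilpotent_of_proper L hLtop hpL
    exact (commute_of_mem_nilpotent L hLnil (hQL hx) hgL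
      (coprime_orderOf_of_mem_sylow P (hQP hx) hgc)).eq

/-- If the Sylow `p`-subgroup is not normal we get a contradiction. -/
theorem caseA_false {p : ℕ} [hp : Fact p.Prime] (h : MaxNilp p G) (P : Sylow p G)
    (hPn : ¬ (P : Subgroup G).Normal)
    (M : Subgroup G) (hM : IsCoatom M) (hMn : ¬ Group.IsNilpotent M) (hpM : ¬ p ∣ Nat.card M) :
    False := by
  have hPne : (P : Subgroup G) ≠ ⊥ := by
    intro h0
    apply hPn
    rw [h0]
    infer_instance
  obtain ⟨K, hKn, hKc⟩ := (Cfsg.Agent.S0071.result P).mpr (frobenius_cond h P hPn)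
  haveI := hKn
  have hMcop : ∀ y ∈ M, (orderOf y).Coprime p := fun y hy =>
    coprime_orderOf_of_mem hp.out M hpM hy
  have hMK : M ≤ K := fun y hy =>
    Cfsg.Agent.Lib.Helper34.mem_of_coprime_orderOf_of_isComplement' P K hKc y (hMcop y hy)
  have hinf : K ⊓ (P : Subgroup G) = ⊥ := hKc.disjoint.eq_bot
  have hKtop : K ≠ ⊤ := by
    intro htop
    apply hPne
    rw [htop, top_inf_eq] at hinf
    exact hinf
  have hMeq : M = K := by
    by_contra hne
    exact hKtop (hM.2 K (lt_of_le_of_ne hMK hne))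
  subst hMeq
  -- `P` centralizes every `P`-invariant Sylow subgroup of `M`
  have hcentR : ∀ (r : ℕ) [Fact r.Prime] (R₀ : Sylow r M),
      (∀ x ∈ P, ∀ w : M, w ∈ R₀ → (MulAut.conjNormal (H := M) x) w ∈ R₀) →
      ∀ w : M, w ∈ R₀ → ∀ x ∈ P, Commute x (w : G) := by
    intro r _ R₀ hinv w hw x hx
    set R : Subgroup G := (R₀ : Subgroup M).map M.subtype with hR
    have hRM : R ≤ M := Subgroup.map_subtype_le _
    have hwR : (w : G) ∈ R := ⟨w, hw, rfl⟩
    have hcop : Nat.Coprime (orderOf x) (orderOf (w : G)) :=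
      coprime_orderOf_of_mem_sylow P hx (hMcop _ w.2)
    have hconj : ∀ a ∈ P, ∀ y ∈ R, a * y * a⁻¹ ∈ R := by
      rintro a ha y ⟨w', hw', rfl⟩
      exact ⟨_, hinv a ha w' hw', by simp [MulAut.conjNormal_apply]⟩
    have hPN : (P : Subgroup G) ≤ Subgroup.normalizer (R : Set G) := by
      intro a ha
      rw [Subgroup.mem_normalizer_iff]
      intro y
      constructor
      · exact hconj a ha y
      · intro hy
        have := hconj a⁻¹ (Subgroup.inv_mem _ ha) _ hy
        simpa [mul_assoc] using this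
    have hpP : p ∣ Nat.card (P : Subgroup G) := dvd_card_of_ne_bot P.2 hPne
    by_cases hN : Subgroup.normalizer (R : Set G) = ⊤
    · have hRn : R.Normal := Subgroup.normalizer_eq_top_iff.mp hN
      haveI := hRn
      by_cases hLtop : (P : Subgroup G) ⊔ R = ⊤
      · exfalso
        apply hMn
        have hMR : M ≤ R := by
          intro y hy
          have hy' : y ∈ (P : Subgroup G) ⊔ R := by rw [hLtop]; exact Subgroup.mem_top y
          obtain ⟨a, ha, b, hb, rfl⟩ := exists_mul_of_mem_sup_normal hy'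
          have haM : a ∈ M := by
            have : a = a * b * b⁻¹ := by group
            rw [this]
            exact M.mul_mem hy (M.inv_mem (hRM hb))
          have ha1 : a ∈ M ⊓ (P : Subgroup G) := ⟨haM, ha⟩
          rw [hinf, Subgroup.mem_bot] at ha1
          rw [ha1, one_mul]
          exact hb
        have hRp : IsPGroup r R := R₀.2.map _
        have hMp : IsPGroup r M := hRp.to_le hMR
        exact hMp.isNilpotent
      · have hLnil := h.nilpotent_of_proper _ hLtop
          (hpP.trans (Subgroup.card_dvd_of_le le_sup_left))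
        exact commute_of_mem_nilpotent _ hLnil (le_sup_left (a := (P : Subgroup G)) hx)
          (le_sup_right (b := R) hwR) hcop
    · have hNnil := h.nilpotent_of_proper _ hN (hpP.trans (Subgroup.card_dvd_of_le hPN))
      exact commute_of_mem_nilpotent _ hNnil (hPN hx) (Subgroup.le_normalizer hwR) hcop
  -- hence `P` centralizes `M`
  set C : Subgroup M := (Subgroup.centralizer ((P : Subgroup G) : Set G)).subgroupOf M with hC
  have hCtop : C = ⊤ := by
    rw [← Subgroup.index_eq_one, Nat.eq_one_iff_not_exists_prime_dvd]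
    intro r hr hrd
    haveI : Fact r.Prime := ⟨hr⟩
    obtain ⟨R₀, hR₀⟩ := exists_invariant_sylow (P : Subgroup G) P.2 M hpM r
    have hle : (R₀ : Subgroup M) ≤ C := by
      intro w hw
      rw [hC, Subgroup.mem_subgroupOf, Subgroup.mem_centralizer_iff]
      intro x hx
      exact (hcentR r R₀ hR₀ w hw x hx).eq
    exact R₀.not_dvd_index (hrd.trans (Subgroup.index_dvd_of_le hle))
  apply hPn
  rw [← Subgroup.normalizer_eq_top_iff, eq_top_iff, ← hKc.sup_eq_top]
  apply sup_le _ Subgroup.le_normalizer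
  intro y hy
  apply Subgroup.centralizer_le_normalizer
  have : (⟨y, hy⟩ : M) ∈ C := by rw [hCtop]; exact Subgroup.mem_top _
  rw [hC, Subgroup.mem_subgroupOf] at this
  exact this


/-- Converse: in `Z × K` with `#Z = p` and `K` a minimal non-nilpotent `p'`-group, every
maximal subgroup of order divisible by `p` is nilpotent. -/
theorem maxNilp_of_prod {p : ℕ} [hp : Fact p.Prime] (Z K : Subgroup G) (hZn : Z.Normal)
    (hKn : K.Normal) (hinf : Z ⊓ K = ⊥) (hsup : Z ⊔ K = ⊤) (hZ : Nat.card Z = p)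
    (hK : Cfsg.IsMinimalNonNilpotent K) (hpK : ¬ p ∣ Nat.card K) : MaxNilp p G := by
  intro M hM hpM
  haveI := hZn
  haveI := hKn
  haveI : IsCyclic Z := isCyclic_of_prime_card hZ
  -- `Z` is central
  have hZc : ∀ z ∈ Z, ∀ g : G, z * g = g * z := by
    intro z hz g
    have hg : g ∈ Z ⊔ K := by rw [hsup]; exact Subgroup.mem_top g
    obtain ⟨a, ha, b, hb, rfl⟩ := exists_mul_of_mem_normal_sup hg
    have h1 : z * a = a * z := by
      have := mul_comm' (⟨z, hz⟩ : Z) ⟨a, ha⟩
      exact congrArg Subtype.val this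
    have h2 : z * b = b * z :=
      (Subgroup.commute_of_normal_of_disjoint Z K hZn hKn (disjoint_iff.mpr hinf) z b hz hb).eq
    calc z * (a * b) = (z * a) * b := by group
      _ = a * (z * b) := by rw [h1]; group
      _ = a * b * z := by rw [h2]; group
  -- `Z ≤ M`
  have hZM : Z ≤ M := by
    obtain ⟨y, hy⟩ := exists_prime_orderOf_dvd_card' (G := M) p hpM
    have hyo : orderOf (y : G) = p := (Subgroup.orderOf_coe y).trans hy
    have hyG : (y : G) ∈ Z ⊔ K := by rw [hsup]; exact Subgroup.mem_top _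
    obtain ⟨z, hz, k, hk, hzk⟩ := exists_mul_of_mem_normal_sup hyG
    have hcomm : Commute z k := hZc z hz k
    have hkn : k ^ Nat.card K = 1 := MinData.pow_card_eq_one_of_mem K hk
    have hzn : z ^ Nat.card K ∈ M := by
      have : (y : G) ^ Nat.card K = z ^ Nat.card K := by
        rw [← hzk, hcomm.mul_pow, hkn, mul_one]
      rw [← this]
      exact M.pow_mem y.2 _
    have hzp : z ^ p ∈ M := by
      have : z ^ p = 1 := by rw [← hZ]; exact MinData.pow_card_eq_one_of_mem Z hz
      rw [this]; exact M.one_mem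
    have hcop : Nat.Coprime (Nat.card K) p :=
      ((Nat.Prime.coprime_iff_not_dvd hp.out).mpr hpK).symm
    have hzM : z ∈ M := mem_of_pow_mem_of_coprime hcop hzn hzp
    have hz1 : z ≠ 1 := by
      intro h1
      rw [h1, one_mul] at hzk
      apply hpK
      rw [← hyo, ← hzk]
      exact K.orderOf_dvd_natCard hk
    have hle : Subgroup.zpowers z ≤ Z := Subgroup.zpowers_le.mpr hz
    have hcard : Nat.card Z ≤ Nat.card (Subgroup.zpowers z) := by
      rw [Nat.card_zpowers, hZ]
      have hdvd : orderOf z ∣ p := by rw [← hZ]; exact Z.orderOf_dvd_natCard hz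
      rcases (Nat.dvd_prime hp.out).mp hdvd with h | h
      · exact absurd (orderOf_eq_one_iff.mp h) hz1
      · exact h.ge
    have heq : Subgroup.zpowers z = Z := Subgroup.eq_of_le_of_card_ge hle hcard
    rw [← heq]
    exact Subgroup.zpowers_le.mpr hzM
  -- `M ⊓ K` is nilpotent
  have hK₁ne : (M ⊓ K).subgroupOf K ≠ ⊤ := by
    intro htop
    rw [Subgroup.subgroupOf_eq_top] at htop
    have hKM : K ≤ M := htop.trans inf_le_left
    apply hM.1
    rw [eq_top_iff, ← hsup]
    exact sup_le hZM hKM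
  have hK₁nil : Group.IsNilpotent (M ⊓ K : Subgroup G) := by
    haveI := hK.2 _ hK₁ne
    exact Group.nilpotent_of_mulEquiv (Subgroup.subgroupOfEquivOfLe (inf_le_right : M ⊓ K ≤ K))
  -- the map `M → G ⧸ Z`
  set f : M →* G ⧸ Z := (QuotientGroup.mk' Z).comp M.subtype with hf
  have hker : f.ker ≤ Subgroup.center M := by
    intro x hx
    rw [MonoidHom.mem_ker, hf, MonoidHom.comp_apply, QuotientGroup.mk'_apply,
      QuotientGroup.eq_one_iff] at hx
    rw [Subgroup.mem_center_iff]
    intro g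
    apply Subtype.ext
    exact (hZc _ hx g).symm
  have hrange : f.range ≤ (M ⊓ K).map (QuotientGroup.mk' Z) := by
    rintro _ ⟨m, rfl⟩
    have hmG : (m : G) ∈ Z ⊔ K := by rw [hsup]; exact Subgroup.mem_top _
    obtain ⟨z, hz, k, hk, hzk⟩ := exists_mul_of_mem_normal_sup hmG
    have hkM : k ∈ M := by
      have : k = z⁻¹ * (m : G) := by rw [← hzk]; group
      rw [this]
      exact M.mul_mem (M.inv_mem (hZM hz)) m.2
    refine ⟨k, ⟨hkM, hk⟩, ?_⟩
    rw [hf, MonoidHom.comp_apply, Subgroup.subtype_apply, ← hzk, QuotientGroup.mk'_apply,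
      QuotientGroup.mk'_apply, QuotientGroup.mk_mul, (QuotientGroup.eq_one_iff z).mpr hz, one_mul]
  have hmapnil : Group.IsNilpotent ((M ⊓ K).map (QuotientGroup.mk' Z) : Subgroup (G ⧸ Z)) := by
    haveI := hK₁nil
    exact Group.nilpotent_of_surjective ((QuotientGroup.mk' Z).subgroupMap (M ⊓ K))
      (MonoidHom.subgroupMap_surjective _ _)
  haveI : Group.IsNilpotent f.range := isNilpotent_of_le hrange hmapnil
  apply Subgroup.isNilpotent_of_ker_le_center f.rangeRestrict
  rw [MonoidHom.ker_rangeRestrict]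
  exact hker

end MaxNilp

end Cfsg.Agent.Lib.Helper70
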