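import Mathlib

/-!
# An elementary bound for the number of partitions

`p(n+2) ≤ p(n+1) + p(n)`, hence `p(n) ≤ fib (n+1)` and `p(n) ≤ 2^(n-2)` for `n ≥ 5`;
the number of conjugacy classes of `Perm α` is at most `p(card α)`.
-/

set_option autoImplicit false

namespace Cfsg.Agent.Lib.Helper70

open Nat

theorem card_partition_with_one (n : ℕ) :
    Fintype.card {p : (n + 2).Partition // 1 ∈ p.parts} = Fintype.card (n + 1).Partition :=
  Fintype.card_congr (Nat.Partition.partitionWithPartEquiv (n := n + 2) (a := 1) le_rfl (by omega))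

theorem parts_ne_zero_of_pos {n : ℕ} (hn : 0 < n) (p : n.Partition) : p.parts ≠ 0 := by
  intro h
  have := p.parts_sum
  rw [h] at this
  simp at this
  omega

/-- The chosen part of a partition of `n + 2`. -/
noncomputable def chosenPart {n : ℕ} (p : (n + 2).Partition) : ℕ :=
  Classical.choose (Multiset.exists_mem_of_ne_zero (parts_ne_zero_of_pos (by omega) p))

theorem chosenPart_mem {n : ℕ} (p : (n + 2).Partition) : chosenPart p ∈ p.parts :=
  Classical.choose_spec (Multiset.exists_mem_of_ne_zero (parts_ne_zero_of_pos (by omega) p))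

theorem two_le_chosenPart {n : ℕ} (p : (n + 2).Partition) (h1 : 1 ∉ p.parts) :
    2 ≤ chosenPart p := by
  have h := chosenPart_mem p
  have hpos := p.parts_pos h
  have hne : chosenPart p ≠ 1 := fun h' => h1 (h' ▸ h)
  omega

/-- Replace the chosen part `a` by `a - 2` ones. -/
noncomputable def noOneMap (n : ℕ) (p : {p : (n + 2).Partition // 1 ∉ p.parts}) : n.Partition where
  parts := p.1.parts.erase (chosenPart p.1) + Multiset.replicate (chosenPart p.1 - 2) 1
  parts_pos := by
    intro i hi
    rw [Multiset.mem_add] at hi
    rcases hi with hi | hi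
    · exact p.1.parts_pos (Multiset.mem_of_mem_erase hi)
    · rw [Multiset.eq_of_mem_replicate hi]
      exact Nat.one_pos
  parts_sum := by
    have h2 := two_le_chosenPart p.1 p.2
    have hs : chosenPart p.1 + (p.1.parts.erase (chosenPart p.1)).sum = n + 2 := by
      have := congrArg Multiset.sum (Multiset.cons_erase (chosenPart_mem p.1))
      rw [Multiset.sum_cons, p.1.parts_sum] at this
      exact this
    rw [Multiset.sum_add, Multiset.sum_replicate, smul_eq_mul, mul_one]
    omega

theorem noOneMap_injective (n : ℕ) : Function.Injective (noOneMap n) := by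
  intro p q h
  have hparts : p.1.parts.erase (chosenPart p.1) + Multiset.replicate (chosenPart p.1 - 2) 1 =
      q.1.parts.erase (chosenPart q.1) + Multiset.replicate (chosenPart q.1 - 2) 1 :=
    congrArg Nat.Partition.parts h
  have hcount : ∀ r : {p : (n + 2).Partition // 1 ∉ p.parts},
      Multiset.count 1 (r.1.parts.erase (chosenPart r.1) +
        Multiset.replicate (chosenPart r.1 - 2) 1) = chosenPart r.1 - 2 := by
    intro r
    rw [Multiset.count_add, Multiset.count_replicate_self, Multiset.count_eq_zero_of_notMem,
      zero_add]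
    intro hmem
    exact r.2 (Multiset.mem_of_mem_erase hmem)
  have ha : chosenPart p.1 = chosenPart q.1 := by
    have h1 := hcount p
    have h2 := hcount q
    rw [hparts] at h1
    have h3 := two_le_chosenPart p.1 p.2
    have h4 := two_le_chosenPart q.1 q.2
    omega
  rw [ha] at hparts
  have he : p.1.parts.erase (chosenPart q.1) = q.1.parts.erase (chosenPart q.1) :=
    add_right_cancel hparts
  apply Subtype.ext
  apply Nat.Partition.ext
  calc p.1.parts = chosenPart p.1 ::ₘ p.1.parts.erase (chosenPart p.1) :=
        (Multiset.cons_erase (chosenPart_mem p.1)).symm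
    _ = chosenPart q.1 ::ₘ q.1.parts.erase (chosenPart q.1) := by rw [ha, he]
    _ = q.1.parts := Multiset.cons_erase (chosenPart_mem q.1)

theorem card_partition_add_two_le (n : ℕ) :
    Fintype.card (n + 2).Partition ≤ Fintype.card (n + 1).Partition + Fintype.card n.Partition := by
  have h1 := card_partition_with_one n
  have h2 : Fintype.card {p : (n + 2).Partition // 1 ∉ p.parts} ≤ Fintype.card n.Partition :=
    Fintype.card_le_of_injective _ (noOneMap_injective n)
  have h3 := Fintype.card_subtype_compl (fun p : (n + 2).Partition => 1 ∈ p.parts)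
  have h4 : Fintype.card {p : (n + 2).Partition // 1 ∈ p.parts} ≤ Fintype.card (n + 2).Partition :=
    Fintype.card_subtype_le _
  omega

theorem card_partition_le_fib (n : ℕ) : Fintype.card n.Partition ≤ Nat.fib (n + 1) := by
  induction n using Nat.twoStepInduction with
  | zero => simp
  | one => simp
  | more n h0 h1 =>
    have := card_partition_add_two_le n
    have hf : Nat.fib (n + 2 + 1) = Nat.fib (n + 1) + Nat.fib (n + 2) := Nat.fib_add_two
    have h1' : Fintype.card (n + 1).Partition ≤ Nat.fib (n + 2) := h1
    omega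

theorem fib_le_two_pow (k : ℕ) : Nat.fib (k + 6) ≤ 2 ^ (k + 3) ∧ Nat.fib (k + 7) ≤ 2 ^ (k + 4) := by
  induction k with
  | zero => decide
  | succ k ih =>
    refine ⟨ih.2, ?_⟩
    have hf : Nat.fib (k + 8) = Nat.fib (k + 6) + Nat.fib (k + 7) := Nat.fib_add_two
    have h1 : k + 1 + 7 = k + 8 := by ring
    rw [h1, hf]
    have h2 : 2 ^ (k + 1 + 4) = 2 ^ (k + 3) + 2 ^ (k + 3) + 2 ^ (k + 4) := by ring
    rw [h2]
    have h3 := ih.1
    have h4 := ih.2
    omega

theorem card_partition_le_two_pow (n : ℕ) (hn : 5 ≤ n) :
    Fintype.card n.Partition ≤ 2 ^ (n - 2) := by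
  obtain ⟨k, rfl⟩ : ∃ k, n = k + 5 := ⟨n - 5, by omega⟩
  have h1 := card_partition_le_fib (k + 5)
  have h2 := (fib_le_two_pow k).1
  have h3 : k + 5 - 2 = k + 3 := by omega
  rw [h3]
  exact h1.trans h2

/-- The number of conjugacy classes of `Perm α` is at most the number of partitions. -/
theorem card_conjClasses_perm_le {α : Type*} [Fintype α] [DecidableEq α] :
    Nat.card (ConjClasses (Equiv.Perm α)) ≤ Fintype.card (Fintype.card α).Partition := by
  rw [← Nat.card_eq_fintype_card]
  let f : ConjClasses (Equiv.Perm α) → (Fintype.card α).Partition :=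
    Quotient.lift (fun σ : Equiv.Perm α => σ.partition)
      (fun a b h => Equiv.Perm.partition_eq_of_isConj.mp h)
  apply Nat.card_le_card_of_injective f
  intro a b
  induction a using Quotient.inductionOn with | _ a => ?_
  induction b using Quotient.inductionOn with | _ b => ?_
  intro h
  exact Quotient.sound (Equiv.Perm.partition_eq_of_isConj.mpr h)

theorem card_conjClasses_perm_fin_le (n : ℕ) (hn : 5 ≤ n) :
    Nat.card (ConjClasses (Equiv.Perm (Fin n))) ≤ 2 ^ (n - 2) := by
  have h1 := card_conjClasses_perm_le (α := Fin n)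
  have h2 := card_partition_le_two_pow (Fintype.card (Fin n)) (by simpa using hn)
  have h3 := h1.trans h2
  simpa using h3

end Cfsg.Agent.Lib.Helper70
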