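import Mathlib
import Cfsg.Prelude.Def_OddOrderLocal
import Cfsg.Prelude.Def_CaseTheorems
import Cfsg.Agent.S0126
import Cfsg.Agent.Lib.Helper24.PGroupBasic
import Cfsg.Agent.Lib.Helper24.SectionRank
import Cfsg.Agent.Lib.Helper73.Suzuki

/-!
# Rank two `p`-groups, `p` odd: the central `Ω₁` lemma (helper70, for S3888)

`P` a `p`-group, `p` odd, `W ≤ Z(P)` elementary abelian of order `p ^ 2` containing every element of
order `p`.  Then
* `omega_two_step`: if `P / W` is not cyclic there is `M` (`= Ω₂(P)`) of order `p ^ 4` on which the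
  `p`-th power map is a homomorphism onto `W` with kernel `W`, `[M, P] ≤ W`, and
  `x ∈ M ↔ x ^ p ∈ W`;
* `index_pow_le_of_central_omega`: `|P : ℧₁(P)| ≤ p ^ 2`.
-/

set_option autoImplicit false

open scoped commutatorElement

namespace Cfsg.Agent.Lib.Helper70.R2

universe u

/-- `p`-th power of a product when the commutator is central (for the two factors) of order
dividing `p`, `p` odd. -/
theorem mul_pow_prime_of_comm_central {G : Type*} [Group G] {p : ℕ} (hp : p.Prime) (hp2 : p ≠ 2)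
    (x y : G) (hzx : Commute ⁅y, x⁆ x) (hzy : Commute ⁅y, x⁆ y) (hz : ⁅y, x⁆ ^ p = 1) :
    (x * y) ^ p = x ^ p * y ^ p := by
  have h1 : y * x = ⁅y, x⁆ * x * y := by rw [commutatorElement_def]; group
  have h2 := Cfsg.Agent.Lib.Helper24.mul_pow_of_central_comm x y ⁅y, x⁆ h1 hzx hzy p
  have h3 : p ∣ p.choose 2 := by
    apply hp.dvd_choose_self (by norm_num)
    have := hp.two_le
    omega
  obtain ⟨k, hk⟩ := h3
  rw [h2, hk, pow_mul, hz, one_pow, mul_one]

theorem omega_two_step {P : Type u} [Group P] [Finite P] {p : ℕ} [hp : Fact p.Prime] (hp2 : p ≠ 2)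
    (hP : IsPGroup p P) (W : Subgroup P) [hWn : W.Normal] (hWc : W ≤ Subgroup.center P)
    (hWcard : Nat.card W = p ^ 2) (hWexp : ∀ w ∈ W, w ^ p = 1) (hW : ∀ x : P, x ^ p = 1 → x ∈ W)
    (hnc : ¬ IsCyclic (P ⧸ W)) :
    ∃ M : Subgroup P, M.Normal ∧ W ≤ M ∧ Nat.card M = p ^ 4 ∧ (∀ x : P, x ∈ M ↔ x ^ p ∈ W) ∧
      (∀ m ∈ M, ∀ g : P, ⁅m, g⁆ ∈ W) ∧ (∀ a ∈ M, ∀ b ∈ M, (a * b) ^ p = a ^ p * b ^ p) ∧
      (∀ w ∈ W, ∃ m ∈ M, m ^ p = w) := by
  obtain ⟨A, hAn, hAel, hAcard⟩ := Cfsg.Agent.S0126.result hp2 (hP.to_quotient W) hnc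
  obtain ⟨hAcomm, hAexp⟩ := hAel
  set M : Subgroup P := A.comap (QuotientGroup.mk' W) with hM
  have hMn : M.Normal := by rw [hM]; exact Subgroup.Normal.comap hAn _
  have hWM : W ≤ M := by
    intro w hw
    rw [hM, Subgroup.mem_comap, QuotientGroup.mk'_apply, (QuotientGroup.eq_one_iff w).mpr hw]
    exact A.one_mem
  have hcen : ∀ w ∈ W, ∀ g : P, Commute w g := fun w hw g =>
    ((Subgroup.mem_center_iff.mp (hWc hw)) g).symm
  have hMcard : Nat.card M = p ^ 4 := by
    have h1 := Cfsg.Agent.Lib.Helper24.index_subgroupOf_comap W A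
    have h2 := (W.subgroupOf M).card_mul_index
    rw [h1, hAcard, Cfsg.Agent.Lib.Helper24.card_subgroupOf_eq_card_inf, inf_of_le_left hWM,
      hWcard] at h2
    rw [← h2]; ring
  have hpowW : ∀ m ∈ M, m ^ p ∈ W := by
    intro m hm
    have h1 : (QuotientGroup.mk' W m) ^ p = 1 := hAexp _ hm
    rw [← map_pow, QuotientGroup.mk'_apply, QuotientGroup.eq_one_iff] at h1
    exact h1
  have hcommW : ∀ a ∈ M, ∀ b ∈ M, ⁅a, b⁆ ∈ W := by
    intro a ha b hb
    have h1 : (⟨QuotientGroup.mk' W a, ha⟩ : A) * ⟨QuotientGroup.mk' W b, hb⟩ =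
        ⟨QuotientGroup.mk' W b, hb⟩ * ⟨QuotientGroup.mk' W a, ha⟩ :=
      hAcomm.is_comm.comm _ _
    have h2 : QuotientGroup.mk' W a * QuotientGroup.mk' W b =
        QuotientGroup.mk' W b * QuotientGroup.mk' W a := congrArg Subtype.val h1
    have h3 : QuotientGroup.mk' W ⁅a, b⁆ = 1 := by
      rw [map_commutatorElement, commutatorElement_eq_one_iff_mul_comm]
      exact h2
    rwa [QuotientGroup.mk'_apply, QuotientGroup.eq_one_iff] at h3
  have hmulpow : ∀ a ∈ M, ∀ b ∈ M, (a * b) ^ p = a ^ p * b ^ p := by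
    intro a ha b hb
    have hc := hcommW b hb a ha
    exact mul_pow_prime_of_comm_central hp.out hp2 a b (hcen _ hc a) (hcen _ hc b) (hWexp _ hc)
  -- the power homomorphism
  let φ : M →* W :=
    { toFun := fun m => ⟨(m : P) ^ p, hpowW m m.2⟩
      map_one' := by ext; simp
      map_mul' := fun a b => by
        ext
        simp only [Subgroup.coe_mul]
        exact hmulpow a a.2 b b.2 }
  have hker : φ.ker = W.subgroupOf M := by
    ext m
    rw [MonoidHom.mem_ker, Subgroup.mem_subgroupOf]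
    constructor
    · intro h
      have : (m : P) ^ p = 1 := congrArg Subtype.val h
      exact hW _ this
    · intro h
      ext
      exact hWexp _ h
  have hsurj : Function.Surjective φ := by
    rw [← MonoidHom.range_eq_top]
    apply Subgroup.eq_top_of_card_eq
    have h1 := Subgroup.card_mul_index φ.ker
    rw [Subgroup.index_ker, hker, Cfsg.Agent.Lib.Helper24.card_subgroupOf_eq_card_inf,
      inf_of_le_left hWM, hWcard, hMcard] at h1
    rw [hWcard]
    have hp0 : 0 < p ^ 2 := pow_pos hp.out.pos 2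
    have : p ^ 2 * Nat.card φ.range = p ^ 2 * p ^ 2 := by rw [h1]; ring
    exact Nat.eq_of_mul_eq_mul_left hp0 this
  have honto : ∀ w ∈ W, ∃ m ∈ M, m ^ p = w := by
    intro w hw
    obtain ⟨m, hm⟩ := hsurj ⟨w, hw⟩
    exact ⟨m, m.2, congrArg Subtype.val hm⟩
  have hcentral : ∀ m ∈ M, ∀ g : P, ⁅m, g⁆ ∈ W := by
    intro m hm g
    have hm' : g * m * g⁻¹ ∈ M := hMn.conj_mem m hm g
    have hm'i : (g * m * g⁻¹)⁻¹ ∈ M := M.inv_mem hm'
    have e : ⁅m, g⁆ = m * (g * m * g⁻¹)⁻¹ := by rw [commutatorElement_def]; group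
    rw [e]
    apply hW
    rw [hmulpow m hm _ hm'i, inv_pow, conj_pow]
    have h1 : g * m ^ p * g⁻¹ = m ^ p := by
      have := (hcen _ (hpowW m hm) g).eq
      rw [← this, mul_inv_cancel_right]
    rw [h1, mul_inv_cancel]
  have hmem : ∀ x : P, x ∈ M ↔ x ^ p ∈ W := by
    intro x
    refine ⟨hpowW x, fun hx => ?_⟩
    obtain ⟨m, hm, hmx⟩ := honto _ hx
    have hmi : m⁻¹ ∈ M := M.inv_mem hm
    have hc := hcentral m⁻¹ hmi x
    have h1 : (x * m⁻¹) ^ p = x ^ p * (m⁻¹) ^ p :=
      mul_pow_prime_of_comm_central hp.out hp2 x m⁻¹ (hcen _ hc x) (hcen _ hc _) (hWexp _ hc)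
    rw [inv_pow, hmx, mul_inv_cancel] at h1
    have h2 : x * m⁻¹ ∈ M := hWM (hW _ h1)
    have : x = x * m⁻¹ * m := by group
    rw [this]
    exact M.mul_mem h2 hm
  exact ⟨M, hMn, hWM, hMcard, hmem, hcentral, hmulpow, honto⟩

theorem index_pow_le_aux {p : ℕ} [hp : Fact p.Prime] (hp2 : p ≠ 2) :
    ∀ (n : ℕ) (P : Type u) [Group P] [Finite P], Nat.card P ≤ n → IsPGroup p P →
      ∀ W : Subgroup P, W ≤ Subgroup.center P → Nat.card W = p ^ 2 → (∀ w ∈ W, w ^ p = 1) →
      (∀ x : P, x ^ p = 1 → x ∈ W) →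
      (Subgroup.closure {y : P | ∃ g : P, y = g ^ p}).index ≤ p ^ 2 := by
  intro n
  induction n with
  | zero =>
    intro P _ _ hc
    have := Nat.card_pos (α := P)
    omega
  | succ n ih =>
    intro P _ _ hc hP W hWc hWcard hWexp hW
    have hWn : W.Normal := ⟨fun w hw g => by
      have := (Subgroup.mem_center_iff.mp (hWc hw)) g
      rw [this, mul_inv_cancel_right]; exact hw⟩
    have hp1 := hp.out.one_lt
    by_cases hcyc : IsCyclic (P ⧸ W)
    · have hcomm : ∀ a b : P, a * b = b * a := by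
        have hmc : IsMulCommutative P :=
          MonoidHom.isMulCommutative_of_isCyclic_of_ker_le_center (QuotientGroup.mk' W)
            (by rw [QuotientGroup.ker_mk']; exact hWc)
        exact fun a b => hmc.is_comm.comm a b
      let φ : P →* P :=
        { toFun := fun x => x ^ p
          map_one' := one_pow p
          map_mul' := fun a b => (Commute.mul_pow (hcomm a b) p) }
      have hker : Nat.card φ.ker = p ^ 2 := by
        have : φ.ker = W := by
          ext x
          rw [MonoidHom.mem_ker]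
          exact ⟨fun h => hW x h, fun h => hWexp x h⟩
        rw [this, hWcard]
      have hle : φ.range ≤ Subgroup.closure {y : P | ∃ g : P, y = g ^ p} := by
        rintro _ ⟨g, rfl⟩
        exact Subgroup.subset_closure ⟨g, rfl⟩
      have h1 := Subgroup.index_dvd_of_le hle
      have h2 : φ.range.index = p ^ 2 := by
        have h3 := Subgroup.card_mul_index φ.ker
        rw [Subgroup.index_ker, hker] at h3
        have h4 := Subgroup.card_mul_index φ.range
        have hpos : 0 < Nat.card φ.range := Nat.card_pos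
        apply Nat.eq_of_mul_eq_mul_left hpos
        rw [h4, ← h3]; ring
      rw [h2] at h1
      exact Nat.le_of_dvd (pow_pos hp.out.pos 2) h1
    · obtain ⟨M, hMn, hWM, hMcard, hmem, hcentral, hmulpow, honto⟩ :=
        omega_two_step hp2 hP W hWc hWcard hWexp hW hcyc
      set A : Subgroup (P ⧸ W) := M.map (QuotientGroup.mk' W) with hA
      have hAcard : Nat.card A = p ^ 2 := by
        have h1 := Cfsg.Agent.Lib.Helper73.card_eq_card_mul_card_map_mk W M hWM
        rw [hMcard, hWcard] at h1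
        have hp0 : 0 < p ^ 2 := pow_pos hp.out.pos 2
        have : p ^ 2 * Nat.card A = p ^ 2 * p ^ 2 := by rw [← h1]; ring
        exact Nat.eq_of_mul_eq_mul_left hp0 this
      have hAc : A ≤ Subgroup.center (P ⧸ W) := by
        rintro _ ⟨m, hm, rfl⟩
        rw [Subgroup.mem_center_iff]
        intro q
        obtain ⟨g, rfl⟩ := QuotientGroup.mk'_surjective W q
        have h1 : QuotientGroup.mk' W ⁅m, g⁆ = 1 := by
          rw [QuotientGroup.mk'_apply, QuotientGroup.eq_one_iff]
          exact hcentral m hm g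
        rw [map_commutatorElement, commutatorElement_eq_one_iff_mul_comm] at h1
        exact h1.symm
      have hAexp : ∀ a ∈ A, a ^ p = 1 := by
        rintro _ ⟨m, hm, rfl⟩
        rw [← map_pow, QuotientGroup.mk'_apply, QuotientGroup.eq_one_iff]
        exact (hmem m).mp hm
      have hAall : ∀ q : P ⧸ W, q ^ p = 1 → q ∈ A := by
        intro q hq
        obtain ⟨g, rfl⟩ := QuotientGroup.mk'_surjective W q
        rw [← map_pow, QuotientGroup.mk'_apply, QuotientGroup.eq_one_iff] at hq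
        exact ⟨g, (hmem g).mpr hq, rfl⟩
      have hQcard : Nat.card (P ⧸ W) ≤ n := by
        have h1 := Subgroup.card_eq_card_quotient_mul_card_subgroup W
        rw [hWcard] at h1
        have hpos : 0 < Nat.card (P ⧸ W) := Nat.card_pos
        have h4 : 4 ≤ p ^ 2 := by nlinarith [hp.out.two_le]
        nlinarith
      have hih := ih (P ⧸ W) hQcard (hP.to_quotient W) A hAc hAcard hAexp hAall
      have hWV : W ≤ Subgroup.closure {y : P | ∃ g : P, y = g ^ p} := by
        intro w hw
        obtain ⟨m, -, hmw⟩ := honto w hw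
        exact Subgroup.subset_closure ⟨m, hmw.symm⟩
      have hmap : (Subgroup.closure {y : P | ∃ g : P, y = g ^ p}).map (QuotientGroup.mk' W) =
          Subgroup.closure {y : P ⧸ W | ∃ g : P ⧸ W, y = g ^ p} := by
        rw [MonoidHom.map_closure]
        congr 1
        ext q
        constructor
        · rintro ⟨y, ⟨g, rfl⟩, rfl⟩
          exact ⟨QuotientGroup.mk' W g, by rw [map_pow]⟩
        · rintro ⟨q', rfl⟩
          obtain ⟨g, rfl⟩ := QuotientGroup.mk'_surjective W q'
          exact ⟨g ^ p, ⟨g, rfl⟩, by rw [map_pow]⟩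
      rw [← hmap, Subgroup.index_map_eq _ (QuotientGroup.mk'_surjective W)
        (by rw [QuotientGroup.ker_mk']; exact hWV)] at hih
      exact hih

/-- **Lemma M1.** `p` odd, `W` central elementary abelian of order `p ^ 2` containing all elements
of order `p`: then `|P : ℧₁(P)| ≤ p ^ 2`. -/
theorem index_pow_le_of_central_omega {P : Type u} [Group P] [Finite P] {p : ℕ} [hp : Fact p.Prime]
    (hp2 : p ≠ 2) (hP : IsPGroup p P) (W : Subgroup P) (hWc : W ≤ Subgroup.center P)
    (hWcard : Nat.card W = p ^ 2) (hWexp : ∀ w ∈ W, w ^ p = 1) (hW : ∀ x : P, x ^ p = 1 → x ∈ W) :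
    (Subgroup.closure {y : P | ∃ g : P, y = g ^ p}).index ≤ p ^ 2 :=
  index_pow_le_aux hp2 (Nat.card P) P le_rfl hP W hWc hWcard hWexp hW

end Cfsg.Agent.Lib.Helper70.R2
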