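import Mathlib
import Cfsg.Prelude.Def_OddOrderLocal
import Cfsg.Prelude.Def_CaseTheorems
import Cfsg.Agent.Lib.Helper24.ExtraSp
import Cfsg.Agent.Lib.Helper24.SCN
import Cfsg.Agent.Lib.Helper24.Blackburn2
import Cfsg.Agent.Lib.Helper73.Suzuki
import Cfsg.Agent.Lib.Helper70.R2M1

/-!
# Rank two `3`-groups, Case B: the context (helper70, for S3888)

`W` a normal elementary abelian subgroup of order `9` of a `3`-group `G` whose centralizer `C` has
index `3` and contains no element of order `3` outside `W`.  `Z₀ = W ∩ Z(G)` has order `3`,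
`[W, G] ≤ Z₀`, and if some `x ∉ C` has `C_C(x) ≤ Z₀` then `G` has maximal class (Suzuki).
-/

set_option autoImplicit false

open scoped commutatorElement

namespace Cfsg.Agent.Lib.Helper70.R2

universe u

structure BCtx (G : Type u) [Group G] where
  W : Subgroup G
  hWn : W.Normal
  hWcard : Nat.card W = 3 ^ 2
  hWexp : ∀ w ∈ W, w ^ 3 = 1
  hWcomm : ∀ a ∈ W, ∀ b ∈ W, a * b = b * a
  hrk : ∀ t ∈ Subgroup.centralizer (W : Set G), t ^ 3 = 1 → t ∈ W
  hidx : (Subgroup.centralizer (W : Set G)).index = 3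

namespace BCtx

variable {G : Type u} [Group G] (c : BCtx G)

def C : Subgroup G := Subgroup.centralizer (c.W : Set G)

def Z₀ : Subgroup G := c.W ⊓ Subgroup.center G

theorem C_normal : c.C.Normal := by
  have := c.hWn
  exact Subgroup.normal_centralizer

theorem W_le_C : c.W ≤ c.C := by
  intro w hw
  rw [C, Subgroup.mem_centralizer_iff]
  intro v hv
  exact c.hWcomm v hv w hw

theorem comm_C {t w : G} (ht : t ∈ c.C) (hw : w ∈ c.W) : t * w = w * t :=
  (Subgroup.mem_centralizer_iff.mp ht w hw).symm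

theorem Z₀_le_W : c.Z₀ ≤ c.W := inf_le_left

theorem Z₀_central {z : G} (hz : z ∈ c.Z₀) (g : G) : z * g = g * z :=
  ((Subgroup.mem_center_iff.mp (Subgroup.mem_inf.mp hz).2) g).symm

theorem Z₀_le_C : c.Z₀ ≤ c.C := c.Z₀_le_W.trans c.W_le_C

theorem Z₀_normal : c.Z₀.Normal := by
  constructor
  intro z hz g
  rw [← c.Z₀_central hz g, mul_inv_cancel_right]
  exact hz

theorem index_C : c.C.index = 3 := c.hidx

theorem W_not_central : ¬ c.W ≤ Subgroup.center G := by
  intro h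
  have : c.C = ⊤ := by
    rw [eq_top_iff]
    intro g _
    rw [C, Subgroup.mem_centralizer_iff]
    intro w hw
    exact ((Subgroup.mem_center_iff.mp (h hw)) g).symm
  have h2 := c.index_C
  rw [this, Subgroup.index_top] at h2
  omega

theorem decomp {x : G} (hx : x ∉ c.C) (g : G) : ∃ i : ℕ, ∃ h ∈ c.C, g = x ^ i * h := by
  have := c.C_normal
  have : Fact (Nat.Prime 3) := ⟨Nat.prime_three⟩
  exact Cfsg.Agent.Lib.Helper24.exists_pow_mul_of_index_prime c.C c.index_C x hx g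

variable [Finite G]

omit [Finite G] in
theorem mem_Z₀_of_comm {x : G} (hx : x ∉ c.C) {w : G} (hw : w ∈ c.W) (hwx : w * x = x * w) :
    w ∈ c.Z₀ := by
  refine Subgroup.mem_inf.mpr ⟨hw, ?_⟩
  rw [Subgroup.mem_center_iff]
  intro g
  obtain ⟨i, h, hh, rfl⟩ := c.decomp hx g
  have h1 : Commute w x := hwx
  have h2 : Commute w h := (c.comm_C hh hw).symm
  exact ((h1.pow_right i).mul_right h2).eq.symm

theorem Z₀_facts (hG : IsPGroup 3 G) :
    Nat.card c.Z₀ = 3 ∧ ∀ w ∈ c.W, ∀ g : G, w⁻¹ * (g⁻¹ * w * g) ∈ c.Z₀ := by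
  have : Fact (Nat.Prime 3) := ⟨Nat.prime_three⟩
  have := c.hWn
  obtain ⟨z, e, hzW, hzc, hzcard, heW, hez, hec, hWeq⟩ :=
    Cfsg.Agent.Lib.Helper24.exists_central_decomp 3 hG c.W c.hWcard c.W_not_central
  have hZle : Subgroup.zpowers z ≤ c.Z₀ := by
    rw [Subgroup.zpowers_le]
    exact Subgroup.mem_inf.mpr ⟨hzW, hzc⟩
  have hcard : Nat.card c.Z₀ = 3 := by
    have h1 : Nat.card c.Z₀ ∣ 3 ^ 2 := by
      rw [← c.hWcard]; exact Subgroup.card_dvd_of_le c.Z₀_le_W
    obtain ⟨k, hk, hkc⟩ := (Nat.dvd_prime_pow Nat.prime_three).mp h1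
    have h2 : 3 ≤ Nat.card c.Z₀ := by
      rw [← hzcard]; exact Subgroup.card_le_of_le hZle
    have h3 : Nat.card c.Z₀ ≠ 3 ^ 2 := by
      intro h
      apply c.W_not_central
      have : c.Z₀ = c.W := Subgroup.eq_of_le_of_card_ge c.Z₀_le_W (by rw [h, c.hWcard])
      rw [← this]
      exact inf_le_right
    interval_cases k
    · rw [hkc] at h2; omega
    · rw [hkc]; norm_num
    · exact absurd hkc h3
  have hZeq : Subgroup.zpowers z = c.Z₀ :=
    Subgroup.eq_of_le_of_card_ge hZle (by rw [hcard, hzcard])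
  refine ⟨hcard, ?_⟩
  intro w hw g
  rw [← hZeq]
  have hzcen : ∀ y ∈ Subgroup.zpowers z, ∀ g : G, y * g = g * y := by
    intro y hy g
    have : y ∈ Subgroup.center G := (Subgroup.zpowers_le.mpr hzc) hy
    exact ((Subgroup.mem_center_iff.mp this) g).symm
  rw [hWeq] at hw
  induction hw using Subgroup.closure_induction generalizing g with
  | mem y hy =>
    rcases hy with hy | hy
    · have := hzcen y hy g
      have e1 : y⁻¹ * (g⁻¹ * y * g) = 1 := by
        rw [mul_assoc g⁻¹, this, inv_mul_cancel_left, inv_mul_cancel]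
      rw [e1]; exact Subgroup.one_mem _
    · rw [Set.mem_singleton_iff] at hy
      subst hy
      have h1 := hec g⁻¹
      have h2 := hzcen _ h1 y
      have e1 : y⁻¹ * (g⁻¹ * y * g) = (⁅y, g⁻¹⁆)⁻¹ := by
        have : y⁻¹ * (g⁻¹ * y * g) = y⁻¹ * (⁅y, g⁻¹⁆)⁻¹ * y := by
          rw [commutatorElement_def]; group
        rw [this, mul_assoc, (hzcen _ (Subgroup.inv_mem _ h1) y), inv_mul_cancel_left]
      rw [e1]
      exact Subgroup.inv_mem _ h1
  | one =>
    simp
  | mul a b _ _ iha ihb =>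
    have ha := iha g
    have hb := ihb g
    have e1 : (a * b)⁻¹ * (g⁻¹ * (a * b) * g) =
        b⁻¹ * (a⁻¹ * (g⁻¹ * a * g)) * b * (b⁻¹ * (g⁻¹ * b * g)) := by group
    rw [e1, mul_assoc b⁻¹, hzcen _ ha b, inv_mul_cancel_left]
    exact Subgroup.mul_mem _ ha hb
  | inv a _ iha =>
    have ha := iha g
    have e1 : a⁻¹⁻¹ * (g⁻¹ * a⁻¹ * g) = (g⁻¹ * a * g) * (a⁻¹ * (g⁻¹ * a * g))⁻¹ * (g⁻¹ * a * g)⁻¹ := by
      group
    rw [e1, ← hzcen _ (Subgroup.inv_mem _ ha), mul_inv_cancel_right]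
    exact Subgroup.inv_mem _ ha

theorem card_Z₀ (hG : IsPGroup 3 G) : Nat.card c.Z₀ = 3 := (c.Z₀_facts hG).1

theorem comm_mem_Z₀ (hG : IsPGroup 3 G) {w : G} (hw : w ∈ c.W) (g : G) :
    w⁻¹ * (g⁻¹ * w * g) ∈ c.Z₀ := (c.Z₀_facts hG).2 w hw g

/-- **Suzuki.** If some `x ∉ C` has `C_C(x) ≤ Z₀`, then `|C_G(x)| = 9` and `G` has maximal class. -/
theorem maxclass_of_fixed (hGp : IsPGroup 3 G) (n : ℕ) (hG : Nat.card G = 3 ^ n) {x : G}
    (hx : x ∉ c.C) (hfix : ∀ f ∈ c.C, f * x = x * f → f ∈ c.Z₀) :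
    2 ≤ n ∧ (⊤ : Subgroup G).lowerCentralSeries (n - 2) ≠ ⊥ := by
  have : Fact (Nat.Prime 3) := ⟨Nat.prime_three⟩
  have hCn := c.C_normal
  set A : Subgroup G := Subgroup.centralizer ({x} : Set G) with hA
  have hmemA : ∀ g : G, g ∈ A ↔ g * x = x * g := by
    intro g
    rw [hA, Subgroup.mem_centralizer_singleton_iff]
  have hxA : x ∈ A := (hmemA x).mpr rfl
  have hAC : c.C ⊓ A = c.Z₀ := by
    apply le_antisymm
    · intro g hg
      exact hfix g (Subgroup.mem_inf.mp hg).1 ((hmemA g).mp (Subgroup.mem_inf.mp hg).2)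
    · intro z hz
      exact Subgroup.mem_inf.mpr ⟨c.Z₀_le_C hz, (hmemA z).mpr (c.Z₀_central hz x)⟩
  have hrel : c.C.relIndex A = 3 := by
    have h1 : c.C.relIndex A ∣ 3 := by
      rw [← c.index_C]; exact Subgroup.relIndex_dvd_index_of_normal c.C A
    rcases (Nat.dvd_prime Nat.prime_three).mp h1 with h | h
    · exfalso
      exact hx ((Subgroup.relIndex_eq_one.mp h) hxA)
    · exact h
  have hAcard : Nat.card A = 3 ^ 2 := by
    have h1 := Cfsg.Agent.Lib.Helper24.card_eq_mul_relIndex (inf_le_right : c.C ⊓ A ≤ A)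
    rw [Subgroup.inf_relIndex_right, hrel, hAC, c.card_Z₀ hGp] at h1
    rw [h1]; norm_num
  have hcent : Subgroup.centralizer (A : Set G) ≤ A := by
    intro g hg
    rw [hmemA]
    exact (Subgroup.mem_centralizer_iff.mp hg x hxA).symm
  have hclass := Cfsg.Agent.Lib.Helper73.suzuki_maximal_class n G hG A hAcard hcent
  have hn2 : 2 ≤ n := by
    have h1 : Nat.card A ≤ Nat.card G := Subgroup.card_le_card_group A
    rw [hAcard, hG] at h1
    exact (Nat.pow_le_pow_iff_right (by norm_num)).mp h1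
  refine ⟨hn2, ?_⟩
  intro hbot
  have hnil : Group.IsNilpotent G := hGp.isNilpotent
  rw [Subgroup.lowerCentralSeries_eq_bot_iff_nilpotencyClass_le, hclass] at hbot
  omega

end BCtx

end Cfsg.Agent.Lib.Helper70.R2
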