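import Mathlib
import Cfsg.Agent.Lib.Helper70.R2CaseB1

/-!
# Rank two `3`-groups, Case B: the fixed points of `x ∉ C` on `C` (helper70, for S3888)

* `exists_order_nine`: an element of `C` outside `W` commuting with `x` has a power `f` with
  `f ^ 9 = 1`, `f ^ 3 ≠ 1`, still in `C` and commuting with `x`.
* `fixed_noncyclic`: if `M = Ω₂(C)` has order `81` (power structure as in `omega_two_step`) and
  `x ^ 3` centralizes `M`, then `C_C(x) ≤ Z₀`.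
-/

set_option autoImplicit false

namespace Cfsg.Agent.Lib.Helper70.R2

universe u

namespace BCtx

variable {G : Type u} [Group G] [Finite G] (c : BCtx G)

/-- From an element of `C ∖ Z₀` commuting with `x` we get one of order `9`. -/
theorem exists_order_nine (hGp : IsPGroup 3 G) {x : G} (hx : x ∉ c.C) {f : G} (hfC : f ∈ c.C)
    (hfx : f * x = x * f) (hfZ : f ∉ c.Z₀) :
    ∃ f' : G, f' ∈ c.C ∧ f' * x = x * f' ∧ f' ^ 9 = 1 ∧ f' ^ 3 ≠ 1 ∧ f' ^ 3 ∈ c.Z₀ := by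
  have hfW : f ∉ c.W := fun h => hfZ (c.mem_Z₀_of_comm hx h hfx)
  have hf3 : f ^ 3 ≠ 1 := fun h => hfW (c.hrk f hfC h)
  obtain ⟨k, hk⟩ := (IsPGroup.iff_orderOf.mp hGp) f
  have hk2 : 2 ≤ k := by
    by_contra hlt
    push Not at hlt
    apply hf3
    apply orderOf_dvd_iff_pow_eq_one.mp
    rw [hk]
    calc 3 ^ k ∣ 3 ^ 1 := pow_dvd_pow 3 (by omega)
      _ = 3 := by norm_num
  refine ⟨f ^ 3 ^ (k - 2), c.C.pow_mem hfC _, ?_, ?_, ?_, ?_⟩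
  · have h1 : Commute f x := hfx
    exact (h1.pow_left _).eq
  · rw [← pow_mul]
    have : 3 ^ (k - 2) * 9 = 3 ^ k := by
      have : k = (k - 2) + 2 := by omega
      conv_rhs => rw [this, pow_add]
      norm_num
    rw [this, ← hk, pow_orderOf_eq_one]
  · rw [← pow_mul]
    intro h
    have h1 := orderOf_dvd_iff_pow_eq_one.mpr h
    rw [hk] at h1
    have : 3 ^ (k - 2) * 3 = 3 ^ (k - 1) := by
      have : k - 1 = (k - 2) + 1 := by omega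
      rw [this, pow_succ]
    rw [this] at h1
    have := (Nat.pow_dvd_pow_iff_le_right (by norm_num : 1 < 3)).mp h1
    omega
  · have h9 : (f ^ 3 ^ (k - 2)) ^ 9 = 1 := by
      rw [← pow_mul]
      have : 3 ^ (k - 2) * 9 = 3 ^ k := by
        have : k = (k - 2) + 2 := by omega
        conv_rhs => rw [this, pow_add]
        norm_num
      rw [this, ← hk, pow_orderOf_eq_one]
    have hC3 : (f ^ 3 ^ (k - 2)) ^ 3 ∈ c.C := c.C.pow_mem (c.C.pow_mem hfC _) _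
    have hW3 : (f ^ 3 ^ (k - 2)) ^ 3 ∈ c.W := by
      apply c.hrk _ hC3
      rw [← pow_mul]; exact h9
    apply c.mem_Z₀_of_comm hx hW3
    have h1 : Commute f x := hfx
    exact ((h1.pow_left _).pow_left _).eq

/-- Every element of `Z₀` is a power of a nontrivial element of `Z₀`. -/
theorem Z₀_eq_zpowers (hGp : IsPGroup 3 G) {v : G} (hv : v ∈ c.Z₀) (hv1 : v ≠ 1) {z : G}
    (hz : z ∈ c.Z₀) : ∃ i : ℕ, z = v ^ i := by
  have hv3 : v ^ 3 = 1 := c.hWexp v (c.Z₀_le_W hv)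
  have hord : orderOf v = 3 := orderOf_eq_prime hv3 hv1
  have hle : Subgroup.zpowers v ≤ c.Z₀ := Subgroup.zpowers_le.mpr hv
  have heq : Subgroup.zpowers v = c.Z₀ :=
    Subgroup.eq_of_le_of_card_ge hle (by rw [c.card_Z₀ hGp, Nat.card_zpowers, hord])
  rw [← heq] at hz
  obtain ⟨i, hi⟩ := (mem_powers_iff_mem_zpowers.mpr hz)
  exact ⟨i, hi.symm⟩

theorem fixed_noncyclic (hGp : IsPGroup 3 G) (M : Subgroup G) (hWM : c.W ≤ M) (hMC : M ≤ c.C)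
    (hmem : ∀ t ∈ c.C, t ∈ M ↔ t ^ 3 ∈ c.W)
    (hmulpow : ∀ a ∈ M, ∀ b ∈ M, (a * b) ^ 3 = a ^ 3 * b ^ 3)
    (honto : ∀ w ∈ c.W, ∃ m ∈ M, m ^ 3 = w)
    {x : G} (hx : x ∉ c.C) (hx3 : ∀ m ∈ M, x ^ 3 * m = m * x ^ 3) :
    ∀ f ∈ c.C, f * x = x * f → f ∈ c.Z₀ := by
  intro f₀ hf₀C hf₀x
  by_contra hf₀Z
  obtain ⟨f, hfC, hfx, hf9, hf3, hf3Z⟩ := c.exists_order_nine hGp hx hf₀C hf₀x hf₀Z
  have hCn := c.C_normal
  have hWn := c.hWn
  have hMn : ∀ m ∈ M, ∀ g : G, g⁻¹ * m * g ∈ M := by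
    intro m hm g
    have h1 : g⁻¹ * m * g ∈ c.C := by
      have := hCn.conj_mem m (hMC hm) g⁻¹
      simpa using this
    rw [hmem _ h1]
    have h2 : (g⁻¹ * m * g) ^ 3 = g⁻¹ * m ^ 3 * g := by
      have := conj_pow (a := g⁻¹) (b := m) (i := 3)
      simpa using this
    rw [h2]
    have := hWn.conj_mem (m ^ 3) ((hmem m (hMC hm)).mp hm) g⁻¹
    simpa using this
  have hfM : f ∈ M := by
    rw [hmem f hfC]; exact c.Z₀_le_W hf3Z
  -- an element of `W ∖ Z₀` and a cube root of it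
  have hlt : c.Z₀ < c.W := by
    refine lt_of_le_of_ne c.Z₀_le_W ?_
    intro h
    have h1 := c.card_Z₀ hGp
    rw [h, c.hWcard] at h1
    norm_num at h1
  obtain ⟨w₀, hw₀W, hw₀Z⟩ := SetLike.exists_of_lt hlt
  obtain ⟨m₂, hm₂M, hm₂⟩ := honto w₀ hw₀W
  obtain ⟨σ, hσ⟩ : ∃ σ : G → G, ∀ m, σ m = x⁻¹ * m * x := ⟨_, fun _ => rfl⟩
  have hσmul : ∀ a b : G, σ (a * b) = σ a * σ b := by
    intro a b; simp only [hσ]; group
  set n₁ : G := m₂⁻¹ * σ m₂ with hn₁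
  have hσm₂M : σ m₂ ∈ M := by rw [hσ]; exact hMn m₂ hm₂M x
  have hn₁M : n₁ ∈ M := M.mul_mem (M.inv_mem hm₂M) hσm₂M
  have hσpow : ∀ a : G, (σ a) ^ 3 = σ (a ^ 3) := by
    intro a
    simp only [hσ]
    have := conj_pow (a := x⁻¹) (b := a) (i := 3)
    simpa using this
  have hn₁3 : n₁ ^ 3 = w₀⁻¹ * (x⁻¹ * w₀ * x) := by
    rw [hn₁, hmulpow _ (M.inv_mem hm₂M) _ hσm₂M, inv_pow, hσpow, hm₂, hσ]
  have hn₁3Z : n₁ ^ 3 ∈ c.Z₀ := by
    rw [hn₁3]; exact c.comm_mem_Z₀ hGp hw₀W x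
  have hn₁3ne : n₁ ^ 3 ≠ 1 := by
    rw [hn₁3]
    intro h
    apply hw₀Z
    apply c.mem_Z₀_of_comm hx hw₀W
    have h1 : x⁻¹ * w₀ * x = w₀ := by
      have := congrArg (fun t => w₀ * t) h
      simpa [mul_assoc] using this
    calc w₀ * x = x * (x⁻¹ * w₀ * x) := by group
      _ = x * w₀ := by rw [h1]
  -- `n₁ = w * f ^ i`
  obtain ⟨i, hi⟩ := c.Z₀_eq_zpowers hGp hf3Z hf3 hn₁3Z
  have hfiM : f ^ i ∈ M := M.pow_mem hfM i
  set w : G := n₁ * (f ^ i)⁻¹ with hw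
  have hwM : w ∈ M := M.mul_mem hn₁M (M.inv_mem hfiM)
  have hw3 : w ^ 3 = 1 := by
    rw [hw, hmulpow _ hn₁M _ (M.inv_mem hfiM), inv_pow, hi, ← pow_mul, ← pow_mul, mul_comm 3 i,
      mul_inv_cancel]
  have hwW : w ∈ c.W := c.hrk w (hMC hwM) hw3
  have hn₁eq : n₁ = w * f ^ i := by rw [hw]; group
  have hσf : σ (f ^ i) = f ^ i := by
    simp only [hσ]
    have h1 : Commute f x := hfx
    have h2 : f ^ i * x = x * f ^ i := (h1.pow_left i).eq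
    rw [mul_assoc, h2, inv_mul_cancel_left]
  set z₁ : G := w⁻¹ * σ w with hz₁
  have hz₁Z : z₁ ∈ c.Z₀ := by rw [hz₁, hσ]; exact c.comm_mem_Z₀ hGp hwW x
  have hσn₁ : σ n₁ = n₁ * z₁ := by
    rw [hn₁eq, hσmul, hσf]
    have : σ w = w * z₁ := by rw [hz₁]; group
    rw [this, mul_assoc w, c.Z₀_central hz₁Z (f ^ i), ← mul_assoc]
  have hσz₁ : σ z₁ = z₁ := by
    simp only [hσ]
    rw [mul_assoc, c.Z₀_central hz₁Z x, inv_mul_cancel_left]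
  have hz₁3 : z₁ ^ 3 = 1 := c.hWexp z₁ (c.Z₀_le_W hz₁Z)
  have hσm₂ : σ m₂ = m₂ * n₁ := by rw [hn₁]; group
  have h3 : σ (σ (σ m₂)) = m₂ * n₁ ^ 3 := by
    rw [hσm₂, hσmul, hσm₂, hσn₁, hσmul, hσmul, hσm₂, hσn₁, hσmul, hσn₁, hσz₁]
    have hc : ∀ g : G, z₁ * g = g * z₁ := c.Z₀_central hz₁Z
    have e1 : m₂ * n₁ * (n₁ * z₁) * (n₁ * z₁ * z₁) = m₂ * n₁ * n₁ * n₁ * (z₁ * z₁ * z₁) := by
      simp only [mul_assoc]
      rw [hc (n₁ * (z₁ * z₁))]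
      simp only [mul_assoc]
    rw [e1, ← pow_three' z₁, hz₁3, mul_one, pow_three']
    simp only [mul_assoc]
  have h4 : σ (σ (σ m₂)) = m₂ := by
    simp only [hσ]
    have hx3' := hx3 m₂ hm₂M
    rw [pow_three] at hx3'
    have e1 : x⁻¹ * (x⁻¹ * (x⁻¹ * m₂ * x) * x) * x = (x * (x * x))⁻¹ * (m₂ * (x * (x * x))) := by
      group
    rw [e1, ← hx3', inv_mul_cancel_left]
  rw [h4] at h3
  exact hn₁3ne (mul_left_cancel (a := m₂) (by rw [mul_one]; exact h3.symm))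

end BCtx

end Cfsg.Agent.Lib.Helper70.R2
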