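import Mathlib
import Cfsg.Agent.Lib.Helper70.R2CaseB2

/-!
# Rank two `3`-groups, Case B: a normal subgroup of order `27` and exponent `3` (helper70, S3888)

`exists_normal_exp_three`: if `y ∉ C`, `y ^ 3 = 1` and `[y, C] ≤ W` then `W⟨y⟩` is a normal
subgroup of order `27` and exponent `3`.
-/

set_option autoImplicit false

namespace Cfsg.Agent.Lib.Helper70.R2

universe u

/-- In a `3`-group, an element with `g ^ 3 ≠ 1` has a power of order `9`. -/
theorem exists_pow_nine {G : Type*} [Group G] (hGp : IsPGroup 3 G) (g : G) (hg3 : g ^ 3 ≠ 1) :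
    ∃ j : ℕ, (g ^ j) ^ 9 = 1 ∧ (g ^ j) ^ 3 ≠ 1 := by
  obtain ⟨k, hk⟩ := (IsPGroup.iff_orderOf.mp hGp) g
  have hk2 : 2 ≤ k := by
    by_contra hlt
    push Not at hlt
    apply hg3
    apply orderOf_dvd_iff_pow_eq_one.mp
    rw [hk]
    calc 3 ^ k ∣ 3 ^ 1 := pow_dvd_pow 3 (by omega)
      _ = 3 := by norm_num
  refine ⟨3 ^ (k - 2), ?_, ?_⟩
  · rw [← pow_mul]
    have : 3 ^ (k - 2) * 9 = 3 ^ k := by
      have : k = (k - 2) + 2 := by omega
      conv_rhs => rw [this, pow_add]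
      norm_num
    rw [this, ← hk, pow_orderOf_eq_one]
  · rw [← pow_mul]
    intro h
    have h1 := orderOf_dvd_iff_pow_eq_one.mpr h
    rw [hk] at h1
    have : 3 ^ (k - 2) * 3 = 3 ^ (k - 1) := by
      have : k - 1 = (k - 2) + 1 := by omega
      rw [this, pow_succ]
    rw [this] at h1
    have := (Nat.pow_dvd_pow_iff_le_right (by norm_num : 1 < 3)).mp h1
    omega

namespace BCtx

variable {G : Type u} [Group G] [Finite G] (c : BCtx G)

/-- `(u w) ^ 3 = 1` for `u ^ 3 = 1`, `w ∈ W`. -/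
theorem mul_cube_eq_one (hGp : IsPGroup 3 G) {u w : G} (hu : u ^ 3 = 1) (hw : w ∈ c.W) :
    (u * w) ^ 3 = 1 := by
  obtain ⟨z, hz⟩ : ∃ z : G, z = w⁻¹ * (u⁻¹ * w * u) := ⟨_, rfl⟩
  have hzZ : z ∈ c.Z₀ := by rw [hz]; exact c.comm_mem_Z₀ hGp hw u
  have hc : ∀ g : G, z * g = g * z := c.Z₀_central hzZ
  have hz3 : z ^ 3 = 1 := c.hWexp z (c.Z₀_le_W hzZ)
  have hw3 : w ^ 3 = 1 := c.hWexp w hw
  have e0 : (u * w) ^ 3 = u * (u * u) * (u⁻¹ * (u⁻¹ * w * u) * u) * (u⁻¹ * w * u) * w := by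
    rw [pow_three]; group
  have e1 : u⁻¹ * w * u = w * z := by rw [hz]; group
  have e2 : u⁻¹ * (w * z) * u = w * z * z := by
    have : u⁻¹ * (w * z) * u = (u⁻¹ * w * u) * (u⁻¹ * (z * u)) := by group
    rw [this, e1, hc u, inv_mul_cancel_left]
  rw [e0, e1, e2, ← pow_three, hu, one_mul]
  have hzw : z * w = w * z := hc w
  have h : Commute w z := hzw.symm
  calc w * z * z * (w * z) * w = (w * z) * (z * w) * (z * w) := by simp only [mul_assoc]
    _ = (w * z) * (w * z) * (w * z) := by rw [hzw]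
    _ = (w * z) ^ 3 := by rw [pow_three']
    _ = w ^ 3 * z ^ 3 := h.mul_pow 3
    _ = 1 := by rw [hw3, hz3, one_mul]

theorem exists_normal_exp_three (hGp : IsPGroup 3 G) {y : G} (hy : y ∉ c.C) (hy3 : y ^ 3 = 1)
    (hyC : ∀ h ∈ c.C, h⁻¹ * (y⁻¹ * h * y) ∈ c.W) :
    ∃ N : Subgroup G, N.Normal ∧ Nat.card N = 3 ^ 3 ∧ ∀ n ∈ N, n ^ 3 = 1 := by
  have hWn := c.hWn
  have hyW : y ∉ c.W := fun h => hy (c.W_le_C h)
  set q : G ⧸ c.W := QuotientGroup.mk' c.W y with hq
  -- `q` is central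
  have hqc : ∀ r : G ⧸ c.W, r * q = q * r := by
    intro r
    obtain ⟨g, rfl⟩ := QuotientGroup.mk'_surjective c.W r
    obtain ⟨i, h, hh, rfl⟩ := c.decomp hy g
    have h1 : (QuotientGroup.mk' c.W h) * q = q * (QuotientGroup.mk' c.W h) := by
      rw [hq, ← map_mul, ← map_mul, QuotientGroup.mk'_apply, QuotientGroup.mk'_apply,
        QuotientGroup.eq]
      have h3 := hyC h⁻¹ (c.C.inv_mem hh)
      have h4 := hWn.conj_mem _ h3 h⁻¹
      have e : (h * y)⁻¹ * (y * h) = h⁻¹ * (h⁻¹⁻¹ * (y⁻¹ * h⁻¹ * y)) * h⁻¹⁻¹ := by group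
      rw [e]
      exact h4
    have h2 : Commute (QuotientGroup.mk' c.W y) q := Commute.refl _
    rw [map_mul, map_pow]
    exact ((h2.pow_left i).mul_left h1).eq
  have hq3 : q ^ 3 = 1 := by rw [hq, ← map_pow, hy3, map_one]
  have hq1 : q ≠ 1 := by
    rw [hq, QuotientGroup.mk'_apply]
    intro h
    exact hyW ((QuotientGroup.eq_one_iff y).mp h)
  have hqord : orderOf q = 3 := orderOf_eq_prime hq3 hq1
  have hQn : (Subgroup.zpowers q).Normal := by
    constructor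
    intro n hn r
    have : r * n * r⁻¹ = n := by
      obtain ⟨k, rfl⟩ := Subgroup.mem_zpowers_iff.mp hn
      have h1 : Commute r q := hqc r
      rw [(h1.zpow_right k).eq, mul_inv_cancel_right]
    rw [this]; exact hn
  refine ⟨(Subgroup.zpowers q).comap (QuotientGroup.mk' c.W), Subgroup.Normal.comap hQn _, ?_, ?_⟩
  · set N := (Subgroup.zpowers q).comap (QuotientGroup.mk' c.W) with hN
    have hWN : c.W ≤ N := by
      intro w hw
      rw [hN, Subgroup.mem_comap, QuotientGroup.mk'_apply, (QuotientGroup.eq_one_iff w).mpr hw]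
      exact Subgroup.one_mem _
    have h1 := Cfsg.Agent.Lib.Helper24.index_subgroupOf_comap c.W (Subgroup.zpowers q)
    have h2 := (c.W.subgroupOf N).card_mul_index
    rw [h1, Nat.card_zpowers, hqord, Cfsg.Agent.Lib.Helper24.card_subgroupOf_eq_card_inf,
      inf_of_le_left hWN, c.hWcard] at h2
    rw [← h2]; norm_num
  · intro n hn
    rw [Subgroup.mem_comap] at hn
    obtain ⟨i, hi⟩ := mem_powers_iff_mem_zpowers.mpr hn
    have h1 : QuotientGroup.mk' c.W (y ^ i) = QuotientGroup.mk' c.W n := by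
      rw [map_pow]; exact hi
    rw [QuotientGroup.mk'_apply, QuotientGroup.mk'_apply, QuotientGroup.eq] at h1
    have e : n = y ^ i * ((y ^ i)⁻¹ * n) := by group
    rw [e]
    apply c.mul_cube_eq_one hGp _ h1
    rw [← pow_mul, mul_comm, pow_mul, hy3, one_pow]

end BCtx

end Cfsg.Agent.Lib.Helper70.R2
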