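import Mathlib
import Cfsg.Agent.Lib.Helper70.R2CaseB3

/-!
# Rank two `3`-groups, Case B: `C / W` cyclic (helper70, S3888)

`C` abelian (`C = ⟨c₀⟩ W`).  For `x ∉ C` with `x ^ 3 ∈ ℧₁(C)`: either `C_C(x) ≤ Z₀`, or `G` has a
normal subgroup of order `27` and exponent `3`.
-/

set_option autoImplicit false

namespace Cfsg.Agent.Lib.Helper70.R2

universe u

namespace BCtx

variable {G : Type u} [Group G] [Finite G] (c : BCtx G)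

/-- `(x t) ^ 3 = x ^ 3 t ^ 3 [[t, x], x]` when `[t, x] ∈ W`, `t ∈ C`. -/
theorem nu_formula (hGp : IsPGroup 3 G) (x : G) {t : G} (ht : t ∈ c.C)
    (hd : t⁻¹ * (x⁻¹ * t * x) ∈ c.W) :
    (x * t) ^ 3 = x ^ 3 * t ^ 3 *
      ((t⁻¹ * (x⁻¹ * t * x))⁻¹ * (x⁻¹ * (t⁻¹ * (x⁻¹ * t * x)) * x)) := by
  obtain ⟨d, hdd⟩ : ∃ d : G, d = t⁻¹ * (x⁻¹ * t * x) := ⟨_, rfl⟩
  rw [← hdd] at hd ⊢
  obtain ⟨e, hee⟩ : ∃ e : G, e = d⁻¹ * (x⁻¹ * d * x) := ⟨_, rfl⟩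
  rw [← hee]
  have heZ : e ∈ c.Z₀ := by rw [hee]; exact c.comm_mem_Z₀ hGp hd x
  have hc : ∀ g : G, e * g = g * e := c.Z₀_central heZ
  have hd3 : d ^ 3 = 1 := c.hWexp d hd
  have h1 : x⁻¹ * t * x = t * d := by rw [hdd]; group
  have h2 : x⁻¹ * d * x = d * e := by rw [hee]; group
  have hdt : Commute d t := (c.comm_C ht hd).symm
  have e0 : (x * t) ^ 3 = x * (x * x) * (x⁻¹ * (x⁻¹ * t * x) * x) * (x⁻¹ * t * x) * t := by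
    rw [pow_three]; group
  have e1 : x⁻¹ * (t * d) * x = (x⁻¹ * t * x) * (x⁻¹ * d * x) := by group
  rw [e0, h1, e1, h1, h2, ← pow_three]
  have key : (t * d * (d * e)) * (t * d) * t = t ^ 3 * e := by
    have hbb : Commute (d * d) t := hdt.mul_left hdt
    calc (t * d * (d * e)) * (t * d) * t = t * (d * d) * (e * (t * d * t)) := by
          simp only [mul_assoc]
      _ = t * (d * d) * ((t * d * t) * e) := by rw [hc]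
      _ = t * ((d * d) * t) * (d * t) * e := by simp only [mul_assoc]
      _ = t * (t * (d * d)) * (t * d) * e := by rw [hbb.eq, hdt.eq]
      _ = t * t * ((d * d) * t) * d * e := by simp only [mul_assoc]
      _ = t * t * (t * (d * d)) * d * e := by rw [hbb.eq]
      _ = (t * t * t) * (d * d * d) * e := by simp only [mul_assoc]
      _ = t ^ 3 * e := by rw [← pow_three' d, hd3, mul_one, pow_three']
  have : x ^ 3 * (t * d * (d * e)) * (t * d) * t = x ^ 3 * ((t * d * (d * e)) * (t * d) * t) := by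
    simp only [mul_assoc]
  rw [this, key, mul_assoc]

omit [Finite G] in
theorem conj_mem_C {t : G} (ht : t ∈ c.C) (x : G) : x⁻¹ * t * x ∈ c.C := by
  have := c.C_normal.conj_mem t ht x⁻¹
  simpa using this

omit [Finite G] in
theorem D_mem_C {t : G} (ht : t ∈ c.C) (x : G) : t⁻¹ * (x⁻¹ * t * x) ∈ c.C :=
  c.C.mul_mem (c.C.inv_mem ht) (c.conj_mem_C ht x)

/-- **(β1)** If `[Ω₂(C), x] ≤ Z₀` (and `C` abelian, `x ^ 3 ∈ C`) then `[C, x] ≤ W`. -/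
theorem beta_one (hGp : IsPGroup 3 G) (hCcomm : ∀ a ∈ c.C, ∀ b ∈ c.C, a * b = b * a) {x : G}
    (hx3C : x ^ 3 ∈ c.C) (hβ : ∀ m ∈ c.C, m ^ 9 = 1 → m⁻¹ * (x⁻¹ * m * x) ∈ c.Z₀) :
    ∀ t ∈ c.C, t⁻¹ * (x⁻¹ * t * x) ∈ c.W := by
  intro t ht
  by_contra hd
  have hdC := c.D_mem_C ht x
  have hd3 : (t⁻¹ * (x⁻¹ * t * x)) ^ 3 ≠ 1 := fun h => hd (c.hrk _ hdC h)
  obtain ⟨j, h9, h3⟩ := exists_pow_nine hGp _ hd3
  -- `d ^ j = D (t ^ j)`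
  have hpow : (t⁻¹ * (x⁻¹ * t * x)) ^ j = (t ^ j)⁻¹ * (x⁻¹ * t ^ j * x) := by
    have hcomm : Commute t⁻¹ (x⁻¹ * t * x) :=
      hCcomm _ (c.C.inv_mem ht) _ (c.conj_mem_C ht x)
    rw [hcomm.mul_pow, inv_pow]
    congr 1
    have := conj_pow (a := x⁻¹) (b := t) (i := j)
    simpa using this
  obtain ⟨t', ht'⟩ : ∃ t' : G, t' = t ^ j := ⟨_, rfl⟩
  obtain ⟨d', hd'⟩ : ∃ d' : G, d' = t'⁻¹ * (x⁻¹ * t' * x) := ⟨_, rfl⟩
  rw [← ht', ← hd'] at hpow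
  rw [hpow] at h9 h3
  have ht'C : t' ∈ c.C := by rw [ht']; exact c.C.pow_mem ht j
  have hd'C : d' ∈ c.C := by rw [hd']; exact c.D_mem_C ht'C x
  obtain ⟨z, hz⟩ : ∃ z : G, z = d'⁻¹ * (x⁻¹ * d' * x) := ⟨_, rfl⟩
  have hzZ : z ∈ c.Z₀ := by rw [hz]; exact hβ d' hd'C h9
  have hc : ∀ g : G, z * g = g * z := c.Z₀_central hzZ
  have hz3 : z ^ 3 = 1 := c.hWexp z (c.Z₀_le_W hzZ)
  have h1 : x⁻¹ * d' * x = d' * z := by rw [hz]; group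
  have h2 : x⁻¹ * z * x = z := by rw [mul_assoc, hc x, inv_mul_cancel_left]
  have htel : d' * (x⁻¹ * d' * x) * (x⁻¹ * (x⁻¹ * d' * x) * x) =
      t'⁻¹ * ((x * (x * x))⁻¹ * t' * (x * (x * x))) := by
    rw [hd']; group
  have hx3t : (x * (x * x))⁻¹ * t' * (x * (x * x)) = t' := by
    have := hCcomm _ hx3C _ ht'C
    rw [pow_three] at this
    rw [mul_assoc, ← this, inv_mul_cancel_left]
  rw [hx3t, inv_mul_cancel, h1] at htel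
  have e1 : x⁻¹ * (d' * z) * x = (x⁻¹ * d' * x) * (x⁻¹ * z * x) := by group
  rw [e1, h1, h2] at htel
  have e2 : d' * (d' * z) * (d' * z * z) = d' ^ 3 * z ^ 3 := by
    have hcd : Commute z d' := hc d'
    calc d' * (d' * z) * (d' * z * z) = d' * d' * (z * d') * (z * z) := by simp only [mul_assoc]
      _ = d' * d' * (d' * z) * (z * z) := by rw [hcd.eq]
      _ = (d' * d' * d') * (z * z * z) := by simp only [mul_assoc]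
      _ = d' ^ 3 * z ^ 3 := by rw [pow_three', pow_three']
  rw [e2, hz3, mul_one] at htel
  exact h3 htel

/-- **(β2)** In an abelian `C`, every element of `℧₁(C)` is a cube. -/
theorem exists_cube_eq (hCcomm : ∀ a ∈ c.C, ∀ b ∈ c.C, a * b = b * a) {u : G}
    (hu : u ∈ Subgroup.closure {y : G | ∃ t ∈ c.C, y = t ^ 3}) : ∃ t ∈ c.C, u = t ^ 3 := by
  induction hu using Subgroup.closure_induction with
  | mem y hy => exact hy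
  | one => exact ⟨1, c.C.one_mem, by simp⟩
  | mul a b _ _ iha ihb =>
    obtain ⟨ta, hta, rfl⟩ := iha
    obtain ⟨tb, htb, rfl⟩ := ihb
    have h : Commute ta tb := hCcomm ta hta tb htb
    exact ⟨ta * tb, c.C.mul_mem hta htb, (h.mul_pow 3).symm⟩
  | inv a _ iha =>
    obtain ⟨ta, hta, rfl⟩ := iha
    exact ⟨ta⁻¹, c.C.inv_mem hta, by rw [inv_pow]⟩

/-- **(β)** `C` abelian, `x ^ 3 ∈ ℧₁(C)`, `[Ω₂(C), x] ≤ Z₀`: there is a normal subgroup of order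
`27` and exponent `3`. -/
theorem beta_exists_normal (hGp : IsPGroup 3 G)
    (hCcomm : ∀ a ∈ c.C, ∀ b ∈ c.C, a * b = b * a) {x : G} (hx : x ∉ c.C)
    (hx3 : x ^ 3 ∈ Subgroup.closure {y : G | ∃ t ∈ c.C, y = t ^ 3})
    (hβ : ∀ m ∈ c.C, m ^ 9 = 1 → m⁻¹ * (x⁻¹ * m * x) ∈ c.Z₀) :
    ∃ N : Subgroup G, N.Normal ∧ Nat.card N = 3 ^ 3 ∧ ∀ n ∈ N, n ^ 3 = 1 := by
  obtain ⟨c₁, hc₁, hxc₁⟩ := c.exists_cube_eq hCcomm hx3
  have hx3C : x ^ 3 ∈ c.C := by rw [hxc₁]; exact c.C.pow_mem hc₁ 3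
  have hD := c.beta_one hGp hCcomm hx3C hβ
  have hc₁i : c₁⁻¹ ∈ c.C := c.C.inv_mem hc₁
  -- first modification: `x' = x c₁⁻¹` has cube in `Z₀`
  obtain ⟨d₁, hd₁⟩ : ∃ d₁ : G, d₁ = c₁⁻¹⁻¹ * (x⁻¹ * c₁⁻¹ * x) := ⟨_, rfl⟩
  have hd₁W : d₁ ∈ c.W := by rw [hd₁]; exact hD _ hc₁i
  obtain ⟨ζ, hζ⟩ : ∃ ζ : G, ζ = d₁⁻¹ * (x⁻¹ * d₁ * x) := ⟨_, rfl⟩
  have hζZ : ζ ∈ c.Z₀ := by rw [hζ]; exact c.comm_mem_Z₀ hGp hd₁W x
  obtain ⟨x', hx'⟩ : ∃ x' : G, x' = x * c₁⁻¹ := ⟨_, rfl⟩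
  have hx'3 : x' ^ 3 = ζ := by
    have := c.nu_formula hGp x hc₁i (hD _ hc₁i)
    rw [← hd₁, ← hζ, ← hx', hxc₁, inv_pow, mul_inv_cancel, one_mul] at this
    exact this
  have hx'C : x' ∉ c.C := by
    intro h
    apply hx
    have : x = x' * c₁ := by rw [hx']; group
    rw [this]
    exact c.C.mul_mem h hc₁
  have hconj : ∀ h ∈ c.C, x'⁻¹ * h * x' = x⁻¹ * h * x := by
    intro h hh
    have h1 := hCcomm _ hc₁ _ (c.conj_mem_C hh x)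
    have e : x'⁻¹ * h * x' = c₁ * (x⁻¹ * h * x) * c₁⁻¹ := by rw [hx']; group
    rw [e, h1, mul_inv_cancel_right]
  -- a cube root of `ζ⁻¹` of order dividing `9`
  have hs : ∃ s ∈ c.C, s ^ 9 = 1 ∧ s ^ 3 = ζ⁻¹ := by
    by_cases hζ1 : ζ = 1
    · exact ⟨1, c.C.one_mem, by simp, by simp [hζ1]⟩
    · have hc₁W : c₁⁻¹ ∉ c.W := by
        intro h
        apply hζ1
        have h1 : d₁ ∈ c.Z₀ := by rw [hd₁]; exact c.comm_mem_Z₀ hGp h x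
        rw [hζ, mul_assoc, c.Z₀_central h1 x, inv_mul_cancel_left, inv_mul_cancel]
      have hc₁3 : (c₁⁻¹) ^ 3 ≠ 1 := fun h => hc₁W (c.hrk _ hc₁i h)
      obtain ⟨j, h9, h3⟩ := exists_pow_nine hGp _ hc₁3
      obtain ⟨s₀, hs₀⟩ : ∃ s₀ : G, s₀ = (c₁⁻¹) ^ j := ⟨_, rfl⟩
      rw [← hs₀] at h9 h3
      have hs₀C : s₀ ∈ c.C := by rw [hs₀]; exact c.C.pow_mem hc₁i j
      obtain ⟨z₀, hz₀⟩ : ∃ z₀ : G, z₀ = s₀⁻¹ * (x⁻¹ * s₀ * x) := ⟨_, rfl⟩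
      have hz₀Z : z₀ ∈ c.Z₀ := by rw [hz₀]; exact hβ s₀ hs₀C h9
      have hz₀3 : z₀ ^ 3 = 1 := c.hWexp z₀ (c.Z₀_le_W hz₀Z)
      have h1 : x⁻¹ * s₀ * x = s₀ * z₀ := by rw [hz₀]; group
      have h2 : x⁻¹ * s₀ ^ 3 * x = s₀ ^ 3 := by
        have e := conj_pow (a := x⁻¹) (b := s₀) (i := 3)
        simp only [inv_inv] at e
        rw [← e, h1]
        have hcz : Commute s₀ z₀ := (c.Z₀_central hz₀Z s₀).symm
        rw [hcz.mul_pow, hz₀3, mul_one]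
      have hs₀3W : s₀ ^ 3 ∈ c.W := by
        apply c.hrk _ (c.C.pow_mem hs₀C 3)
        rw [← pow_mul]; exact h9
      have hs₀3Z : s₀ ^ 3 ∈ c.Z₀ := by
        apply c.mem_Z₀_of_comm hx hs₀3W
        calc s₀ ^ 3 * x = x * (x⁻¹ * s₀ ^ 3 * x) := by group
          _ = x * s₀ ^ 3 := by rw [h2]
      obtain ⟨i, hi⟩ := c.Z₀_eq_zpowers hGp hs₀3Z h3 (c.Z₀.inv_mem hζZ)
      refine ⟨s₀ ^ i, c.C.pow_mem hs₀C i, ?_, ?_⟩
      · rw [← pow_mul, mul_comm, pow_mul, h9, one_pow]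
      · rw [hi, ← pow_mul, ← pow_mul, mul_comm]
  obtain ⟨s, hsC, hs9, hs3⟩ := hs
  have hDs : s⁻¹ * (x'⁻¹ * s * x') ∈ c.Z₀ := by
    rw [hconj s hsC]; exact hβ s hsC hs9
  obtain ⟨y, hy⟩ : ∃ y : G, y = x' * s := ⟨_, rfl⟩
  have hy3 : y ^ 3 = 1 := by
    have := c.nu_formula hGp x' hsC (c.Z₀_le_W hDs)
    obtain ⟨ds, hds⟩ : ∃ ds : G, ds = s⁻¹ * (x'⁻¹ * s * x') := ⟨_, rfl⟩
    rw [← hds] at this hDs
    have e : x'⁻¹ * ds * x' = ds := by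
      rw [mul_assoc, c.Z₀_central hDs x', inv_mul_cancel_left]
    rw [← hy, hx'3, hs3, mul_inv_cancel, one_mul, e, inv_mul_cancel] at this
    exact this
  have hyC : y ∉ c.C := by
    intro h
    apply hx'C
    have : x' = y * s⁻¹ := by rw [hy]; group
    rw [this]
    exact c.C.mul_mem h (c.C.inv_mem hsC)
  have hyD : ∀ h ∈ c.C, h⁻¹ * (y⁻¹ * h * y) ∈ c.W := by
    intro h hh
    have h1 : x'⁻¹ * h * x' ∈ c.C := c.conj_mem_C hh x'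
    have h2 := hCcomm _ hsC _ h1
    have e : y⁻¹ * h * y = s⁻¹ * ((x'⁻¹ * h * x') * s) := by rw [hy]; group
    rw [e, ← h2, inv_mul_cancel_left, hconj h hh]
    exact hD h hh
  exact c.exists_normal_exp_three hGp hyC hy3 hyD

omit [Finite G] in
/-- `C = ⟨c₀⟩ W` is abelian. -/
theorem comm_of_cyclic (c₀ : G) (hc₀ : c₀ ∈ c.C)
    (hcyc : ∀ g ∈ c.C, ∃ k : ℕ, ∃ w ∈ c.W, g = c₀ ^ k * w) :
    ∀ a ∈ c.C, ∀ b ∈ c.C, a * b = b * a := by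
  intro a ha b hb
  obtain ⟨k, w, hw, rfl⟩ := hcyc a ha
  obtain ⟨l, v, hv, rfl⟩ := hcyc b hb
  have h1 : Commute (c₀ ^ k) (c₀ ^ l) := (Commute.refl c₀).pow_pow k l
  have h2 : Commute w (c₀ ^ l) := (c.comm_C (c.C.pow_mem hc₀ l) hw).symm
  have h3 : Commute (c₀ ^ k) v := c.comm_C (c.C.pow_mem hc₀ k) hv
  have h4 : Commute w v := c.hWcomm w hw v hv
  exact ((h1.mul_right h3).mul_left (h2.mul_right h4)).eq

/-- In `C = ⟨c₀⟩ W` the cubes of the elements of order dividing `9` form a group of order at most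
`3`. -/
theorem cube_mem_powers (c₀ : G) (hc₀ : c₀ ∈ c.C)
    (hcyc : ∀ g ∈ c.C, ∃ k : ℕ, ∃ w ∈ c.W, g = c₀ ^ k * w) {a b : G} (ha : a ∈ c.C)
    (hb : b ∈ c.C) (ha9 : a ^ 9 = 1) (hb9 : b ^ 9 = 1) (hb3 : b ^ 3 ≠ 1) :
    ∃ i : ℕ, a ^ 3 = (b ^ 3) ^ i := by
  have hmemS : ∀ g ∈ c.C, g ^ 9 = 1 → g ^ 3 ∈ Subgroup.zpowers c₀ ⊓ c.W := by
    intro g hg hg9
    refine Subgroup.mem_inf.mpr ⟨?_, ?_⟩
    · obtain ⟨k, w, hw, rfl⟩ := hcyc g hg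
      have h3 : Commute (c₀ ^ k) w := c.comm_C (c.C.pow_mem hc₀ k) hw
      rw [h3.mul_pow, c.hWexp w hw, mul_one, ← pow_mul]
      exact Subgroup.pow_mem _ (Subgroup.mem_zpowers c₀) _
    · apply c.hrk _ (c.C.pow_mem hg 3)
      rw [← pow_mul]; exact hg9
  have hcycS : IsCyclic (Subgroup.zpowers c₀ ⊓ c.W : Subgroup G) :=
    Subgroup.isCyclic_of_le (inf_le_left : Subgroup.zpowers c₀ ⊓ c.W ≤ Subgroup.zpowers c₀)
  obtain ⟨g₀, hg₀⟩ := (Subgroup.isCyclic_iff_exists_zpowers_eq_top _).mp hcycS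
  have hg₀S : g₀ ∈ Subgroup.zpowers c₀ ⊓ c.W := by rw [← hg₀]; exact Subgroup.mem_zpowers g₀
  have hg₀3 : g₀ ^ 3 = 1 := c.hWexp g₀ (Subgroup.mem_inf.mp hg₀S).2
  have hcardS : Nat.card (Subgroup.zpowers c₀ ⊓ c.W : Subgroup G) ≤ 3 := by
    rw [← hg₀, Nat.card_zpowers]
    exact Nat.le_of_dvd (by norm_num) (orderOf_dvd_of_pow_eq_one hg₀3)
  have hb3S := hmemS b hb hb9
  have hordb : orderOf (b ^ 3) = 3 :=
    orderOf_eq_prime (by rw [← pow_mul]; exact hb9) hb3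
  have hle : Subgroup.zpowers (b ^ 3) ≤ Subgroup.zpowers c₀ ⊓ c.W := Subgroup.zpowers_le.mpr hb3S
  have heq : Subgroup.zpowers (b ^ 3) = Subgroup.zpowers c₀ ⊓ c.W :=
    Subgroup.eq_of_le_of_card_ge hle (by rw [Nat.card_zpowers, hordb]; exact hcardS)
  have ha3S := hmemS a ha ha9
  rw [← heq] at ha3S
  obtain ⟨i, hi⟩ := mem_powers_iff_mem_zpowers.mpr ha3S
  exact ⟨i, hi.symm⟩

/-- **The cyclic case.** `C = ⟨c₀⟩ W`, `x ∉ C`, `x ^ 3 ∈ ℧₁(C)`, and no normal subgroup of order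
`27` and exponent `3`: then `C_C(x) ≤ Z₀`. -/
theorem fixed_cyclic (hGp : IsPGroup 3 G) (c₀ : G) (hc₀ : c₀ ∈ c.C)
    (hcyc : ∀ g ∈ c.C, ∃ k : ℕ, ∃ w ∈ c.W, g = c₀ ^ k * w) {x : G} (hx : x ∉ c.C)
    (hx3 : x ^ 3 ∈ Subgroup.closure {y : G | ∃ t ∈ c.C, y = t ^ 3})
    (hH : ∀ N : Subgroup G, N.Normal → Nat.card N = 3 ^ 3 → ¬ ∀ y ∈ N, y ^ 3 = 1) :
    ∀ f ∈ c.C, f * x = x * f → f ∈ c.Z₀ := by
  have hCcomm := c.comm_of_cyclic c₀ hc₀ hcyc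
  by_cases hβ : ∀ m ∈ c.C, m ^ 9 = 1 → m⁻¹ * (x⁻¹ * m * x) ∈ c.Z₀
  · exfalso
    obtain ⟨N, hNn, hNc, hNe⟩ := c.beta_exists_normal hGp hCcomm hx hx3 hβ
    exact hH N hNn hNc hNe
  · push Not at hβ
    obtain ⟨m, hmC, hm9, hmD⟩ := hβ
    intro f₀ hf₀C hf₀x
    by_contra hf₀Z
    obtain ⟨f, hfC, hfx, hf9, hf3, hf3Z⟩ := c.exists_order_nine hGp hx hf₀C hf₀x hf₀Z
    obtain ⟨i, hi⟩ := c.cube_mem_powers c₀ hc₀ hcyc hmC hfC hm9 hf9 hf3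
    apply hmD
    have hfiC : f ^ i ∈ c.C := c.C.pow_mem hfC i
    obtain ⟨w, hw⟩ : ∃ w : G, w = m * (f ^ i)⁻¹ := ⟨_, rfl⟩
    have hwC : w ∈ c.C := by rw [hw]; exact c.C.mul_mem hmC (c.C.inv_mem hfiC)
    have hw3 : w ^ 3 = 1 := by
      have hcm : Commute m (f ^ i)⁻¹ := hCcomm _ hmC _ (c.C.inv_mem hfiC)
      rw [hw, hcm.mul_pow, inv_pow, hi, ← pow_mul, ← pow_mul, mul_comm 3 i, mul_inv_cancel]
    have hwW : w ∈ c.W := c.hrk w hwC hw3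
    have hm : m = w * f ^ i := by rw [hw]; group
    have hfi : x⁻¹ * f ^ i * x = f ^ i := by
      have h1 : Commute f x := hfx
      rw [mul_assoc, (h1.pow_left i).eq, inv_mul_cancel_left]
    have hz := c.comm_mem_Z₀ hGp hwW x
    have e : m⁻¹ * (x⁻¹ * m * x) = (f ^ i)⁻¹ * (w⁻¹ * (x⁻¹ * w * x)) * (x⁻¹ * f ^ i * x) := by
      rw [hm]; group
    rw [e, hfi, mul_assoc, c.Z₀_central hz (f ^ i), inv_mul_cancel_left]
    exact hz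

end BCtx

end Cfsg.Agent.Lib.Helper70.R2
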