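import Mathlib
import Cfsg.Agent.Lib.Helper70.R2CaseB4
import Cfsg.Agent.Lib.Helper1.R2T2

/-!
# Rank two `3`-groups, Case B: assembly (helper70, S3888)

`rank_two_caseB_three`: a `3`-group of rank at most two with no normal subgroup of order `27` and
exponent `3` is metacyclic or of maximal class.
-/

set_option autoImplicit false

open scoped commutatorElement

namespace Cfsg.Agent.Lib.Helper70.R2

universe u

namespace BCtx

variable {G : Type u} [Group G] [Finite G] (c : BCtx G)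

/-- The subgroup `W` inside `C`, as a subgroup of the type `↥C`: the hypotheses of Lemma M1. -/
theorem M1_hyps :
    c.W.subgroupOf c.C ≤ Subgroup.center c.C ∧ Nat.card (c.W.subgroupOf c.C) = 3 ^ 2 ∧
      (∀ w ∈ c.W.subgroupOf c.C, w ^ 3 = 1) ∧
      (∀ t : c.C, t ^ 3 = 1 → t ∈ c.W.subgroupOf c.C) := by
  refine ⟨?_, ?_, ?_, ?_⟩
  · intro w hw
    rw [Subgroup.mem_center_iff]
    intro g
    apply Subtype.ext
    simp only [Subgroup.coe_mul]
    exact c.comm_C g.2 (Subgroup.mem_subgroupOf.mp hw)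
  · rw [Cfsg.Agent.Lib.Helper24.card_subgroupOf_eq_card_inf, inf_of_le_left c.W_le_C, c.hWcard]
  · intro w hw
    apply Subtype.ext
    simp only [Subgroup.coe_pow, Subgroup.coe_one]
    exact c.hWexp _ (Subgroup.mem_subgroupOf.mp hw)
  · intro t ht
    rw [Subgroup.mem_subgroupOf]
    apply c.hrk _ t.2
    have := congrArg Subtype.val ht
    simpa using this

/-- `℧₁(C)` inside `G`. -/
def V : Subgroup G := Subgroup.closure {y : G | ∃ t ∈ c.C, y = t ^ 3}

omit [Finite G] in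
theorem V_le_C : c.V ≤ c.C := by
  rw [V, Subgroup.closure_le]
  rintro _ ⟨t, ht, rfl⟩
  exact c.C.pow_mem ht 3

omit [Finite G] in
theorem V_eq_map :
    c.V = (Subgroup.closure {y : c.C | ∃ g : c.C, y = g ^ 3}).map c.C.subtype := by
  rw [V, MonoidHom.map_closure]
  congr 1
  ext y
  constructor
  · rintro ⟨t, ht, rfl⟩
    exact ⟨(⟨t, ht⟩ : c.C) ^ 3, ⟨⟨t, ht⟩, rfl⟩, by simp⟩
  · rintro ⟨_, ⟨g, rfl⟩, rfl⟩
    exact ⟨g, g.2, by simp⟩

/-- `|C| ≤ 9 |℧₁(C)|`. -/
theorem card_C_le (hGp : IsPGroup 3 G) : Nat.card c.C ≤ 9 * Nat.card c.V := by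
  have : Fact (Nat.Prime 3) := ⟨Nat.prime_three⟩
  obtain ⟨h1, h2, h3, h4⟩ := c.M1_hyps
  have h5 := index_pow_le_of_central_omega (p := 3) (by norm_num) (hGp.to_subgroup c.C)
    (c.W.subgroupOf c.C) h1 h2 h3 h4
  rw [c.V_eq_map, Subgroup.card_map_of_injective c.C.subtype_injective]
  have h6 := Subgroup.card_mul_index (Subgroup.closure {y : c.C | ∃ g : c.C, y = g ^ 3})
  rw [← h6]
  have : (Subgroup.closure {y : c.C | ∃ g : c.C, y = g ^ 3}).index ≤ 9 := by
    have e : (3 : ℕ) ^ 2 = 9 := by norm_num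
    rw [e] at h5; exact h5
  nlinarith [Nat.card_pos (α := (Subgroup.closure {y : c.C | ∃ g : c.C, y = g ^ 3}))]

/-- The dichotomy for `C / W`. -/
theorem omega_dichotomy (hGp : IsPGroup 3 G) :
    (∃ c₀ ∈ c.C, ∀ g ∈ c.C, ∃ k : ℕ, ∃ w ∈ c.W, g = c₀ ^ k * w) ∨
    (∃ M : Subgroup G, c.W ≤ M ∧ M ≤ c.C ∧ (∀ t ∈ c.C, t ∈ M ↔ t ^ 3 ∈ c.W) ∧
      (∀ m ∈ M, ∀ g ∈ c.C, ⁅m, g⁆ ∈ c.W) ∧ (∀ a ∈ M, ∀ b ∈ M, (a * b) ^ 3 = a ^ 3 * b ^ 3) ∧
      (∀ w ∈ c.W, ∃ m ∈ M, m ^ 3 = w)) := by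
  have : Fact (Nat.Prime 3) := ⟨Nat.prime_three⟩
  obtain ⟨h1, h2, h3, h4⟩ := c.M1_hyps
  have hWn : (c.W.subgroupOf c.C).Normal := by
    have := c.hWn
    exact Subgroup.Normal.subgroupOf this c.C
  by_cases hcyc : IsCyclic (c.C ⧸ c.W.subgroupOf c.C)
  · left
    obtain ⟨q, hq⟩ := hcyc.exists_generator
    obtain ⟨c₀, rfl⟩ := QuotientGroup.mk'_surjective (c.W.subgroupOf c.C) q
    refine ⟨c₀, c₀.2, ?_⟩
    intro g hg
    have h5 := hq (QuotientGroup.mk' (c.W.subgroupOf c.C) ⟨g, hg⟩)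
    obtain ⟨k, hk⟩ := mem_powers_iff_mem_zpowers.mpr h5
    have h6 : QuotientGroup.mk' (c.W.subgroupOf c.C) (c₀ ^ k) =
        QuotientGroup.mk' (c.W.subgroupOf c.C) ⟨g, hg⟩ := by rw [map_pow]; exact hk
    rw [QuotientGroup.mk'_apply, QuotientGroup.mk'_apply, QuotientGroup.eq,
      Subgroup.mem_subgroupOf] at h6
    refine ⟨k, _, h6, ?_⟩
    simp only [Subgroup.coe_mul, Subgroup.coe_inv, Subgroup.coe_pow]
    group
  · right
    obtain ⟨M, -, hWM, -, hmem, hcentral, hmulpow, honto⟩ :=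
      omega_two_step (p := 3) (by norm_num) (hGp.to_subgroup c.C) (c.W.subgroupOf c.C) h1 h2 h3 h4
        hcyc
    refine ⟨M.map c.C.subtype, ?_, ?_, ?_, ?_, ?_, ?_⟩
    · intro w hw
      exact ⟨⟨w, c.W_le_C hw⟩, hWM (Subgroup.mem_subgroupOf.mpr hw), rfl⟩
    · rintro _ ⟨m, -, rfl⟩
      exact m.2
    · intro t ht
      constructor
      · rintro ⟨m, hm, hmt⟩
        have := (hmem m).mp hm
        rw [Subgroup.mem_subgroupOf] at this
        rw [← hmt]
        simpa using this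
      · intro h
        refine ⟨⟨t, ht⟩, (hmem ⟨t, ht⟩).mpr ?_, rfl⟩
        rw [Subgroup.mem_subgroupOf]
        simpa using h
    · rintro _ ⟨m, hm, rfl⟩ g hg
      have := hcentral m hm ⟨g, hg⟩
      rw [Subgroup.mem_subgroupOf] at this
      have e : ((⁅m, (⟨g, hg⟩ : c.C)⁆ : c.C) : G) = ⁅(m : G), g⁆ := by
        simp [commutatorElement_def]
      rw [e] at this
      exact this
    · rintro _ ⟨a, ha, rfl⟩ _ ⟨b, hb, rfl⟩
      have := congrArg Subtype.val (hmulpow a ha b hb)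
      simpa using this
    · intro w hw
      obtain ⟨m, hm, hmw⟩ := honto ⟨w, c.W_le_C hw⟩ (Subgroup.mem_subgroupOf.mpr hw)
      refine ⟨m, ⟨m, hm, rfl⟩, ?_⟩
      have := congrArg Subtype.val hmw
      simpa using this

omit [Finite G] in
/-- Cubes of elements of `C` centralize `M` when `[M, C] ≤ W`. -/
theorem V_le_centralizer (M : Subgroup G)
    (hcen : ∀ m ∈ M, ∀ g ∈ c.C, ⁅m, g⁆ ∈ c.W) : c.V ≤ Subgroup.centralizer (M : Set G) := by
  rw [V, Subgroup.closure_le]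
  rintro _ ⟨t, ht, rfl⟩
  rw [SetLike.mem_coe, Subgroup.mem_centralizer_iff]
  intro m hm
  have hw := hcen m hm t ht
  have hwt : Commute ⁅m, t⁆ t := (c.comm_C ht hw).symm
  have h1 : m * t * m⁻¹ = ⁅m, t⁆ * t := by rw [commutatorElement_def]; group
  have h2 : m * t ^ 3 * m⁻¹ = t ^ 3 := by
    rw [← conj_pow, h1, hwt.mul_pow, c.hWexp _ hw, one_mul]
  calc m * t ^ 3 = (m * t ^ 3 * m⁻¹) * m := by group
    _ = t ^ 3 * m := by rw [h2]

include c in
theorem caseB (hGp : IsPGroup 3 G) (n : ℕ) (hG : Nat.card G = 3 ^ n)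
    (hH : ∀ N : Subgroup G, N.Normal → Nat.card N = 3 ^ 3 → ¬ ∀ x ∈ N, x ^ 3 = 1) :
    Cfsg.IsMetacyclic G ∨ (2 ≤ n ∧ (⊤ : Subgroup G).lowerCentralSeries (n - 2) ≠ ⊥) := by
  have : Fact (Nat.Prime 3) := ⟨Nat.prime_three⟩
  have hCn := c.C_normal
  by_cases hall : ∀ x, x ∉ c.C → x ^ 3 ∈ c.V
  · right
    obtain ⟨x, hx⟩ : ∃ x, x ∉ c.C := by
      by_contra h
      push Not at h
      have : c.C = ⊤ := eq_top_iff.mpr fun g _ => h g
      have h2 := c.index_C
      rw [this, Subgroup.index_top] at h2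
      omega
    have hx3 := hall x hx
    rcases c.omega_dichotomy hGp with ⟨c₀, hc₀, hcyc⟩ | ⟨M, hWM, hMC, hmem, hcen, hmulpow, honto⟩
    · exact c.maxclass_of_fixed hGp n hG hx (c.fixed_cyclic hGp c₀ hc₀ hcyc hx hx3 hH)
    · have hx3M : ∀ m ∈ M, x ^ 3 * m = m * x ^ 3 := by
        intro m hm
        have := c.V_le_centralizer M hcen hx3
        exact (Subgroup.mem_centralizer_iff.mp this m hm).symm
      exact c.maxclass_of_fixed hGp n hG hx
        (c.fixed_noncyclic hGp M hWM hMC hmem hmulpow honto hx hx3M)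
  · left
    push Not at hall
    obtain ⟨x, hx, hx3⟩ := hall
    apply Cfsg.Agent.Lib.Helper1.R2T2.isMetacyclic_of_index_pow_le (p := 3) (by norm_num) hGp
    set U : Subgroup G := Subgroup.closure {y : G | ∃ g : G, y = g ^ 3} with hU
    have hVU : c.V ≤ U := by
      rw [V, Subgroup.closure_le]
      rintro _ ⟨t, -, rfl⟩
      exact Subgroup.subset_closure ⟨t, rfl⟩
    have hxU : x ^ 3 ∈ U := Subgroup.subset_closure ⟨x, rfl⟩
    have hV1U : c.V ⊔ Subgroup.zpowers (x ^ 3) ≤ U :=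
      sup_le hVU (Subgroup.zpowers_le.mpr hxU)
    have hlt : c.V < c.V ⊔ Subgroup.zpowers (x ^ 3) := by
      refine lt_of_le_of_ne le_sup_left ?_
      intro h
      apply hx3
      rw [h]
      exact (le_sup_right : Subgroup.zpowers (x ^ 3) ≤ _) (Subgroup.mem_zpowers _)
    have hcard1 : 3 * Nat.card c.V ≤ Nat.card (c.V ⊔ Subgroup.zpowers (x ^ 3) : Subgroup G) := by
      obtain ⟨a, ha⟩ := (hGp.to_subgroup (c.V ⊔ Subgroup.zpowers (x ^ 3))).exists_card_eq
      obtain ⟨b, hb⟩ := (hGp.to_subgroup c.V).exists_card_eq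
      have h1 : Nat.card c.V < Nat.card (c.V ⊔ Subgroup.zpowers (x ^ 3) : Subgroup G) :=
        Cfsg.Agent.Lib.Helper24.card_lt_of_le_of_ne hlt.le hlt.ne
      rw [ha, hb] at h1 ⊢
      have h2 : b < a := (Nat.pow_lt_pow_iff_right (by norm_num : 1 < 3)).mp h1
      calc 3 * 3 ^ b = 3 ^ (b + 1) := by rw [pow_succ]; ring
        _ ≤ 3 ^ a := Nat.pow_le_pow_right (by norm_num) h2
    have hcard2 : Nat.card (c.V ⊔ Subgroup.zpowers (x ^ 3) : Subgroup G) ≤ Nat.card U :=
      Subgroup.card_le_of_le hV1U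
    have hcard3 := c.card_C_le hGp
    have hcard4 : Nat.card c.C * 3 = Nat.card G := by
      have := c.C.card_mul_index
      rw [c.index_C] at this
      exact this
    have hcard5 := U.card_mul_index
    have hUpos : 0 < Nat.card U := Nat.card_pos
    have e : (3 : ℕ) ^ 2 = 9 := by norm_num
    rw [e]
    by_contra hcon
    push Not at hcon
    nlinarith

end BCtx

/-- **Case B, `p = 3`.** A `3`-group of rank at most two with no normal subgroup of order `27` and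
exponent `3` is metacyclic or of maximal class. -/
theorem rank_two_caseB_three {G : Type u} [Group G] [Finite G] (n : ℕ) (hG : Nat.card G = 3 ^ n)
    (hrk : Cfsg.PRankLE 3 2 G)
    (hH : ∀ N : Subgroup G, N.Normal → Nat.card N = 3 ^ 3 → ¬ ∀ x ∈ N, x ^ 3 = 1) :
    Cfsg.IsMetacyclic G ∨ (2 ≤ n ∧ (⊤ : Subgroup G).lowerCentralSeries (n - 2) ≠ ⊥) := by
  have : Fact (Nat.Prime 3) := ⟨Nat.prime_three⟩
  have hGp : IsPGroup 3 G := IsPGroup.of_card hG
  by_cases hcyc : IsCyclic G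
  · left
    refine ⟨⊤, inferInstance, ?_, ?_⟩
    · exact isCyclic_of_surjective (Subgroup.topEquiv (G := G)).symm.toMonoidHom
        (Subgroup.topEquiv (G := G)).symm.surjective
    · have : Subsingleton (G ⧸ (⊤ : Subgroup G)) := QuotientGroup.subsingleton_quotient_top
      exact isCyclic_of_subsingleton
  · obtain ⟨W, hWn, ⟨hWcomm, hWexp⟩, hWcard⟩ := Cfsg.Agent.S0126.result (p := 3) (by norm_num) hGp hcyc
    have hWcomm' : ∀ a ∈ W, ∀ b ∈ W, a * b = b * a := by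
      intro a ha b hb
      exact congrArg Subtype.val (hWcomm.is_comm.comm ⟨a, ha⟩ ⟨b, hb⟩)
    have hrkW : ∀ t ∈ Subgroup.centralizer (W : Set G), t ^ 3 = 1 → t ∈ W := by
      intro t ht ht3
      exact Cfsg.Agent.Lib.Helper24.mem_of_mem_centralizer_of_rank hrk W hWcomm hWexp hWcard t ht ht3
    have hidx := Cfsg.Agent.Lib.Helper24.index_centralizer_dvd_prime hGp W hWcard
    rcases (Nat.dvd_prime Nat.prime_three).mp hidx with h1 | h3
    · -- `W` central
      left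
      have hCtop : Subgroup.centralizer (W : Set G) = ⊤ := Subgroup.index_eq_one.mp h1
      have hWc : W ≤ Subgroup.center G := by
        intro w hw
        rw [Subgroup.mem_center_iff]
        intro g
        have hg : g ∈ Subgroup.centralizer (W : Set G) := by rw [hCtop]; trivial
        exact (Subgroup.mem_centralizer_iff.mp hg w hw).symm
      apply Cfsg.Agent.Lib.Helper1.R2T2.isMetacyclic_of_index_pow_le (p := 3) (by norm_num) hGp
      apply index_pow_le_of_central_omega (by norm_num) hGp W hWc hWcard hWexp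
      intro t ht3
      apply hrkW t _ ht3
      rw [hCtop]; trivial
    · exact BCtx.caseB ⟨W, hWn, hWcard, hWexp, hWcomm', hrkW, h3⟩ hGp n hG hH

end Cfsg.Agent.Lib.Helper70.R2
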