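import Mathlib

/-!
# Two abstract modules for helper93 (S1625 / S0478), by helper70

* `center_quotient_center_eq_bot` (M2, Grün): the central quotient of a perfect group has trivial
  centre.
* `isSimpleGroup_of_sylow19` (M1): a perfect centreless group of order `50232960 = 2^7·3^5·5·17·19`
  with an element `y` of order `19` whose centraliser only contains prime-order elements of orders
  `3` and `19` is simple.
* `card_modEq_card_inf_centralizer`: for `y` of prime order `p` normalising `K`,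
  `|K| ≡ |C_K(y)| (mod p)`.
-/

set_option autoImplicit false
set_option linter.unusedSectionVars false
set_option linter.style.haveILetI false

namespace Cfsg.Agent.Lib.Helper70.Sylow19

open scoped commutatorElement

/-- the commutator map into the centre -/
theorem comm_map_mul {G : Type*} [Group G] (g : G)
    (hc : ∀ h : G, g * h * g⁻¹ * h⁻¹ ∈ Subgroup.center G) (h k : G) :
    g * (h * k) * g⁻¹ * (h * k)⁻¹ = (g * h * g⁻¹ * h⁻¹) * (g * k * g⁻¹ * k⁻¹) := by
  have hk : (g * k * g⁻¹ * k⁻¹) * h⁻¹ = h⁻¹ * (g * k * g⁻¹ * k⁻¹) :=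
    (Subgroup.mem_center_iff.mp (hc k) h⁻¹).symm
  calc g * (h * k) * g⁻¹ * (h * k)⁻¹ = g * h * g⁻¹ * ((g * k * g⁻¹ * k⁻¹) * h⁻¹) := by group
    _ = g * h * g⁻¹ * (h⁻¹ * (g * k * g⁻¹ * k⁻¹)) := by rw [hk]
    _ = (g * h * g⁻¹ * h⁻¹) * (g * k * g⁻¹ * k⁻¹) := by group

/-- an element central modulo the centre of a perfect group is central -/
theorem mem_center_of_comm_mem_center {G : Type*} [Group G] (hperf : commutator G = ⊤) (g : G)
    (hc : ∀ h : G, g * h * g⁻¹ * h⁻¹ ∈ Subgroup.center G) : g ∈ Subgroup.center G := by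
  obtain ⟨f, hf⟩ : ∃ f : G → G, ∀ h, f h = g * h * g⁻¹ * h⁻¹ := ⟨_, fun _ => rfl⟩
  have hmul : ∀ h k, f (h * k) = f h * f k := by
    intro h k
    rw [hf, hf, hf]
    exact comm_map_mul g hc h k
  have hcomm : ∀ h k, f h * f k = f k * f h := by
    intro h k
    have := Subgroup.mem_center_iff.mp (hc k) (f h)
    rw [← hf k] at this
    exact this
  have hone : f 1 = 1 := by rw [hf]; group
  have hinv : ∀ h, f h⁻¹ = (f h)⁻¹ := by
    intro h
    have h1 : f h * f h⁻¹ = 1 := by rw [← hmul, mul_inv_cancel, hone]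
    exact eq_inv_of_mul_eq_one_right h1
  have hcommutator : ∀ a b : G, f ⁅a, b⁆ = 1 := by
    intro a b
    rw [commutatorElement_def, hmul, hmul, hmul, hinv, hinv]
    calc f a * f b * (f a)⁻¹ * (f b)⁻¹ = f b * f a * (f a)⁻¹ * (f b)⁻¹ := by rw [hcomm a b]
      _ = 1 := by group
  -- the centraliser of `g` contains all commutators
  have hle : commutator G ≤ Subgroup.centralizer ({g} : Set G) := by
    rw [commutator_eq_closure, Subgroup.closure_le]
    rintro _ ⟨a, b, rfl⟩
    rw [SetLike.mem_coe, Subgroup.mem_centralizer_singleton_iff]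
    have h1 := hcommutator a b
    rw [hf] at h1
    calc ⁅a, b⁆ * g = (g * ⁅a, b⁆ * g⁻¹ * ⁅a, b⁆⁻¹)⁻¹ * (g * ⁅a, b⁆) := by group
      _ = g * ⁅a, b⁆ := by rw [h1, inv_one, one_mul]
  rw [hperf] at hle
  rw [Subgroup.mem_center_iff]
  intro h
  have := hle (Subgroup.mem_top h)
  rw [Subgroup.mem_centralizer_singleton_iff] at this
  exact this

/-- (M2) Grün's lemma -/
theorem center_quotient_center_eq_bot {G : Type*} [Group G] (hperf : commutator G = ⊤) :
    Subgroup.center (G ⧸ Subgroup.center G) = ⊥ := by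
  rw [eq_bot_iff]
  intro x hx
  obtain ⟨g, rfl⟩ := QuotientGroup.mk_surjective x
  rw [Subgroup.mem_bot, QuotientGroup.eq_one_iff]
  apply mem_center_of_comm_mem_center hperf
  intro h
  rw [← QuotientGroup.eq_one_iff]
  have h1 := Subgroup.mem_center_iff.mp hx (h : G ⧸ Subgroup.center G)
  rw [QuotientGroup.mk_mul, QuotientGroup.mk_mul, QuotientGroup.mk_mul, QuotientGroup.mk_inv,
    QuotientGroup.mk_inv, mul_inv_eq_one, mul_inv_eq_iff_eq_mul]
  exact h1.symm

section fixed

variable {Q : Type*} [Group Q] [Finite Q]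

/-- for `y` of prime order `p` normalising `K`, `|K| ≡ |C_K(y)| (mod p)` -/
theorem card_modEq_card_inf_centralizer (p : ℕ) [Fact p.Prime] (y : Q) (hy : orderOf y = p)
    (K : Subgroup Q) (hK : ∀ u ∈ K, y * u * y⁻¹ ∈ K) :
    Nat.card K ≡ Nat.card (K ⊓ Subgroup.centralizer ({y} : Set Q) : Subgroup Q) [MOD p] := by
  have hpow : ∀ n : ℕ, ∀ u ∈ K, y ^ n * u * (y ^ n)⁻¹ ∈ K := by
    intro n
    induction n with
    | zero => intro u hu; simpa using hu
    | succ n ih =>
      intro u hu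
      have h1 := hK _ (ih u hu)
      have e : y ^ (n + 1) * u * (y ^ (n + 1))⁻¹ = y * (y ^ n * u * (y ^ n)⁻¹) * y⁻¹ := by
        rw [pow_succ']
        group
      rw [e]
      exact h1
  have hconj : ∀ g ∈ Subgroup.zpowers y, ∀ u ∈ K, g * u * g⁻¹ ∈ K := by
    intro g hg u hu
    have hfin : IsOfFinOrder y := isOfFinOrder_of_finite y
    rw [← mem_powers_iff_mem_zpowers] at hg
    obtain ⟨n, rfl⟩ := (Submonoid.mem_powers_iff _ _).mp hg
    exact hpow n u hu
  letI : MulAction (Subgroup.zpowers y) K :=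
    { smul := fun g u => ⟨(g : Q) * u * (g : Q)⁻¹, hconj g g.2 u u.2⟩
      one_smul := by
        intro u
        apply Subtype.ext
        show ((1 : Subgroup.zpowers y) : Q) * u * ((1 : Subgroup.zpowers y) : Q)⁻¹ = u
        simp
      mul_smul := by
        intro g h u
        apply Subtype.ext
        show ((g * h : Subgroup.zpowers y) : Q) * u * ((g * h : Subgroup.zpowers y) : Q)⁻¹
          = (g : Q) * ((h : Q) * u * (h : Q)⁻¹) * (g : Q)⁻¹
        rw [Subgroup.coe_mul]
        group }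
  have hsmul : ∀ (g : Subgroup.zpowers y) (u : K), ((g • u : K) : Q) = (g : Q) * u * (g : Q)⁻¹ :=
    fun g u => rfl
  have hP : IsPGroup p (Subgroup.zpowers y) := by
    apply IsPGroup.of_card (n := 1)
    rw [Nat.card_zpowers, hy, pow_one]
  have h1 := hP.card_modEq_card_fixedPoints K
  have h2 : Nat.card (MulAction.fixedPoints (Subgroup.zpowers y) K) =
      Nat.card (K ⊓ Subgroup.centralizer ({y} : Set Q) : Subgroup Q) := by
    apply Nat.card_congr
    refine ⟨fun u => ⟨((u : K) : Q), ?_⟩, fun u => ⟨⟨(u : Q), (Subgroup.mem_inf.mp u.2).1⟩, ?_⟩, ?_, ?_⟩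
    · refine Subgroup.mem_inf.mpr ⟨(u : K).2, ?_⟩
      rw [Subgroup.mem_centralizer_singleton_iff]
      have h3 := u.2 ⟨y, Subgroup.mem_zpowers y⟩
      have h4 : y * ((u : K) : Q) * y⁻¹ = ((u : K) : Q) := by
        have := congrArg Subtype.val h3
        rw [hsmul] at this
        exact this
      calc ((u : K) : Q) * y = (y * ((u : K) : Q) * y⁻¹) * y := by rw [h4]
        _ = y * ((u : K) : Q) := by group
    · intro g
      apply Subtype.ext
      rw [hsmul]
      have h3 : (u : Q) * y = y * (u : Q) :=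
        Subgroup.mem_centralizer_singleton_iff.mp (Subgroup.mem_inf.mp u.2).2
      obtain ⟨i, hi⟩ := Subgroup.mem_zpowers_iff.mp g.2
      have h4 : Commute (g : Q) (u : Q) := by
        rw [← hi]
        exact (Commute.zpow_left (show Commute y (u : Q) from h3.symm) i)
      show (g : Q) * (u : Q) * (g : Q)⁻¹ = (u : Q)
      rw [h4.eq]
      group
    · intro u
      rfl
    · intro u
      rfl
  rw [h2] at h1
  exact h1

end fixed

section simple

variable {Q : Type*} [Group Q] [Finite Q]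

theorem card_factor : (50232960 : ℕ) = 2 ^ 7 * 3 ^ 5 * 5 * 17 * 19 := by norm_num

/-- a prime dividing the order is one of 2, 3, 5, 17, 19 -/
theorem prime_dvd_cases {r : ℕ} (hr : r.Prime) (h : r ∣ 50232960) :
    r = 2 ∨ r = 3 ∨ r = 5 ∨ r = 17 ∨ r = 19 := by
  rw [card_factor] at h
  rcases (Nat.Prime.dvd_mul hr).mp h with h | h
  · rcases (Nat.Prime.dvd_mul hr).mp h with h | h
    · rcases (Nat.Prime.dvd_mul hr).mp h with h | h
      · rcases (Nat.Prime.dvd_mul hr).mp h with h | h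
        · left
          exact (Nat.prime_dvd_prime_iff_eq hr Nat.prime_two).mp (hr.dvd_of_dvd_pow h)
        · right; left
          exact (Nat.prime_dvd_prime_iff_eq hr Nat.prime_three).mp (hr.dvd_of_dvd_pow h)
      · right; right; left
        exact (Nat.prime_dvd_prime_iff_eq hr (by norm_num)).mp h
    · right; right; right; left
      exact (Nat.prime_dvd_prime_iff_eq hr (by norm_num)).mp h
  · right; right; right; right
    exact (Nat.prime_dvd_prime_iff_eq hr (by norm_num)).mp h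

/-- a normal subgroup of order divisible by 19 contains `y` -/
theorem mem_of_dvd_card (hcard : Nat.card Q = 50232960) (y : Q) (hy : orderOf y = 19)
    (N : Subgroup Q) [N.Normal] (h19 : 19 ∣ Nat.card N) : y ∈ N ∧ ¬ 19 ∣ N.index := by
  have hidx : Nat.card N * N.index = 50232960 := by rw [Subgroup.card_mul_index, hcard]
  have hnd : ¬ 19 ∣ N.index := by
    intro h
    have : 19 * 19 ∣ Nat.card N * N.index := Nat.mul_dvd_mul h19 h
    rw [hidx] at this
    norm_num at this
  refine ⟨?_, hnd⟩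
  rw [← QuotientGroup.eq_one_iff]
  have h1 : orderOf (y : Q ⧸ N) ∣ 19 := by
    apply orderOf_dvd_of_pow_eq_one
    rw [← QuotientGroup.mk_pow, ← hy, pow_orderOf_eq_one, QuotientGroup.mk_one]
  have h2 : orderOf (y : Q ⧸ N) ∣ N.index := by
    rw [Subgroup.index_eq_card]
    exact orderOf_dvd_natCard _
  have h3 : orderOf (y : Q ⧸ N) = 1 := by
    rcases (Nat.dvd_prime (by norm_num : Nat.Prime 19)).mp h1 with h | h
    · exact h
    · exfalso
      rw [h] at h2
      exact hnd h2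
  exact orderOf_eq_one_iff.mp h3

/-- conjugation by an element normalising `⟨y⟩` is a power map on `⟨y⟩` -/
theorem conj_eq_zpow_of_mem_normalizer (y x : Q)
    (hx : x ∈ Subgroup.normalizer (Subgroup.zpowers y : Set Q)) :
    ∃ m : ℤ, ∀ u ∈ Subgroup.zpowers y, x * u * x⁻¹ = u ^ m := by
  have h1 : x * y * x⁻¹ ∈ Subgroup.zpowers y :=
    (Subgroup.mem_normalizer_iff.mp hx y).mp (Subgroup.mem_zpowers y)
  obtain ⟨m, hm⟩ := Subgroup.mem_zpowers_iff.mp h1
  refine ⟨m, ?_⟩
  intro u hu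
  obtain ⟨k, rfl⟩ := Subgroup.mem_zpowers_iff.mp hu
  rw [← conj_zpow, ← hm, ← zpow_mul, ← zpow_mul, mul_comm]

/-- commutators of elements normalising `⟨y⟩` centralise `y` -/
theorem commutator_mem_centralizer (y x₁ x₂ : Q)
    (h₁ : x₁ ∈ Subgroup.normalizer (Subgroup.zpowers y : Set Q))
    (h₂ : x₂ ∈ Subgroup.normalizer (Subgroup.zpowers y : Set Q)) :
    ⁅x₁, x₂⁆ ∈ Subgroup.centralizer ({y} : Set Q) := by
  obtain ⟨m₁, hm₁⟩ := conj_eq_zpow_of_mem_normalizer y x₁ h₁
  obtain ⟨m₂, hm₂⟩ := conj_eq_zpow_of_mem_normalizer y x₂ h₂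
  have key : ∀ u ∈ Subgroup.zpowers y, (x₁ * x₂) * u * (x₁ * x₂)⁻¹ = (x₂ * x₁) * u * (x₂ * x₁)⁻¹ := by
    intro u hu
    have e1 : (x₁ * x₂) * u * (x₁ * x₂)⁻¹ = x₁ * (x₂ * u * x₂⁻¹) * x₁⁻¹ := by group
    have e2 : (x₂ * x₁) * u * (x₂ * x₁)⁻¹ = x₂ * (x₁ * u * x₁⁻¹) * x₂⁻¹ := by group
    rw [e1, e2, hm₂ u hu, hm₁ u hu, hm₁ _ (Subgroup.zpow_mem _ hu _), hm₂ _ (Subgroup.zpow_mem _ hu _),
      ← zpow_mul, ← zpow_mul, mul_comm]
  have h21 : x₂ * x₁ ∈ Subgroup.normalizer (Subgroup.zpowers y : Set Q) := mul_mem h₂ h₁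
  have hw : (x₂ * x₁)⁻¹ * y * (x₂ * x₁) ∈ Subgroup.zpowers y :=
    (Subgroup.mem_normalizer_iff''.mp h21 y).mp (Subgroup.mem_zpowers y)
  have h3 := key _ hw
  rw [Subgroup.mem_centralizer_singleton_iff]
  have e3 : (x₂ * x₁) * ((x₂ * x₁)⁻¹ * y * (x₂ * x₁)) * (x₂ * x₁)⁻¹ = y := by group
  rw [e3] at h3
  have e4 : ⁅x₁, x₂⁆ * y * ⁅x₁, x₂⁆⁻¹ = (x₁ * x₂) * ((x₂ * x₁)⁻¹ * y * (x₂ * x₁)) * (x₁ * x₂)⁻¹ := by
    rw [commutatorElement_def]
    group
  rw [h3] at e4
  calc ⁅x₁, x₂⁆ * y = (⁅x₁, x₂⁆ * y * ⁅x₁, x₂⁆⁻¹) * ⁅x₁, x₂⁆ := by group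
    _ = y * ⁅x₁, x₂⁆ := by rw [e4]

/-- prime-order elements of the centraliser of `y` have order 3 or 19 -/
theorem prime_dvd_card_centralizer (y : Q)
    (hcent : ∀ c : Q, Commute c y → ∀ r : ℕ, r.Prime → orderOf c = r → r = 3 ∨ r = 19)
    (D : Subgroup Q) (hD : D ≤ Subgroup.centralizer ({y} : Set Q)) {r : ℕ} (hr : r.Prime)
    (h : r ∣ Nat.card D) : r = 3 ∨ r = 19 := by
  haveI : Fact r.Prime := ⟨hr⟩
  obtain ⟨c, hc⟩ := exists_prime_orderOf_dvd_card' r h
  have h1 : (c : Q) * y = y * (c : Q) := Subgroup.mem_centralizer_singleton_iff.mp (hD c.2)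
  exact hcent (c : Q) h1 r hr (by rw [Subgroup.orderOf_coe, hc])

/-- (A) a normal subgroup of order divisible by 19 is everything -/
theorem eq_top_of_dvd_card (hcard : Nat.card Q = 50232960) (hperf : commutator Q = ⊤) (y : Q)
    (hy : orderOf y = 19)
    (hcent : ∀ c : Q, Commute c y → ∀ r : ℕ, r.Prime → orderOf c = r → r = 3 ∨ r = 19)
    (N : Subgroup Q) [N.Normal] (h19 : 19 ∣ Nat.card N) : N = ⊤ := by
  haveI : Fact (Nat.Prime 19) := ⟨by norm_num⟩
  haveI : Fact (Nat.Prime 3) := ⟨Nat.prime_three⟩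
  obtain ⟨hyN, hnd⟩ := mem_of_dvd_card hcard y hy N h19
  -- the Sylow 19-subgroup
  have hfac : (Nat.card Q).factorization 19 = 1 := by
    rw [hcard, show (50232960 : ℕ) = 19 * 2643840 by norm_num,
      Nat.factorization_mul (by norm_num) (by norm_num), Finsupp.add_apply,
      Nat.Prime.factorization_self (by norm_num),
      Nat.factorization_eq_zero_of_not_dvd (by norm_num)]
  let PS : Sylow 19 Q := Sylow.ofCard (Subgroup.zpowers y) (by
    rw [Nat.card_zpowers, hy, hfac, pow_one])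
  have hPS : (PS : Subgroup Q) = Subgroup.zpowers y := Sylow.coe_ofCard _ _
  have hPN : (PS : Subgroup Q) ≤ N := by
    rw [hPS, Subgroup.zpowers_le]
    exact hyN
  have hfr0 := Sylow.normalizer_sup_eq_top' PS hPN
  have hfr : Subgroup.normalizer (Subgroup.zpowers y : Set Q) ⊔ N = ⊤ := hfr0
  -- the quotient
  obtain ⟨π, hπ⟩ : ∃ π : Q →* Q ⧸ N, π = QuotientGroup.mk' N := ⟨_, rfl⟩
  have hπs : Function.Surjective π := by rw [hπ]; exact QuotientGroup.mk'_surjective N
  have hπN : ∀ n ∈ N, π n = 1 := by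
    intro n hn
    rw [hπ]
    exact (QuotientGroup.eq_one_iff n).mpr hn
  have hK : commutator (Q ⧸ N) ≤ (Subgroup.centralizer ({y} : Set Q)).map π := by
    rw [commutator_eq_closure, Subgroup.closure_le]
    rintro _ ⟨a, b, rfl⟩
    obtain ⟨q₁, rfl⟩ := hπs a
    obtain ⟨q₂, rfl⟩ := hπs b
    have hq₁ : q₁ ∈ Subgroup.normalizer (Subgroup.zpowers y : Set Q) ⊔ N := by
      rw [hfr]; trivial
    have hq₂ : q₂ ∈ Subgroup.normalizer (Subgroup.zpowers y : Set Q) ⊔ N := by
      rw [hfr]; trivial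
    obtain ⟨h₁, hh₁, n₁, hn₁, rfl⟩ := Subgroup.mem_sup_of_normal_right.mp hq₁
    obtain ⟨h₂, hh₂, n₂, hn₂, rfl⟩ := Subgroup.mem_sup_of_normal_right.mp hq₂
    have e₁ : π (h₁ * n₁) = π h₁ := by rw [map_mul, hπN n₁ hn₁, mul_one]
    have e₂ : π (h₂ * n₂) = π h₂ := by rw [map_mul, hπN n₂ hn₂, mul_one]
    rw [SetLike.mem_coe, e₁, e₂, ← map_commutatorElement]
    exact Subgroup.mem_map_of_mem π (commutator_mem_centralizer y h₁ h₂ hh₁ hh₂)
  have hperfM : commutator (Q ⧸ N) = ⊤ := by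
    rw [commutator_def, ← Subgroup.map_top_of_surjective π hπs, ← Subgroup.map_commutator,
      ← commutator_def, hperf]
  rw [hperfM, top_le_iff] at hK
  have hdvd : N.index ∣ Nat.card (Subgroup.centralizer ({y} : Set Q)) := by
    have h1 := Subgroup.card_map_dvd (H := Subgroup.centralizer ({y} : Set Q)) π
    rw [hK, Subgroup.card_top, ← Subgroup.index_eq_card] at h1
    exact h1
  have hprime : ∀ {r : ℕ}, r.Prime → r ∣ N.index → r = 3 := by
    intro r hr hrd
    rcases prime_dvd_card_centralizer y hcent _ le_rfl hr (dvd_trans hrd hdvd) with h | h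
    · exact h
    · exfalso
      rw [h] at hrd
      exact hnd hrd
  have hidx0 : N.index ≠ 0 := Subgroup.index_ne_zero_of_finite
  have hpow := Nat.eq_prime_pow_of_unique_prime_dvd hidx0 hprime
  have hP3 : IsPGroup 3 (Q ⧸ N) := by
    apply IsPGroup.of_card (n := N.index.primeFactorsList.length)
    rw [← Subgroup.index_eq_card]
    exact hpow
  haveI : Group.IsNilpotent (Q ⧸ N) := hP3.isNilpotent
  by_contra hN
  have hidx1 : N.index ≠ 1 := fun h => hN (Subgroup.index_eq_one.mp h)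
  haveI : Nontrivial (Q ⧸ N) := by
    rw [← Finite.one_lt_card_iff_nontrivial, ← Subgroup.index_eq_card]
    omega
  have hlt := Group.IsSolvable.commutator_lt_top_of_nontrivial (G := Q ⧸ N)
  rw [hperfM] at hlt
  exact lt_irrefl _ hlt

open scoped Pointwise in
/-- a `y`-invariant Sylow `r`-subgroup of a normal subgroup `N` of order prime to 19 -/
theorem exists_invariant_sylow (y : Q) (hy : orderOf y = 19) (N : Subgroup Q) [N.Normal]
    (h19 : ¬ 19 ∣ Nat.card N) (r : ℕ) [Fact r.Prime] :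
    ∃ R₀ : Subgroup Q, R₀ ≤ N ∧ (∀ u ∈ R₀, y * u * y⁻¹ ∈ R₀) ∧
      Nat.card R₀ = r ^ (Nat.card N).factorization r := by
  classical
  haveI : Fact (Nat.Prime 19) := ⟨by norm_num⟩
  haveI : Fintype (Sylow r N) := Fintype.ofFinite _
  let σ : Equiv.Perm (Sylow r N) := MulAction.toPermHom (MulAut N) (Sylow r N) (MulAut.conjNormal y)
  have hσ : σ ^ 19 ^ 1 = 1 := by
    rw [pow_one]
    show (MulAction.toPermHom (MulAut N) (Sylow r N) (MulAut.conjNormal y)) ^ 19 = 1
    rw [← map_pow, ← map_pow, ← hy, pow_orderOf_eq_one, map_one, map_one]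
  have hnd : ¬ 19 ∣ Fintype.card (Sylow r N) := by
    intro h
    apply h19
    obtain ⟨R⟩ : Nonempty (Sylow r N) := inferInstance
    have h1 := Sylow.card_dvd_index R
    rw [Nat.card_eq_fintype_card] at h1
    exact dvd_trans (dvd_trans h h1) (Subgroup.index_dvd_card _)
  obtain ⟨R, hR⟩ := Equiv.Perm.exists_fixed_point_of_prime hnd hσ
  have hR' : (MulAut.conjNormal y : MulAut N) • R = R := hR
  refine ⟨(R : Subgroup N).map N.subtype, ?_, ?_, ?_⟩
  · rintro _ ⟨v, -, rfl⟩
    exact v.2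
  · rintro _ ⟨v, hv, rfl⟩
    refine ⟨(MulAut.conjNormal y : MulAut N) v, ?_, ?_⟩
    · have h1 : (MulAut.conjNormal y : MulAut N) • v ∈
          (MulAut.conjNormal y : MulAut N) • (R : Subgroup N) :=
        Subgroup.smul_mem_pointwise_smul _ _ _ hv
      rw [← Sylow.pointwise_smul_def, hR'] at h1
      exact h1
    · rfl
  · rw [Subgroup.card_map_of_injective N.subtype_injective, Sylow.card_eq_multiplicity]

/-- (B) a normal subgroup of order prime to 19 is trivial -/
theorem eq_bot_of_not_dvd_card (hcard : Nat.card Q = 50232960) (hperf : commutator Q = ⊤)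
    (hcenter : Subgroup.center Q = ⊥) (y : Q) (hy : orderOf y = 19)
    (hcent : ∀ c : Q, Commute c y → ∀ r : ℕ, r.Prime → orderOf c = r → r = 3 ∨ r = 19)
    (N : Subgroup Q) [hNn : N.Normal] (h19 : ¬ 19 ∣ Nat.card N) : N = ⊥ := by
  haveI : Fact (Nat.Prime 19) := ⟨by norm_num⟩
  have hNQ : Nat.card N ∣ 50232960 := by
    rw [← hcard]
    exact Subgroup.card_subgroup_dvd_card N
  -- (B1) every prime divisor of `|N|` is 3
  have hprime : ∀ {r : ℕ}, r.Prime → r ∣ Nat.card N → r = 3 := by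
    intro r hr hrd
    by_contra hr3
    haveI : Fact r.Prime := ⟨hr⟩
    have hr19 : r ≠ 19 := by
      rintro rfl
      exact h19 hrd
    obtain ⟨R₀, hR₀N, hR₀y, hR₀card⟩ := exists_invariant_sylow y hy N h19 r
    obtain ⟨k, hk⟩ : ∃ k, k = (Nat.card N).factorization r := ⟨_, rfl⟩
    have hk1 : 1 ≤ k := by
      rw [hk]
      exact hr.factorization_pos_of_dvd (Nat.card_pos.ne') hrd
    rw [← hk] at hR₀card
    have hmod := card_modEq_card_inf_centralizer 19 y hy R₀ hR₀y
    have hD : Nat.card (R₀ ⊓ Subgroup.centralizer ({y} : Set Q) : Subgroup Q) = 1 := by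
      have hdvd : Nat.card (R₀ ⊓ Subgroup.centralizer ({y} : Set Q) : Subgroup Q) ∣ r ^ k := by
        rw [← hR₀card]
        exact Subgroup.card_dvd_of_le inf_le_left
      obtain ⟨j, -, hj⟩ := (Nat.dvd_prime_pow hr).mp hdvd
      rcases Nat.eq_zero_or_pos j with h0 | hpos
      · rw [hj, h0, pow_zero]
      · exfalso
        have hrD : r ∣ Nat.card (R₀ ⊓ Subgroup.centralizer ({y} : Set Q) : Subgroup Q) := by
          rw [hj]
          exact dvd_pow_self r hpos.ne'
        rcases prime_dvd_card_centralizer y hcent _ inf_le_right hr hrD with h | h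
        · exact hr3 h
        · exact hr19 h
    rw [hD, hR₀card] at hmod
    have hrk : r ^ k ∣ 50232960 := by
      rw [← hR₀card]
      exact dvd_trans (Subgroup.card_dvd_of_le hR₀N) hNQ
    have hrQ : r ∣ 50232960 := dvd_trans hrd hNQ
    rcases prime_dvd_cases hr hrQ with rfl | rfl | rfl | rfl | rfl
    · have hk7 : k ≤ 7 := by
        by_contra h
        have : 2 ^ 8 ∣ 50232960 := dvd_trans (pow_dvd_pow 2 (by omega)) hrk
        norm_num at this
      interval_cases k <;> simp [Nat.ModEq] at hmod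
    · exact hr3 rfl
    · have hk7 : k ≤ 1 := by
        by_contra h
        have : 5 ^ 2 ∣ 50232960 := dvd_trans (pow_dvd_pow 5 (by omega)) hrk
        norm_num at this
      interval_cases k
      simp [Nat.ModEq] at hmod
    · have hk7 : k ≤ 1 := by
        by_contra h
        have : 17 ^ 2 ∣ 50232960 := dvd_trans (pow_dvd_pow 17 (by omega)) hrk
        norm_num at this
      interval_cases k
      simp [Nat.ModEq] at hmod
    · exact hr19 rfl
  -- (B2) `|N| = 3 ^ k`, `k ≤ 5`
  obtain ⟨k, hk⟩ : ∃ k, Nat.card N = 3 ^ k :=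
    ⟨_, Nat.eq_prime_pow_of_unique_prime_dvd Nat.card_pos.ne' hprime⟩
  have hk5 : k ≤ 5 := by
    by_contra h
    have : 3 ^ 6 ∣ 50232960 := dvd_trans (pow_dvd_pow 3 (by omega)) (hk ▸ hNQ)
    norm_num at this
  -- (B3) `y` centralises `N`
  have hNy : ∀ u ∈ N, y * u * y⁻¹ ∈ N := fun u hu => hNn.conj_mem u hu y
  have hmod := card_modEq_card_inf_centralizer 19 y hy N hNy
  have hdvd : Nat.card (N ⊓ Subgroup.centralizer ({y} : Set Q) : Subgroup Q) ∣ 3 ^ k := by
    rw [← hk]
    exact Subgroup.card_dvd_of_le inf_le_left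
  obtain ⟨j, hjk, hj⟩ := (Nat.dvd_prime_pow Nat.prime_three).mp hdvd
  rw [hj, hk] at hmod
  have hjk' : j = k := by
    interval_cases k <;> interval_cases j <;> simp_all [Nat.ModEq]
  have hNC : N ≤ Subgroup.centralizer ({y} : Set Q) := by
    have h1 : (N ⊓ Subgroup.centralizer ({y} : Set Q) : Subgroup Q) = N :=
      Subgroup.eq_of_le_of_card_ge inf_le_left (by rw [hj, hjk', hk])
    rw [← h1]
    exact inf_le_right
  -- (B4) the centraliser of `N` is everything
  have hyZ : y ∈ Subgroup.centralizer (N : Set Q) := by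
    rw [Subgroup.mem_centralizer_iff]
    intro n hn
    exact Subgroup.mem_centralizer_singleton_iff.mp (hNC hn)
  have h19Z : 19 ∣ Nat.card (Subgroup.centralizer (N : Set Q)) := by
    have := orderOf_dvd_natCard (⟨y, hyZ⟩ : Subgroup.centralizer (N : Set Q))
    rwa [Subgroup.orderOf_mk, hy] at this
  have hZtop := eq_top_of_dvd_card hcard hperf y hy hcent (Subgroup.centralizer (N : Set Q)) h19Z
  rw [eq_bot_iff, ← hcenter]
  intro n hn
  rw [Subgroup.mem_center_iff]
  intro q
  have hq : q ∈ Subgroup.centralizer (N : Set Q) := by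
    rw [hZtop]
    trivial
  exact (Subgroup.mem_centralizer_iff.mp hq n hn).symm

end simple

/-- (M1) simplicity from the Sylow 19-subgroup -/
theorem isSimpleGroup_of_sylow19 {Q : Type*} [Group Q] [Finite Q] (hcard : Nat.card Q = 50232960)
    (hperf : commutator Q = ⊤) (hcenter : Subgroup.center Q = ⊥) (y : Q) (hy : orderOf y = 19)
    (hcent : ∀ c : Q, Commute c y → ∀ r : ℕ, r.Prime → orderOf c = r → r = 3 ∨ r = 19) :
    IsSimpleGroup Q := by
  haveI : Nontrivial Q := by
    rw [← Finite.one_lt_card_iff_nontrivial, hcard]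
    norm_num
  refine { exists_pair_ne := exists_pair_ne Q, eq_bot_or_eq_top_of_normal := fun N hN => ?_ }
  haveI := hN
  by_cases h19 : 19 ∣ Nat.card N
  · right
    exact eq_top_of_dvd_card hcard hperf y hy hcent N h19
  · left
    exact eq_bot_of_not_dvd_card hcard hperf hcenter y hy hcent N h19

end Cfsg.Agent.Lib.Helper70.Sylow19
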