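-- helper70: S4118 part A.  A non-normal TI subgroup `H`, Hall in its normalizer, in a `π`-separable
-- group `G` (`π` the primes of `|H|`): with `O` the largest normal `π'`-subgroup, `G = O N_G(H)` and
-- `O H` is normal.  No Feit-Thompson: a Sylow subgroup of a chain term and Frattini's argument.
import Mathlib
import Cfsg.Prelude.Def_OddOrderLocal
import Cfsg.Agent.S4116
import Cfsg.Agent.Lib.Helper62.TIHallFrob

set_option autoImplicit false

namespace Cfsg.Agent.Lib.Helper70.TIHallSep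

universe u

variable {G : Type u} [Group G]

theorem card_sup_dvd_of_normal [Finite G] (K₁ K₂ : Subgroup G) [K₂.Normal] :
    Nat.card ↥(K₁ ⊔ K₂) ∣ Nat.card K₁ * Nat.card K₂ := by
  have h1 := Subgroup.relIndex_mul_relIndex (⊥ : Subgroup G) K₂ (K₁ ⊔ K₂) bot_le le_sup_right
  rw [Subgroup.relIndex_bot_left, Subgroup.relIndex_bot_left, Subgroup.relIndex_sup_right] at h1
  rw [← h1, mul_comm (Nat.card K₁)]
  exact Nat.mul_dvd_mul_left _ (Subgroup.relIndex_dvd_card K₂ K₁)

/-- the join of all normal subgroups of order prime to `m` is one of them -/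
theorem sSup_coprime_mem [Finite G] (m : ℕ) :
    (sSup {K : Subgroup G | K.Normal ∧ (Nat.card K).Coprime m}).Normal ∧
    (Nat.card ↥(sSup {K : Subgroup G | K.Normal ∧ (Nat.card K).Coprime m})).Coprime m := by
  have hsc : SupClosed {K : Subgroup G | K.Normal ∧ (Nat.card K).Coprime m} := by
    intro K₁ h1 K₂ h2
    haveI := h1.1
    haveI := h2.1
    refine ⟨inferInstance, ?_⟩
    exact Nat.Coprime.coprime_dvd_left (card_sup_dvd_of_normal K₁ K₂)
      (Nat.Coprime.mul_left h1.2 h2.2)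
  have hbot : (⊥ : Subgroup G) ∈ {K : Subgroup G | K.Normal ∧ (Nat.card K).Coprime m} :=
    ⟨inferInstance, by rw [Subgroup.card_bot]; exact Nat.coprime_one_left m⟩
  exact hsc.sSup_mem (Set.toFinite _) hbot subset_rfl

/-- coprimality from: every prime divisor of `r` divides `m`, and `a` is prime to `m` -/
theorem coprime_of_primes_dvd {a r m : ℕ} (ha : a.Coprime m)
    (hr : ∀ q : ℕ, q.Prime → q ∣ r → q ∣ m) : a.Coprime r := by
  by_contra h
  obtain ⟨q, hq, hqa, hqr⟩ := Nat.Prime.not_coprime_iff_dvd.mp h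
  have h1 : q ∣ Nat.gcd a m := Nat.dvd_gcd hqa (hr q hq hqr)
  rw [ha] at h1
  exact hq.one_lt.ne' (Nat.dvd_one.mp h1)

/-- a TI subgroup: normalizers of nontrivial subgroups of a conjugate of `H` lie in the
corresponding conjugate of `N_G(H)` -/
theorem conj_mem_normalizer_of_ti (H : Subgroup G) (hTI : Cfsg.IsTISubset (H : Set G)) (g : G)
    (Q : Subgroup G) (hQ : Q ≤ H.map (MulAut.conj g).toMonoidHom) (hQ1 : Q ≠ ⊥) {n : G}
    (hn : n ∈ Subgroup.normalizer (Q : Set G)) :
    g⁻¹ * n * g ∈ Subgroup.normalizer (H : Set G) := by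
  by_contra hz
  obtain ⟨q, hq1⟩ := (Subgroup.ne_bot_iff_exists_ne_one).mp hQ1
  obtain ⟨h, hh, hhq⟩ := Subgroup.mem_map.mp (hQ q.2)
  have hnq : n * (q : G) * n⁻¹ ∈ Q := (Subgroup.mem_normalizer_iff.mp hn (q : G)).mp q.2
  obtain ⟨h', hh', hhq'⟩ := Subgroup.mem_map.mp (hQ hnq)
  have e1 : g * h * g⁻¹ = (q : G) := hhq
  have e2 : g * h' * g⁻¹ = n * (q : G) * n⁻¹ := hhq'
  have e3 : (g⁻¹ * n * g) * h * (g⁻¹ * n * g)⁻¹ = h' := by
    calc (g⁻¹ * n * g) * h * (g⁻¹ * n * g)⁻¹ = g⁻¹ * (n * (g * h * g⁻¹) * n⁻¹) * g := by group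
      _ = g⁻¹ * (g * h' * g⁻¹) * g := by rw [e1, e2]
      _ = h' := by group
  have h1 : h = 1 := hTI _ hz h hh (by rw [e3]; exact hh')
  apply hq1
  apply Subtype.ext
  rw [Subgroup.coe_one, ← e1, h1]
  group

theorem le_normalizer_of_ti (H : Subgroup G) (hTI : Cfsg.IsTISubset (H : Set G))
    (Q : Subgroup G) (hQ : Q ≤ H) (hQ1 : Q ≠ ⊥) :
    Subgroup.normalizer (Q : Set G) ≤ Subgroup.normalizer (H : Set G) := by
  intro n hn
  have hQ' : Q ≤ H.map (MulAut.conj (1 : G)).toMonoidHom := by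
    intro x hx
    exact Subgroup.mem_map.mpr ⟨x, hQ hx, by simp⟩
  have := conj_mem_normalizer_of_ti H hTI 1 Q hQ' hQ1 hn
  simpa using this

/-- a TI subgroup which is Hall in its normalizer is a Hall subgroup -/
theorem hall_of_ti [Finite G] (H : Subgroup G) (hTI : Cfsg.IsTISubset (H : Set G))
    (hHall : (Nat.card H).Coprime (H.subgroupOf (Subgroup.normalizer (H : Set G))).index) :
    (Nat.card H).Coprime H.index := by
  by_contra hnc
  obtain ⟨p, hp, hpH, hpI⟩ := Nat.Prime.not_coprime_iff_dvd.mp hnc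
  haveI : Fact p.Prime := ⟨hp⟩
  obtain ⟨P⟩ : Nonempty (Sylow p H) := inferInstance
  set PG : Subgroup G := (P : Subgroup H).map H.subtype with hPG
  have hPGH : PG ≤ H := Subgroup.map_subtype_le _
  have hPGp : IsPGroup p PG := P.isPGroup'.map _
  obtain ⟨S, hS⟩ := hPGp.exists_le_sylow
  have hidx : p ∣ PG.index := by
    rw [hPG, Subgroup.index_map_subtype]
    exact Dvd.dvd.mul_left hpI _
  have hne : PG ≠ (S : Subgroup G) := by
    intro h
    rw [h] at hidx
    exact S.not_dvd_index hidx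
  have hlt : PG < (S : Subgroup G) := lt_of_le_of_ne hS hne
  obtain ⟨x, hx, hxP⟩ :=
    Cfsg.Agent.Lib.Helper62.TIHallFrob.exists_mem_normalizer_not_mem_of_lt S.isPGroup' hlt
  have hPbot : (P : Subgroup H) ≠ ⊥ := P.ne_bot_of_dvd_card hpH
  have hPG1 : PG ≠ ⊥ := by
    intro h
    exact hPbot ((Subgroup.map_eq_bot_iff_of_injective _ (Subgroup.subtype_injective H)).mp h)
  have hxN : x ∈ Subgroup.normalizer (H : Set G) :=
    le_normalizer_of_ti H hTI PG hPGH hPG1 hx.2
  -- `x` is a `p`-element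
  obtain ⟨k, hk⟩ := S.isPGroup' ⟨x, hx.1⟩
  have hxk : x ^ p ^ k = 1 := by
    have := congrArg Subtype.val hk
    simpa using this
  have hxH : x ∈ H :=
    Cfsg.Agent.Lib.Helper62.TIHallFrob.mem_of_pElement Subgroup.le_normalizer
      Subgroup.normal_in_normalizer hHall hpH hxN hxk
  -- `S ⊓ H` gives a `p`-subgroup of `H` containing `P`
  have hSHp : IsPGroup p (((S : Subgroup G) ⊓ H).subgroupOf H) := by
    have h1 : IsPGroup p ((S : Subgroup G) ⊓ H : Subgroup G) :=
      S.isPGroup'.to_le inf_le_left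
    exact h1.comap_of_injective _ (Subgroup.subtype_injective H)
  have hPle : (P : Subgroup H) ≤ ((S : Subgroup G) ⊓ H).subgroupOf H := by
    intro y hy
    rw [Subgroup.mem_subgroupOf]
    exact ⟨hS (Subgroup.mem_map_of_mem H.subtype hy), y.2⟩
  have heq := P.is_maximal' hSHp hPle
  apply hxP
  have hxmem : (⟨x, hxH⟩ : H) ∈ ((S : Subgroup G) ⊓ H).subgroupOf H := by
    rw [Subgroup.mem_subgroupOf]
    exact ⟨hx.1, hxH⟩
  rw [heq] at hxmem
  exact Subgroup.mem_map.mpr ⟨⟨x, hxH⟩, hxmem, rfl⟩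

/-- a property that holds at the start of a chain and fails at its end is lost at some step -/
theorem exists_step {n : ℕ} (P : Fin (n + 1) → Prop) (h0 : P 0) (hlast : ¬ P (Fin.last n)) :
    ∃ i : Fin n, P i.castSucc ∧ ¬ P i.succ := by
  by_contra hcon
  push_neg at hcon
  have : ∀ i : Fin (n + 1), P i := by
    intro i
    induction i using Fin.induction with
    | zero => exact h0
    | succ i ih => exact hcon i ih
  exact hlast (this _)

/-- **Part A** -/
theorem partA [Finite G] (H : Subgroup G)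
    (hTI : Cfsg.IsTISubset (H : Set G)) (hnn : ¬ H.Normal)
    (hHall : (Nat.card H).Coprime (H.subgroupOf (Subgroup.normalizer (H : Set G))).index)
    (hsep : ∃ (n : ℕ) (M : Fin (n + 1) → Subgroup G), M 0 = ⊥ ∧ M (Fin.last n) = ⊤ ∧ Monotone M ∧
      (∀ i, (M i).Normal) ∧
      ∀ i : Fin n, (∀ q : ℕ, q.Prime → q ∣ (M i.castSucc).relIndex (M i.succ) → q ∣ Nat.card H) ∨
        ((M i.castSucc).relIndex (M i.succ)).Coprime (Nat.card H))
    (O : Subgroup G)
    (hO : O = sSup {K : Subgroup G | K.Normal ∧ (Nat.card K).Coprime (Nat.card H)}) :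
    O.Normal ∧ (Nat.card O).Coprime (Nat.card H) ∧
    (∀ K : Subgroup G, K.Normal → (Nat.card K).Coprime (Nat.card H) → K ≤ O) ∧
    O ⊔ Subgroup.normalizer (H : Set G) = ⊤ ∧ (O ⊔ H).Normal := by
  obtain ⟨hOn, hOc⟩ := sSup_coprime_mem (G := G) (Nat.card H)
  rw [← hO] at hOn hOc
  have hOmax : ∀ K : Subgroup G, K.Normal → (Nat.card K).Coprime (Nat.card H) → K ≤ O := by
    intro K hK1 hK2
    rw [hO]
    exact le_sSup ⟨hK1, hK2⟩
  have hHallG := hall_of_ti H hTI hHall
  have hm1 : Nat.card H ≠ 1 := by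
    intro h
    apply hnn
    rw [Subgroup.card_eq_one.mp h]
    infer_instance
  obtain ⟨n, M, hM0, hMlast, hmono, hMn, hfac⟩ := hsep
  -- the step at which coprimality is lost
  obtain ⟨i, hi1, hi2⟩ := exists_step (fun j => (Nat.card (M j)).Coprime (Nat.card H))
    (by
      change (Nat.card (M 0)).Coprime (Nat.card H)
      rw [hM0, Subgroup.card_bot]; exact Nat.coprime_one_left _)
    (by
      change ¬ (Nat.card (M (Fin.last n))).Coprime (Nat.card H)
      rw [hMlast, Subgroup.card_top]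
      intro h
      exact hm1 (Nat.Coprime.eq_one_of_dvd h.symm (Subgroup.card_subgroup_dvd_card H)))
  set D₀ := M i.castSucc with hD₀
  set D := M i.succ with hD
  have hle : D₀ ≤ D := hmono (Fin.castSucc_lt_succ).le
  haveI hD₀n : D₀.Normal := hMn _
  haveI hDn : D.Normal := hMn _
  have hcardD : Nat.card D₀ * D₀.relIndex D = Nat.card D := by
    have := Subgroup.relIndex_mul_relIndex (⊥ : Subgroup G) D₀ D bot_le hle
    rwa [Subgroup.relIndex_bot_left, Subgroup.relIndex_bot_left] at this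
  have hπ : ∀ q : ℕ, q.Prime → q ∣ D₀.relIndex D → q ∣ Nat.card H := by
    rcases hfac i with h | h
    · exact h
    · exfalso
      apply hi2
      change (Nat.card D).Coprime (Nat.card H)
      rw [← hcardD]
      exact Nat.Coprime.mul_left hi1 h
  have hr1 : D₀.relIndex D ≠ 1 := by
    intro h
    apply hi2
    change (Nat.card D).Coprime (Nat.card H)
    rw [← hcardD, h, mul_one]
    exact hi1
  have hD₀O : D₀ ≤ O := hOmax D₀ hD₀n hi1
  -- Schur-Zassenhaus in `D`
  have hcardD₀' : Nat.card (D₀.subgroupOf D) = Nat.card D₀ :=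
    Nat.card_congr (Subgroup.subgroupOfEquivOfLe hle).toEquiv
  have hcop : (Nat.card (D₀.subgroupOf D)).Coprime (D₀.subgroupOf D).index := by
    rw [hcardD₀']
    exact coprime_of_primes_dvd hi1 hπ
  obtain ⟨T', hT'⟩ := Subgroup.exists_right_complement'_of_coprime hcop
  have hcardT' : Nat.card T' = D₀.relIndex D := (hT'.symm.index_eq_card).symm
  set T : Subgroup G := T'.map D.subtype with hT
  have hcardT : Nat.card T = D₀.relIndex D := by
    rw [hT, Subgroup.card_map_of_injective (Subgroup.subtype_injective D), hcardT']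
  obtain ⟨g, hg⟩ := Cfsg.Agent.S4116.result H hHallG hTI T (by
    intro q hq hqT
    rw [hcardT] at hqT
    exact hπ q hq hqT)
  -- `D ≤ O ⊔ H`
  have hDle : D ≤ O ⊔ H := by
    intro d hd
    have hd' : g * d * g⁻¹ ∈ D := hDn.conj_mem d hd g
    have hmem : (⟨g * d * g⁻¹, hd'⟩ : D) ∈ D₀.subgroupOf D ⊔ T' := by
      rw [hT'.sup_eq_top]; exact Subgroup.mem_top _
    obtain ⟨a, ha, t, ht, hat⟩ := Subgroup.mem_sup_of_normal_left.mp hmem
    have haD₀ : (a : G) ∈ D₀ := Subgroup.mem_subgroupOf.mp ha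
    have htT : (t : G) ∈ T := Subgroup.mem_map_of_mem D.subtype ht
    obtain ⟨h, hh, hht⟩ := Subgroup.mem_map.mp (hg htT)
    have e1 : g * h * g⁻¹ = (t : G) := hht
    have e2 : (a : G) * (t : G) = g * d * g⁻¹ := by
      have := congrArg Subtype.val hat
      simpa using this
    have e3 : d = (g⁻¹ * (a : G) * g) * h := by
      calc d = g⁻¹ * (g * d * g⁻¹) * g := by group
        _ = g⁻¹ * ((a : G) * (g * h * g⁻¹)) * g := by rw [← e2, e1]
        _ = (g⁻¹ * (a : G) * g) * h := by group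
    rw [e3]
    apply Subgroup.mul_mem_sup _ hh
    apply hD₀O
    have := hD₀n.conj_mem (a : G) haD₀ g⁻¹
    simpa using this
  -- a prime `p` dividing the factor, and a Sylow `p`-subgroup of `D`
  obtain ⟨p, hp, hpr⟩ := Nat.exists_prime_and_dvd hr1
  haveI : Fact p.Prime := ⟨hp⟩
  have hpD : p ∣ Nat.card D := by
    rw [← hcardD]; exact Dvd.dvd.mul_left hpr _
  obtain ⟨Q₀⟩ : Nonempty (Sylow p D) := inferInstance
  have hQ₀bot : (Q₀ : Subgroup D) ≠ ⊥ := Q₀.ne_bot_of_dvd_card hpD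
  set QG : Subgroup G := (Q₀ : Subgroup D).map D.subtype with hQG
  have hQG1 : QG ≠ ⊥ := by
    intro h
    exact hQ₀bot ((Subgroup.map_eq_bot_iff_of_injective _ (Subgroup.subtype_injective D)).mp h)
  have hQGp : IsPGroup p QG := Q₀.isPGroup'.map _
  obtain ⟨g', hg'⟩ := Cfsg.Agent.S4116.result H hHallG hTI QG (by
    intro q hq hqQ
    obtain ⟨k, hk⟩ := hQGp.exists_card_eq
    rw [hk] at hqQ
    have : q = p := (Nat.prime_dvd_prime_iff_eq hq hp).mp (hq.dvd_of_dvd_pow hqQ)
    rw [this]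
    exact hπ p hp hpr)
  have hfrat : Subgroup.normalizer (QG : Set G) ⊔ D = ⊤ := Sylow.normalizer_sup_eq_top Q₀
  have htop : O ⊔ Subgroup.normalizer (H : Set G) = ⊤ := by
    rw [eq_top_iff]
    intro y _
    have hy : g' * y * g'⁻¹ ∈ Subgroup.normalizer (QG : Set G) ⊔ D := by
      rw [hfrat]; exact Subgroup.mem_top _
    obtain ⟨n', hn', d, hd, hnd⟩ := Subgroup.mem_sup_of_normal_right.mp hy
    have e1 : y = (g'⁻¹ * n' * g') * (g'⁻¹ * d * g') := by
      calc y = g'⁻¹ * (g' * y * g'⁻¹) * g' := by group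
        _ = g'⁻¹ * (n' * d) * g' := by rw [hnd]
        _ = (g'⁻¹ * n' * g') * (g'⁻¹ * d * g') := by group
    rw [e1]
    apply Subgroup.mul_mem
    · exact (le_sup_right : Subgroup.normalizer (H : Set G) ≤ O ⊔ Subgroup.normalizer (H : Set G))
        (conj_mem_normalizer_of_ti H hTI g' QG hg' hQG1 hn')
    · have h1 : g'⁻¹ * d * g' ∈ D := by
        have := hDn.conj_mem d hd g'⁻¹
        simpa using this
      have h2 : O ⊔ H ≤ O ⊔ Subgroup.normalizer (H : Set G) :=
        sup_le_sup_left Subgroup.le_normalizer O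
      exact h2 (hDle h1)
  refine ⟨hOn, hOc, hOmax, htop, ?_⟩
  rw [← Subgroup.normalizer_eq_top_iff, eq_top_iff, ← htop]
  apply sup_le
  · exact le_trans le_sup_left Subgroup.le_normalizer
  · rw [Subgroup.le_normalizer_iff]
    intro h hh k hk
    obtain ⟨a, ha, b, hb, rfl⟩ := Subgroup.mem_sup_of_normal_left.mp hk
    have e1 : h * (a * b) * h⁻¹ = (h * a * h⁻¹) * (h * b * h⁻¹) := by group
    rw [e1]
    exact Subgroup.mul_mem_sup (hOn.conj_mem a ha h) ((Subgroup.mem_normalizer_iff.mp hh b).mp hb)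

end Cfsg.Agent.Lib.Helper70.TIHallSep
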