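-- helper70: S4118 part B1.  With `O` a normal subgroup of order prime to `|H|` and `G = O N_G(H)`, the TI
-- subgroup `H` is a Frobenius complement in an abstract Frobenius group; hence `H` is solvable unless
-- it contains `SL(2,5)`, and its Sylow subgroups are cyclic or generalized quaternion.
import Mathlib
import Cfsg.Prelude.Def_OddOrderLocal
import Cfsg.Agent.Lib.Helper70.TIHallSepA
import Cfsg.Agent.Lib.Helper70.AutSolv
import Cfsg.Agent.Lib.Helper62.TIHallFrob
import Cfsg.Agent.Lib.Helper71.FrobCompl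
import Cfsg.Agent.Lib.Helper35.FrobSylow
import Cfsg.Agent.S3359
import Cfsg.Agent.S0016

set_option autoImplicit false

namespace Cfsg.Agent.Lib.Helper70.TIHallSep

open Cfsg.Agent.Lib.Helper62.TIHallFrob Cfsg.Agent.Lib.Helper70.AutSolv

universe u

variable {G : Type u} [Group G]

theorem card_sup_of_coprime [Finite G] (O H : Subgroup G) [O.Normal]
    (hc : (Nat.card O).Coprime (Nat.card H)) :
    Nat.card ↥(O ⊔ H) = Nat.card O * Nat.card H := by
  apply Nat.dvd_antisymm
  · have := card_sup_dvd_of_normal H O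
    rwa [sup_comm, mul_comm] at this
  · exact Nat.Coprime.mul_dvd_of_dvd_of_dvd hc (Subgroup.card_dvd_of_le le_sup_left)
      (Subgroup.card_dvd_of_le le_sup_right)

/-- the set-up of helper62 holds inside `O H` -/
theorem setup_in_sup [Finite G] (H O : Subgroup G) (hTI : Cfsg.IsTISubset (H : Set G))
    (hnn : ¬ H.Normal) (hOn : O.Normal) (hOc : (Nat.card O).Coprime (Nat.card H))
    (htop : O ⊔ Subgroup.normalizer (H : Set G) = ⊤) :
    Setup (O.subgroupOf (O ⊔ H)) (H.subgroupOf (O ⊔ H)) := by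
  have hcardM : Nat.card (O.subgroupOf (O ⊔ H)) = Nat.card O :=
    Nat.card_congr (Subgroup.subgroupOfEquivOfLe le_sup_left).toEquiv
  have hcardH : Nat.card (H.subgroupOf (O ⊔ H)) = Nat.card H :=
    Nat.card_congr (Subgroup.subgroupOfEquivOfLe le_sup_right).toEquiv
  have hc : (O.subgroupOf (O ⊔ H)).IsComplement' (H.subgroupOf (O ⊔ H)) := by
    apply Subgroup.isComplement'_of_coprime
    · rw [hcardM, hcardH, card_sup_of_coprime O H hOc]
    · rw [hcardM, hcardH]; exact hOc
  refine Setup.of_ti (N := Subgroup.normalizer ((H.subgroupOf (O ⊔ H) : Subgroup ↥(O ⊔ H)) :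
      Set ↥(O ⊔ H))) Subgroup.le_normalizer Subgroup.normal_in_normalizer ?_ ?_ inferInstance hc ?_
  · -- TI
    intro w hw x hx hwx
    have hwG : (w : G) ∉ Subgroup.normalizer (H : Set G) := by
      intro hwN
      apply hw
      rw [Subgroup.mem_normalizer_iff]
      intro h
      rw [Subgroup.mem_subgroupOf, Subgroup.mem_subgroupOf]
      have := Subgroup.mem_normalizer_iff.mp hwN (h : G)
      simpa using this
    have h1 : (x : G) = 1 := by
      apply hTI (w : G) hwG (x : G) (Subgroup.mem_subgroupOf.mp hx)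
      have := Subgroup.mem_subgroupOf.mp hwx
      simpa using this
    exact Subtype.ext h1
  · -- Hall
    rw [hcardH]
    have h1 : (H.subgroupOf (O ⊔ H)).relIndex (Subgroup.normalizer
        ((H.subgroupOf (O ⊔ H) : Subgroup ↥(O ⊔ H)) : Set ↥(O ⊔ H))) ∣
        (H.subgroupOf (O ⊔ H)).index :=
      Dvd.intro _ (Subgroup.relIndex_mul_index Subgroup.le_normalizer)
    have h2 : (H.subgroupOf (O ⊔ H)).index = Nat.card O := by
      rw [hc.index_eq_card, hcardM]
    rw [h2] at h1
    exact Nat.Coprime.coprime_dvd_right h1 hOc.symm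
  · -- not normal
    intro hn
    apply hnn
    rw [← Subgroup.normalizer_eq_top_iff, ← htop]
    refine le_antisymm le_sup_right (sup_le ?_ le_rfl)
    rw [Subgroup.le_normalizer_iff]
    intro o ho h hh
    have hoW : o ∈ O ⊔ H := (le_sup_left : O ≤ O ⊔ H) ho
    have hhW : h ∈ O ⊔ H := (le_sup_right : H ≤ O ⊔ H) hh
    have := hn.conj_mem (⟨h, hhW⟩ : ↥(O ⊔ H)) (Subgroup.mem_subgroupOf.mpr hh) ⟨o, hoW⟩
    have h3 := Subgroup.mem_subgroupOf.mp this
    simpa using h3

/-- index of cyclic subgroups, transported along an isomorphism -/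
theorem exists_zpowers_index_dvd_of_equiv {A B : Type*} [Group A] [Group B] (e : A ≃* B) (k : ℕ)
    (h : ∃ c : A, (Subgroup.zpowers c).index ∣ k) : ∃ c : B, (Subgroup.zpowers c).index ∣ k := by
  obtain ⟨c, hc⟩ := h
  refine ⟨e c, ?_⟩
  have h1 : Subgroup.zpowers (e c) = (Subgroup.zpowers c).map (e : A →* B) := by
    rw [MonoidHom.map_zpowers]; rfl
  rw [h1, Subgroup.index_map_equiv]
  exact hc

theorem exists_zpowers_index_two_quaternion (n : ℕ) :
    ∃ c : QuaternionGroup (2 ^ n), (Subgroup.zpowers c).index ∣ 2 := by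
  refine ⟨QuaternionGroup.a 1, ?_⟩
  haveI : NeZero (2 ^ n) := ⟨pow_ne_zero _ (by norm_num)⟩
  have h1 := Subgroup.card_mul_index (Subgroup.zpowers (QuaternionGroup.a 1 : QuaternionGroup (2 ^ n)))
  rw [Nat.card_zpowers, QuaternionGroup.orderOf_a_one, Nat.card_eq_fintype_card,
    QuaternionGroup.card] at h1
  have h2 : 0 < 2 ^ n := pos_of_ne_zero (NeZero.ne _)
  have h3 : (Subgroup.zpowers (QuaternionGroup.a 1 : QuaternionGroup (2 ^ n))).index = 2 := by
    nlinarith
  rw [h3]

/-- in the set-up of helper62, the Sylow subgroups of `H` are small -/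
theorem smallSylow_of_setup [Finite G] {M H : Subgroup G} (hS : Setup M H) : SmallSylow H := by
  intro p _ P
  set A : Subgroup G := (P : Subgroup H).map H.subtype with hA
  have hAH : A ≤ H := Subgroup.map_subtype_le _
  let eA : (P : Subgroup H) ≃* A :=
    (P : Subgroup H).equivMapOfInjective H.subtype (Subgroup.subtype_injective H)
  have hmain : IsCyclic (P : Subgroup H) ∨
      (p = 2 ∧ ∃ n : ℕ, Nonempty ((P : Subgroup H) ≃* QuaternionGroup (2 ^ n))) := by
    by_cases hAbot : A = ⊥
    · left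
      have : (P : Subgroup H) = ⊥ :=
        (Subgroup.map_eq_bot_iff_of_injective _ (Subgroup.subtype_injective H)).mp hAbot
      have hsub : Subsingleton (P : Subgroup H) := by
        rw [this]; infer_instance
      exact isCyclic_of_subsingleton
    · have hAp : IsPGroup p A := P.isPGroup'.map _
      haveI : Group.IsNilpotent A := hAp.isNilpotent
      have hsolv : Group.IsSolvable A := inferInstance
      obtain ⟨F, _, _, Kb, Bb, hKn, hcompl, hKb, hBb, hfpf, ⟨e⟩⟩ :=
        hS.frob_of_solvable hAH hAbot hsolv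
      have hBp : IsPGroup p Bb := hAp.of_equiv e
      have hu := Cfsg.Agent.Lib.Helper35.unique_subgroup_of_order_p_of_fpf Kb Bb hKb hfpf p
        (⊤ : Subgroup Bb) (hBp.to_subgroup ⊤)
      let f : (⊤ : Subgroup Bb) ≃* (P : Subgroup H) :=
        Subgroup.topEquiv.trans (e.symm.trans eA.symm)
      rcases Cfsg.Agent.S0016.result p (hBp.to_subgroup ⊤) hu with h | ⟨h2, n, ⟨q⟩⟩
      · left
        exact isCyclic_of_surjective f f.surjective
      · right
        exact ⟨h2, n, ⟨f.symm.trans q⟩⟩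
  rcases hmain with h | ⟨h2, n, ⟨q⟩⟩
  · obtain ⟨c, hc⟩ := h.exists_generator
    refine ⟨c, ?_⟩
    have : Subgroup.zpowers c = ⊤ := (Subgroup.eq_top_iff' _).mpr hc
    rw [this, Subgroup.index_top]
    exact one_dvd _
  · rw [if_pos h2]
    exact exists_zpowers_index_dvd_of_equiv q.symm 2 (exists_zpowers_index_two_quaternion n)

/-- `H` is solvable unless it contains a copy of `SL(2,5)` -/
theorem isSolvable_of_setup [Finite G] {M H : Subgroup G} (hS : Setup M H)
    (hno : ∀ K : Subgroup G, K ≤ H →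
      ¬ Nonempty (K ≃* Matrix.SpecialLinearGroup (Fin 2) (ZMod 5))) :
    Group.IsSolvable H := by
  by_contra hns
  obtain ⟨F, _, _, C, hC, ⟨e⟩⟩ := hS.exists_frobenius
  obtain ⟨L, _, _, C₀, hC₀, ⟨e₀⟩⟩ :=
    Cfsg.Agent.Lib.Helper71.exists_frobeniusComplement_type0 C hC
  obtain ⟨G₀, -, -, S, M', -, -, -, ⟨eS⟩, -, -⟩ :=
    Cfsg.Agent.S3359.result (G := H) hns ⟨L, inferInstance, inferInstance, C₀, hC₀, ⟨e.trans e₀⟩⟩
  refine hno (S.map H.subtype) (Subgroup.map_subtype_le _) ⟨?_⟩
  exact (S.equivMapOfInjective H.subtype (Subgroup.subtype_injective H)).symm.trans eS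

end Cfsg.Agent.Lib.Helper70.TIHallSep
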