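-- helper70: S4118 part B2.  Solvability of `C_G(H)`, of `N_G(H)` and of `G`.
import Mathlib
import Cfsg.Prelude.Def_OddOrderLocal
import Cfsg.Agent.Lib.Helper70.TIHallSepB

set_option autoImplicit false

namespace Cfsg.Agent.Lib.Helper70.TIHallSep

open Cfsg.Agent.Lib.Helper62.TIHallFrob Cfsg.Agent.Lib.Helper70.AutSolv

universe u

variable {G : Type u} [Group G]

theorem isSolvable_of_derivedSeries_le {X : Type*} [Group X] (k : ℕ) (C : Subgroup X)
    (hC : Group.IsSolvable C) (h : derivedSeries X k ≤ C) : Group.IsSolvable X := by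
  obtain ⟨j, hj⟩ := (Group.isSolvable_def C).mp hC
  have key : ∀ i, derivedSeries X (k + i) ≤ (derivedSeries C i).map C.subtype := by
    intro i
    induction i with
    | zero =>
      rw [derivedSeries_zero, ← MonoidHom.range_eq_map, Subgroup.range_subtype]
      exact h
    | succ i ih =>
      rw [← add_assoc, derivedSeries_succ, derivedSeries_succ, Subgroup.map_commutator]
      exact Subgroup.commutator_mono ih ih
  rw [Group.isSolvable_def]
  refine ⟨k + j, ?_⟩
  have := key j
  rw [hj, Subgroup.map_bot] at this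
  exact le_bot_iff.mp this

/-- a product of a solvable normal subgroup and a solvable subgroup is solvable -/
theorem isSolvable_of_normal_of_sup {X : Type*} [Group X] (A B : Subgroup X) [A.Normal]
    (hA : Group.IsSolvable A) (hB : Group.IsSolvable B) (h : A ⊔ B = ⊤) : Group.IsSolvable X := by
  have hsurj : Function.Surjective ((QuotientGroup.mk' A).comp B.subtype) := by
    intro q
    obtain ⟨x, rfl⟩ := QuotientGroup.mk'_surjective A q
    have hx : x ∈ A ⊔ B := by rw [h]; exact Subgroup.mem_top x
    obtain ⟨a, ha, b, hb, rfl⟩ := Subgroup.mem_sup_of_normal_left.mp hx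
    refine ⟨⟨b, hb⟩, ?_⟩
    rw [MonoidHom.comp_apply, map_mul]
    have : (QuotientGroup.mk' A) a = 1 := (QuotientGroup.eq_one_iff a).mpr ha
    rw [this, one_mul]
    rfl
  have hQ : Group.IsSolvable (X ⧸ A) := Group.isSolvable_of_surjective hsurj
  refine Group.isSolvable_of_ker_le_range A.subtype (QuotientGroup.mk' A) ?_
  rw [QuotientGroup.ker_mk', Subgroup.range_subtype]

/-- normality of `O K` when `G = O N` and `N` normalizes `K` -/
theorem normal_sup_of_normalizes (O K N : Subgroup G) [hOn : O.Normal] (htop : O ⊔ N = ⊤)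
    (hNK : ∀ n ∈ N, ∀ x ∈ K, n * x * n⁻¹ ∈ K) : (O ⊔ K).Normal := by
  rw [← Subgroup.normalizer_eq_top_iff, eq_top_iff, ← htop]
  apply sup_le
  · exact le_trans le_sup_left Subgroup.le_normalizer
  · rw [Subgroup.le_normalizer_iff]
    intro h hh k hk
    obtain ⟨a, ha, b, hb, rfl⟩ := Subgroup.mem_sup_of_normal_left.mp hk
    have e1 : h * (a * b) * h⁻¹ = (h * a * h⁻¹) * (h * b * h⁻¹) := by group
    rw [e1]
    exact Subgroup.mul_mem_sup (hOn.conj_mem a ha h) (hNK h hh b hb)

/-- `C_G(H)` is solvable: it is the product of the central subgroup `Z(H)` and a characteristic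
complement, which lies in `O`. -/
theorem isSolvable_centralizer [Finite G] (H O : Subgroup G) (hOn : O.Normal)
    (hOs : Group.IsSolvable O) (hOc : (Nat.card O).Coprime (Nat.card H))
    (hOmax : ∀ K : Subgroup G, K.Normal → (Nat.card K).Coprime (Nat.card H) → K ≤ O)
    (hHall : (Nat.card H).Coprime (H.subgroupOf (Subgroup.normalizer (H : Set G))).index)
    (htop : O ⊔ Subgroup.normalizer (H : Set G) = ⊤) :
    Group.IsSolvable (Subgroup.centralizer (H : Set G)) := by
  set C := Subgroup.centralizer (H : Set G) with hC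
  set N := Subgroup.normalizer (H : Set G) with hN
  have hCN : C ≤ N := Subgroup.centralizer_le_normalizer _
  -- `Z' = H ∩ C` inside `C` is central
  have hcentral : ∀ z ∈ H.subgroupOf C, ∀ c : ↥C, c * z = z * c := by
    intro z hz c
    apply Subtype.ext
    rw [Subgroup.coe_mul, Subgroup.coe_mul]
    exact (Subgroup.mem_centralizer_iff.mp c.2 (z : G) (Subgroup.mem_subgroupOf.mp hz)).symm
  haveI hZ'n : (H.subgroupOf C).Normal := by
    refine ⟨fun z hz c => ?_⟩
    rw [hcentral z hz c, mul_inv_cancel_right]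
    exact hz
  have hcardZ' : Nat.card (H.subgroupOf C) ∣ Nat.card H := by
    rw [← Subgroup.inf_subgroupOf_right,
      Nat.card_congr (Subgroup.subgroupOfEquivOfLe (inf_le_right : H ⊓ C ≤ C)).toEquiv]
    exact Subgroup.card_dvd_of_le inf_le_left
  have hidx : (H.subgroupOf C).index ∣ (H.subgroupOf N).index := by
    have h1 := Subgroup.relIndex_dvd_index_of_normal (H.subgroupOf N) (C.subgroupOf N)
    rwa [Subgroup.relIndex_subgroupOf hCN] at h1
  have hcop : (Nat.card (H.subgroupOf C)).Coprime (H.subgroupOf C).index :=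
    Nat.Coprime.coprime_dvd_left hcardZ' (Nat.Coprime.coprime_dvd_right hidx hHall)
  obtain ⟨K', hK'⟩ := Subgroup.exists_right_complement'_of_coprime hcop
  have hcardK' : Nat.card K' = (H.subgroupOf C).index := (hK'.symm.index_eq_card).symm
  have hK'cop : (Nat.card K').Coprime (Nat.card H) := by
    rw [hcardK']
    exact (Nat.Coprime.coprime_dvd_right hidx hHall).symm
  have hK'Z' : (Nat.card K').Coprime (Nat.card (H.subgroupOf C)) :=
    Nat.Coprime.coprime_dvd_right hcardZ' hK'cop
  -- `K'` is the set of elements of `C` killed by `|K'|`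
  have hpowK' : ∀ x : ↥C, x ∈ K' → x ^ Nat.card K' = 1 := by
    intro x hx
    have h1 : (⟨x, hx⟩ : K') ^ Nat.card K' = 1 := pow_card_eq_one'
    have h2 : (((⟨x, hx⟩ : K') ^ Nat.card K' : K') : ↥C) = ((1 : K') : ↥C) :=
      congrArg Subtype.val h1
    rw [Subgroup.coe_pow, Subgroup.coe_one] at h2
    exact h2
  have hmemK' : ∀ x : ↥C, x ^ Nat.card K' = 1 → x ∈ K' := by
    intro x hx
    have hmem : x ∈ H.subgroupOf C ⊔ K' := by
      rw [hK'.sup_eq_top]; exact Subgroup.mem_top x
    obtain ⟨z, hz, k, hk, rfl⟩ := Subgroup.mem_sup_of_normal_left.mp hmem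
    have hcomm : Commute z k := (hcentral z hz k).symm
    rw [hcomm.mul_pow, hpowK' k hk, mul_one] at hx
    have h1 : orderOf z ∣ Nat.card K' := orderOf_dvd_of_pow_eq_one hx
    have h2 : orderOf z ∣ Nat.card (H.subgroupOf C) := Subgroup.orderOf_dvd_natCard _ hz
    have h3 : orderOf z ∣ Nat.gcd (Nat.card K') (Nat.card (H.subgroupOf C)) := Nat.dvd_gcd h1 h2
    rw [hK'Z', Nat.dvd_one, orderOf_eq_one_iff] at h3
    rw [h3, one_mul]
    exact hk
  set K : Subgroup G := K'.map C.subtype with hK
  have hmemK : ∀ x : G, x ∈ K ↔ x ∈ C ∧ x ^ Nat.card K' = 1 := by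
    intro x
    constructor
    · rintro ⟨k, hk, rfl⟩
      refine ⟨k.2, ?_⟩
      have := congrArg Subtype.val (hpowK' k hk)
      simpa using this
    · rintro ⟨hxC, hx⟩
      refine ⟨⟨x, hxC⟩, hmemK' _ ?_, rfl⟩
      apply Subtype.ext
      simpa using hx
  -- `N` normalizes `K`
  have hNK : ∀ n ∈ N, ∀ x ∈ K, n * x * n⁻¹ ∈ K := by
    intro n hn x hx
    obtain ⟨hxC, hxp⟩ := (hmemK x).mp hx
    rw [hmemK]
    constructor
    · rw [hC, Subgroup.mem_centralizer_iff]
      intro h hh
      have hh' : n⁻¹ * h * n ∈ H := (Subgroup.mem_normalizer_iff''.mp hn h).mp hh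
      have h1 : (n⁻¹ * h * n) * x = x * (n⁻¹ * h * n) :=
        Subgroup.mem_centralizer_iff.mp hxC _ hh'
      calc h * (n * x * n⁻¹) = n * ((n⁻¹ * h * n) * x) * n⁻¹ := by group
        _ = n * (x * (n⁻¹ * h * n)) * n⁻¹ := by rw [h1]
        _ = n * x * n⁻¹ * h := by group
    · rw [conj_pow, hxp]
      group
  haveI := hOn
  have hOKn : (O ⊔ K).Normal := normal_sup_of_normalizes O K N htop hNK
  have hcardK : Nat.card K = Nat.card K' :=
    Subgroup.card_map_of_injective (Subgroup.subtype_injective C)
  have hOKc : (Nat.card ↥(O ⊔ K)).Coprime (Nat.card H) := by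
    have h1 : Nat.card ↥(O ⊔ K) ∣ Nat.card K * Nat.card O := by
      have := card_sup_dvd_of_normal K O
      rwa [sup_comm] at this
    apply Nat.Coprime.coprime_dvd_left h1
    rw [hcardK]
    exact Nat.Coprime.mul_left hK'cop hOc
  have hKO : K ≤ O := le_trans le_sup_right (hOmax (O ⊔ K) hOKn hOKc)
  -- `K'` is solvable
  have hK's : Group.IsSolvable K' := by
    let φ : K' →* O := (Subgroup.inclusion hKO).comp
      (K'.equivMapOfInjective C.subtype (Subgroup.subtype_injective C)).toMonoidHom
    have hφ : Function.Injective φ :=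
      (Subgroup.inclusion_injective hKO).comp (MulEquiv.injective _)
    exact Group.isSolvable_of_isSolvable_injective hφ
  have hZ's : Group.IsSolvable (H.subgroupOf C) := by
    apply Group.isSolvable_of_comm
    intro a b
    apply Subtype.ext
    rw [Subgroup.coe_mul, Subgroup.coe_mul]
    exact (hcentral a.1 a.2 b.1).symm
  exact isSolvable_of_normal_of_sup (H.subgroupOf C) K' hZ's hK's hK'.sup_eq_top

/-- **Part B**: `G` is solvable when `O` is and `H` has no subgroup `SL(2,5)`. -/
theorem partB [Finite G] (H O : Subgroup G) (hTI : Cfsg.IsTISubset (H : Set G))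
    (hnn : ¬ H.Normal)
    (hHall : (Nat.card H).Coprime (H.subgroupOf (Subgroup.normalizer (H : Set G))).index)
    (hOn : O.Normal) (hOc : (Nat.card O).Coprime (Nat.card H))
    (hOmax : ∀ K : Subgroup G, K.Normal → (Nat.card K).Coprime (Nat.card H) → K ≤ O)
    (htop : O ⊔ Subgroup.normalizer (H : Set G) = ⊤)
    (hOs : Group.IsSolvable O)
    (hno : ∀ K : Subgroup G, K ≤ H →
      ¬ Nonempty (K ≃* Matrix.SpecialLinearGroup (Fin 2) (ZMod 5))) :
    Group.IsSolvable G := by
  have hS := setup_in_sup H O hTI hnn hOn hOc htop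
  have hnoW : ∀ K : Subgroup ↥(O ⊔ H), K ≤ H.subgroupOf (O ⊔ H) →
      ¬ Nonempty (K ≃* Matrix.SpecialLinearGroup (Fin 2) (ZMod 5)) := by
    rintro K hK ⟨e⟩
    refine hno (K.map (O ⊔ H).subtype) ?_
      ⟨(K.equivMapOfInjective _ (Subgroup.subtype_injective _)).symm.trans e⟩
    rintro _ ⟨k, hk, rfl⟩
    exact Subgroup.mem_subgroupOf.mp (hK hk)
  have hHWs : Group.IsSolvable (H.subgroupOf (O ⊔ H)) := isSolvable_of_setup hS hnoW
  have hHWss : SmallSylow (H.subgroupOf (O ⊔ H)) := smallSylow_of_setup hS
  set N := Subgroup.normalizer (H : Set G) with hN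
  let e1 : H.subgroupOf (O ⊔ H) ≃* H := Subgroup.subgroupOfEquivOfLe le_sup_right
  let e2 : H.subgroupOf N ≃* H := Subgroup.subgroupOfEquivOfLe Subgroup.le_normalizer
  let e : H.subgroupOf (O ⊔ H) ≃* H.subgroupOf N := e1.trans e2.symm
  have hYs : Group.IsSolvable (H.subgroupOf N) :=
    Group.isSolvable_of_surjective (f := e.toMonoidHom) e.surjective
  have hYss : SmallSylow (H.subgroupOf N) := hHWss.of_surjective e.toMonoidHom e.surjective
  obtain ⟨k, hk⟩ := exists_derivedSeries_le_centralizer _ (H.subgroupOf N)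
    Subgroup.normal_in_normalizer rfl hYs hYss
  have hCs := isSolvable_centralizer H O hOn hOs hOc hOmax hHall htop
  have hCNs : Group.IsSolvable
      (Subgroup.centralizer ((H.subgroupOf N : Subgroup N) : Set N)) := by
    let φ : Subgroup.centralizer ((H.subgroupOf N : Subgroup N) : Set N) →*
        Subgroup.centralizer (H : Set G) :=
      (N.subtype.comp (Subgroup.centralizer ((H.subgroupOf N : Subgroup N) : Set N)).subtype
        ).codRestrict (Subgroup.centralizer (H : Set G)) (by
          intro x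
          rw [Subgroup.mem_centralizer_iff]
          intro h hh
          have := Subgroup.mem_centralizer_iff.mp x.2 ⟨h, Subgroup.le_normalizer hh⟩
            (Subgroup.mem_subgroupOf.mpr hh)
          exact congrArg Subtype.val this)
    have hφ : Function.Injective φ := by
      intro x y hxy
      have := congrArg Subtype.val hxy
      exact Subtype.ext (Subtype.ext this)
    exact Group.isSolvable_of_isSolvable_injective hφ
  have hNs : Group.IsSolvable N := isSolvable_of_derivedSeries_le k _ hCNs hk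
  haveI := hOn
  exact isSolvable_of_normal_of_sup O N hOs hNs htop

end Cfsg.Agent.Lib.Helper70.TIHallSep
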