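import Cfsg.Agent.Lib.Helper70.HallWielandt
import Cfsg.Agent.Lib.Helper1.PGroupMax
import Cfsg.Agent.Lib.Helper96.ElemAb

/-!
# The Wielandt-Yoshida refinement of the Hall-Wielandt theorem (helper70 library)

`S` a Sylow `p`-subgroup of `G`, `W` weakly closed in `S`, `N = N_G(W)`.  If `S ∩ G' ≠ S ∩ N'` then there are `x ∈ S`,
`z ∈ W` and a maximal subgroup `W₀` of `W` with `[x, z; p-1] ∈ W₀ \ Φ(W₀)`.

Tools: the transfer of a restriction is a power; the kernel of `N/N' → G/G'` splits off, so that a character of order `p`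
of `N` is nontrivial on `S ∩ G'`; transfer over an orbit of a subgroup on `G/N`; `Σ_{i<p} σ^i = (σ-1)^(p-1)` on `p`-torsion.
-/

set_option autoImplicit false
set_option linter.style.haveILetI false

open Finset

namespace Cfsg.Agent.Lib.Helper70.Yoshida

open Cfsg.Agent.Lib.Helper70.HallWielandt

theorem sum_range_eq_fwdDiff (p : ℕ) [hp : Fact p.Prime] {M : Type*} [AddCommGroup M] (f : ℕ → M)
    (hpf : ∀ i, p • f i = 0) : ∑ i ∈ range p, f i = (fwdDiff (1 : ℕ))^[p - 1] f 0 := by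
  have hchoose : ∀ (n k : ℕ), ∑ i ∈ range n, i.choose k = n.choose (k + 1) := by
    intro n k
    induction n with
    | zero => simp
    | succ n ih => rw [sum_range_succ, ih, Nat.choose_succ_succ' n k, add_comm]
  have hg : ∀ k, p • ((fwdDiff (1 : ℕ))^[k] f 0) = 0 := by
    intro k
    rw [fwdDiff_iter_eq_sum_shift, smul_sum]
    apply sum_eq_zero
    intro i _
    rw [smul_comm, hpf, smul_zero]
  have hf : ∀ i ∈ range p, f i = ∑ k ∈ range p, i.choose k • (fwdDiff (1 : ℕ))^[k] f 0 := by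
    intro i hi
    have h1 := shift_eq_sum_fwdDiff_iter (1 : ℕ) f i 0
    simp only [smul_eq_mul, mul_one, zero_add] at h1
    rw [h1]
    have hi' : i + 1 ≤ p := Nat.succ_le_of_lt (mem_range.mp hi)
    rw [← sum_range_add_sum_Ico _ hi']
    rw [eq_comm, add_eq_left]
    apply sum_eq_zero
    intro k hk
    rw [mem_Ico] at hk
    rw [Nat.choose_eq_zero_of_lt (by omega), zero_smul]
  rw [sum_congr rfl hf, sum_comm]
  have hp1 : p - 1 ∈ range p := mem_range.mpr (Nat.sub_lt hp.out.pos Nat.one_pos)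
  rw [sum_eq_single_of_mem (p - 1) hp1]
  · rw [← sum_smul, hchoose]
    have : p - 1 + 1 = p := Nat.sub_add_cancel hp.out.one_le
    rw [this, Nat.choose_self, one_smul]
  · intro k hk hk1
    rw [← sum_smul, hchoose]
    rw [mem_range] at hk
    have hdvd : p ∣ p.choose (k + 1) := hp.out.dvd_choose_self (by omega) (by omega)
    obtain ⟨m, hm⟩ := hdvd
    rw [hm, mul_comm, mul_smul, hg, smul_zero]

theorem prod_range_eq_of_table (p : ℕ) [hp : Fact p.Prime] {A : Type*} [CommGroup A] (b : ℕ → ℕ → A)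
    (hb : ∀ i j, b i (j + 1) = (b i j)⁻¹ * b (i + 1) j) (hpb : ∀ i, b i 0 ^ p = 1) :
    ∏ i ∈ range p, b i 0 = b 0 (p - 1) := by
  have key : ∀ j i, (fwdDiff (1 : ℕ))^[j] (fun i => Additive.ofMul (b i 0)) i = Additive.ofMul (b i j) := by
    intro j
    induction j with
    | zero => intro i; rfl
    | succ j ih =>
      intro i
      rw [Function.iterate_succ_apply', fwdDiff, ih, ih, hb, ← ofMul_div]
      congr 1
      rw [div_eq_mul_inv, mul_comm]
  have h := sum_range_eq_fwdDiff p (fun i => Additive.ofMul (b i 0))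
    (fun i => by
      show p • Additive.ofMul (b i 0) = 0
      rw [← ofMul_pow, hpb]; rfl)
  rw [key] at h
  have h2 : Additive.ofMul (∏ i ∈ range p, b i 0) = Additive.ofMul (b 0 (p - 1)) := by
    rw [ofMul_prod]; exact h
  exact h2

/-- group form without the Engel hypothesis: the product of the `Φ (z⁻ⁱ u zⁱ)` is `Φ [u, z; p-1]`. -/
theorem prod_conj_eq_of_torsion (p : ℕ) [hp : Fact p.Prime] {G A : Type*} [Group G] [CommGroup A]
    (D : Subgroup G) (Φ : G → A) (hΦ : ∀ x ∈ D, ∀ y ∈ D, Φ (x * y) = Φ x * Φ y)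
    (z u : G) (hz : ∀ d ∈ D, z⁻¹ * d * z ∈ D) (hu : u ∈ D)
    (hpu : ∀ i : ℕ, Φ ((z ^ i)⁻¹ * u * z ^ i) ^ p = 1) :
    ∏ i ∈ range p, Φ ((z ^ i)⁻¹ * u * z ^ i) = Φ ((fun y : G => y⁻¹ * z⁻¹ * y * z)^[p - 1] u) ∧
      (fun y : G => y⁻¹ * z⁻¹ * y * z)^[p - 1] u ∈ D := by
  have hΦ1 : Φ 1 = 1 := by
    have := hΦ 1 D.one_mem 1 D.one_mem
    rw [mul_one] at this
    exact (left_eq_mul.mp this)
  have hΦinv : ∀ x ∈ D, Φ x⁻¹ = (Φ x)⁻¹ := by
    intro x hx
    have := hΦ x⁻¹ (D.inv_mem hx) x hx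
    rw [inv_mul_cancel, hΦ1] at this
    exact eq_inv_of_mul_eq_one_left this.symm
  have hzi : ∀ (i : ℕ), ∀ d ∈ D, (z ^ i)⁻¹ * d * z ^ i ∈ D := by
    intro i
    induction i with
    | zero => intro d hd; simpa using hd
    | succ i ih =>
      intro d hd
      have := hz _ (ih d hd)
      have e : (z ^ (i + 1))⁻¹ * d * z ^ (i + 1) = z⁻¹ * ((z ^ i)⁻¹ * d * z ^ i) * z := by
        rw [pow_succ]; group
      rw [e]; exact this
  have hc : ∀ j : ℕ, (fun y : G => y⁻¹ * z⁻¹ * y * z)^[j] u ∈ D := by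
    intro j
    induction j with
    | zero => exact hu
    | succ j ih =>
      rw [Function.iterate_succ_apply']
      have := D.mul_mem (D.inv_mem ih) (hz _ ih)
      have e : ((fun y : G => y⁻¹ * z⁻¹ * y * z)^[j] u)⁻¹ * z⁻¹ * (fun y : G => y⁻¹ * z⁻¹ * y * z)^[j] u * z =
        ((fun y : G => y⁻¹ * z⁻¹ * y * z)^[j] u)⁻¹ * (z⁻¹ * (fun y : G => y⁻¹ * z⁻¹ * y * z)^[j] u * z) := by group
      show ((fun y : G => y⁻¹ * z⁻¹ * y * z)^[j] u)⁻¹ * z⁻¹ * (fun y : G => y⁻¹ * z⁻¹ * y * z)^[j] u * z ∈ D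
      rw [e]; exact this
  refine ⟨?_, hc _⟩
  have := prod_range_eq_of_table p
    (fun i j => Φ ((z ^ i)⁻¹ * ((fun y : G => y⁻¹ * z⁻¹ * y * z)^[j] u) * z ^ i)) ?_ ?_
  · simpa using this
  · intro i j
    show Φ ((z ^ i)⁻¹ * ((fun y : G => y⁻¹ * z⁻¹ * y * z)^[j + 1] u) * z ^ i) = _
    rw [Function.iterate_succ_apply']
    generalize hw : (fun y : G => y⁻¹ * z⁻¹ * y * z)^[j] u = w
    have hwD : w ∈ D := hw ▸ hc j
    show Φ ((z ^ i)⁻¹ * (w⁻¹ * z⁻¹ * w * z) * z ^ i) = (Φ ((z ^ i)⁻¹ * w * z ^ i))⁻¹ * Φ ((z ^ (i + 1))⁻¹ * w * z ^ (i + 1))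
    have e : (z ^ i)⁻¹ * (w⁻¹ * z⁻¹ * w * z) * z ^ i = ((z ^ i)⁻¹ * w * z ^ i)⁻¹ * ((z ^ (i + 1))⁻¹ * w * z ^ (i + 1)) := by
      rw [pow_succ]; group
    rw [e, hΦ _ (D.inv_mem (hzi i w hwD)) _ (hzi (i + 1) w hwD), hΦinv _ (hzi i w hwD)]
  · intro i
    exact hpu i


variable {G : Type*} [Group G]

theorem transfer_comp_apply {A B : Type*} [CommGroup A] [CommGroup B] (H : Subgroup G) [H.FiniteIndex]
    (φ : ↥H →* A) (f : A →* B) (g : G) :
    MonoidHom.transfer (f.comp φ) g = f (MonoidHom.transfer φ g) := by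
  classical
  haveI := H.fintypeQuotientOfFiniteIndex
  haveI : Fintype (Quotient (MulAction.orbitRel (Subgroup.zpowers g) (G ⧸ H))) := Fintype.ofFinite _
  rw [MonoidHom.transfer_eq_prod_quotient_orbitRel_zpowers_quot,
    MonoidHom.transfer_eq_prod_quotient_orbitRel_zpowers_quot, map_prod]
  rfl

theorem transfer_restrict_eq_pow {A : Type*} [CommGroup A] (H : Subgroup G) [H.FiniteIndex]
    (ψ : G →* A) (g : G) :
    MonoidHom.transfer (ψ.comp H.subtype) g = ψ g ^ H.index := by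
  classical
  haveI := H.fintypeQuotientOfFiniteIndex
  haveI : Fintype (Quotient (MulAction.orbitRel (Subgroup.zpowers g) (G ⧸ H))) := Fintype.ofFinite _
  rw [MonoidHom.transfer_eq_prod_quotient_orbitRel_zpowers_quot, Subgroup.index_eq_sum_minimalPeriod H g,
    ← Finset.prod_pow_eq_pow_sum]
  apply Finset.prod_congr rfl
  intro q _
  show ψ (q.out.out⁻¹ * g ^ _ * q.out.out) = ψ g ^ _
  rw [map_mul, map_mul, map_inv, map_pow, mul_comm, mul_inv_cancel_left]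

/-- the values of a transfer are `p`-torsion when those of the homomorphism are -/
theorem transfer_pow_eq_one {A : Type*} [CommGroup A] (H : Subgroup G) [H.FiniteIndex]
    (φ : ↥H →* A) (p : ℕ) (hφ : ∀ x, φ x ^ p = 1) (g : G) : MonoidHom.transfer φ g ^ p = 1 := by
  classical
  haveI := H.fintypeQuotientOfFiniteIndex
  haveI : Fintype (Quotient (MulAction.orbitRel (Subgroup.zpowers g) (G ⧸ H))) := Fintype.ofFinite _
  rw [MonoidHom.transfer_eq_prod_quotient_orbitRel_zpowers_quot, ← Finset.prod_pow]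
  apply Finset.prod_eq_one
  intro q _
  exact hφ _

/-- separation: an element of a finite abelian group that is not a `p`-th power is detected by a character
of order `p`. -/
theorem exists_char_of_not_pow {A : Type*} [CommGroup A] [Finite A] (p : ℕ) (b : A)
    (hb : ∀ a : A, a ^ p ≠ b) : ∃ π : A →* ℂˣ, (∀ a, π a ^ p = 1) ∧ π b ≠ 1 := by
  let R : Subgroup A := (powMonoidHom p : A →* A).range
  have hbR : (QuotientGroup.mk' R b) ≠ 1 := by
    intro h
    rw [QuotientGroup.mk'_apply, QuotientGroup.eq_one_iff] at h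
    obtain ⟨a, ha⟩ := h
    exact hb a ha
  haveI : NeZero (Monoid.exponent (A ⧸ R)) := ⟨Monoid.exponent_ne_zero_of_finite⟩
  obtain ⟨φ, hφ⟩ := CommGroup.exists_apply_ne_one_of_hasEnoughRootsOfUnity (A ⧸ R) ℂ hbR
  refine ⟨φ.comp (QuotientGroup.mk' R), ?_, hφ⟩
  intro a
  rw [MonoidHom.comp_apply, ← map_pow, ← map_pow]
  have : QuotientGroup.mk' R (a ^ p) = 1 := by
    rw [QuotientGroup.mk'_apply, QuotientGroup.eq_one_iff]
    exact ⟨a, rfl⟩
  rw [this, map_one]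

theorem exists_char_of_focal_ne [Finite G] {p : ℕ} [hp : Fact p.Prime] (S : Sylow p G) (N : Subgroup G)
    (hSN : (S : Subgroup G) ≤ N) (u₁ : G) (hu₁S : u₁ ∈ (S : Subgroup G)) (hu₁G : u₁ ∈ commutator G)
    (hu₁N : u₁ ∉ ⁅N, N⁆) :
    ∃ θ : ↥N →* ℂˣ, (∀ n, θ n ^ p = 1) ∧ ∃ u ∈ (S : Subgroup G) ⊓ commutator G, extd N θ u ≠ 1 := by
  classical
  let lam : ↥N →* Abelianization ↥N := Abelianization.of
  let V : G →* Abelianization ↥N := MonoidHom.transfer lam
  let ι : Abelianization ↥N →* Abelianization G := Abelianization.map N.subtype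
  have hker : ∀ x : ↥N, lam x = 1 ↔ (x : G) ∈ ⁅N, N⁆ := by
    intro x
    rw [← MonoidHom.mem_ker, Abelianization.ker_of, ← Subgroup.map_subtype_commutator]
    constructor
    · intro h
      exact ⟨x, h, rfl⟩
    · rintro ⟨y, hy, hyx⟩
      have : y = x := Subtype.ext hyx
      rwa [← this]
  have hNG : ⁅N, N⁆ ≤ commutator G := Subgroup.commutator_mono le_top le_top
  have hιlam : ∀ x : ↥N, ι (lam x) = Abelianization.of (x : G) := fun x => Abelianization.map_of _ x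
  have hI1 : ∀ g : G, ι (V g) = (Abelianization.of g) ^ N.index := by
    intro g
    rw [← transfer_comp_apply, ← transfer_restrict_eq_pow N]
    rfl
  have hofG : ∀ g : G, (Abelianization.of g : Abelianization G) = 1 ↔ g ∈ commutator G := by
    intro g
    rw [← MonoidHom.mem_ker, Abelianization.ker_of]
  have hVG : ∀ g : G, g ∈ commutator G → V g = 1 := fun g hg =>
    Abelianization.commutator_subset_ker V hg
  -- the index is prime to `p`
  have hidx : (N.index).Coprime p := by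
    rw [Nat.coprime_comm, Nat.Prime.coprime_iff_not_dvd hp.out]
    intro h
    exact S.not_dvd_index (dvd_trans h (Subgroup.index_dvd_of_le hSN))
  -- the `p'`-part of `|N|`
  obtain ⟨k, t, htp, hkt⟩ := Nat.exists_eq_pow_mul_and_not_dvd (Nat.card_pos (α := ↥N)).ne' p hp.out.ne_one
  have htc : t.Coprime p := by
    rw [Nat.coprime_comm, Nat.Prime.coprime_iff_not_dvd hp.out]; exact htp
  -- the set `C`
  let inC : Abelianization ↥N → Prop := fun b =>
    ∃ u : G, ∃ hS : u ∈ (S : Subgroup G), u ∈ commutator G ∧ lam ⟨u, hSN hS⟩ = b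
  have hCord : ∀ b, inC b → ∃ j : ℕ, orderOf b = p ^ j := by
    rintro b ⟨u, hS, -, rfl⟩
    obtain ⟨j, hj⟩ := (IsPGroup.iff_orderOf.mp S.2) ⟨u, hS⟩
    have h1 : orderOf (⟨u, hSN hS⟩ : ↥N) = p ^ j := by
      rw [← hj, Subgroup.orderOf_mk, Subgroup.orderOf_mk]
    have h2 : orderOf (lam ⟨u, hSN hS⟩) ∣ p ^ j := by
      rw [← h1]; exact orderOf_map_dvd lam _
    obtain ⟨i, -, hi⟩ := (Nat.dvd_prime_pow hp.out).mp h2
    exact ⟨i, hi⟩
  -- key step
  have key : ∀ b, inC b → (∃ a, a ^ p = b) → ∃ b₁, inC b₁ ∧ ∃ e : ℕ, e.Coprime p ∧ b₁ ^ p = b ^ e := by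
    rintro b ⟨u, hS, huG, rfl⟩ ⟨a, ha⟩
    obtain ⟨m, rfl⟩ := QuotientGroup.mk_surjective a
    have ha' : lam m ^ p = lam ⟨u, hSN hS⟩ := ha
    -- `m ^ p ∈ G'`
    have hmp : ((m : G)) ^ p ∈ commutator G := by
      have h1 : lam (m ^ p * (⟨u, hSN hS⟩ : ↥N)⁻¹) = 1 := by
        rw [map_mul, map_pow, map_inv, ha', mul_inv_cancel]
      rw [hker] at h1
      have h2 := hNG h1
      have h3 := Subgroup.mul_mem _ h2 huG
      have e : ((m ^ p * (⟨u, hSN hS⟩ : ↥N)⁻¹ : ↥N) : G) * u = (m : G) ^ p := by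
        simp
      rwa [e] at h3
    have hVmp : V (m : G) ^ p = 1 := by
      rw [← map_pow]; exact hVG _ hmp
    -- the element `a'`
    obtain ⟨w, hw⟩ : ∃ w : ↥N, lam w = lam m ^ N.index * (V (m : G))⁻¹ :=
      QuotientGroup.mk_surjective _
    have hwG : (w : G) ∈ commutator G := by
      rw [← hofG, ← hιlam, hw, map_mul, map_pow, map_inv, hιlam, hI1, mul_inv_cancel]
    -- `w ^ t` is a `p`-element
    have hwt : ∃ j : ℕ, orderOf ((w : G) ^ t) = p ^ j := by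
      have h1 : ((w : G) ^ t) ^ (p ^ k) = 1 := by
        rw [← pow_mul, mul_comm, ← hkt]
        have h2 : ((w ^ Nat.card ↥N : ↥N) : G) = 1 := by rw [pow_card_eq_one']; rfl
        rwa [Subgroup.coe_pow] at h2
      obtain ⟨j, -, hj⟩ := (Nat.dvd_prime_pow hp.out).mp (orderOf_dvd_of_pow_eq_one h1)
      exact ⟨j, hj⟩
    obtain ⟨h, hhN, hconj⟩ := exists_conj_mem_sylow S N hSN ((w : G) ^ t) (N.pow_mem w.2 t) hwt
    have hconjG : h⁻¹ * (w : G) ^ t * h ∈ commutator G := by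
      have := (inferInstance : (commutator G).Normal).conj_mem _ (Subgroup.pow_mem _ hwG t) h⁻¹
      rwa [inv_inv] at this
    refine ⟨lam w ^ t, ⟨h⁻¹ * (w : G) ^ t * h, hconj, hconjG, ?_⟩, N.index * t, ?_, ?_⟩
    · have e : (⟨h⁻¹ * (w : G) ^ t * h, hSN hconj⟩ : ↥N) = (⟨h, hhN⟩ : ↥N)⁻¹ * w ^ t * ⟨h, hhN⟩ := by
        apply Subtype.ext; simp
      rw [e, map_mul, map_mul, map_inv, map_pow, mul_comm, mul_inv_cancel_left]
    · exact Nat.Coprime.mul_left hidx htc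
    · rw [hw, ← pow_mul, mul_pow, inv_pow, ← pow_mul]
      have e1 : N.index * (t * p) = p * (N.index * t) := by ring
      have e2 : V (m : G) ^ (t * p) = 1 := by rw [mul_comm, pow_mul, hVmp, one_pow]
      rw [e1, pow_mul, ha', e2, inv_one, mul_one]
  -- contradiction argument
  by_contra hcon
  push Not at hcon
  have hpow : ∀ b, inC b → ∃ a, a ^ p = b := by
    intro b hb
    by_contra hno
    push Not at hno
    obtain ⟨π, hπp, hπb⟩ := exists_char_of_not_pow p b hno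
    obtain ⟨u, hS, huG, hub⟩ := hb
    have := hcon (π.comp lam) (fun n => hπp _) u ⟨hS, huG⟩
    rw [extd_of_mem N _ (hSN hS)] at this
    apply hπb
    rw [← hub]
    exact this
  have step : ∀ b, inC b → b ≠ 1 → ∃ b₁, inC b₁ ∧ b₁ ≠ 1 ∧ orderOf b < orderOf b₁ := by
    intro b hb hb1
    obtain ⟨b₁, hb₁, e, he, hbe⟩ := key b hb (hpow b hb)
    obtain ⟨j, hj⟩ := hCord b hb
    obtain ⟨j₁, hj₁⟩ := hCord b₁ hb₁
    have hco : (orderOf b).Coprime e := by
      rw [hj]; exact Nat.Coprime.pow_left j he.symm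
    have ho : orderOf (b ^ e) = orderOf b := hco.orderOf_pow
    have hbe1 : b ^ e ≠ 1 := by
      intro h
      rw [← orderOf_eq_one_iff, ho, orderOf_eq_one_iff] at h
      exact hb1 h
    have hb₁1 : b₁ ≠ 1 := by
      intro h
      rw [h, one_pow] at hbe
      exact hbe1 hbe.symm
    refine ⟨b₁, hb₁, hb₁1, ?_⟩
    have hj₁0 : j₁ ≠ 0 := by
      intro h0
      rw [h0, pow_zero, orderOf_eq_one_iff] at hj₁
      exact hb₁1 hj₁
    have hpd : p ∣ orderOf b₁ := by rw [hj₁]; exact dvd_pow_self p hj₁0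
    have ho1 : orderOf (b₁ ^ p) = orderOf b₁ / p := orderOf_pow_of_dvd hp.out.ne_zero hpd
    rw [hbe, ho] at ho1
    rw [ho1]
    exact Nat.div_lt_self (orderOf_pos b₁) hp.out.one_lt
  have unbounded : ∀ j : ℕ, ∃ b, inC b ∧ b ≠ 1 ∧ j ≤ orderOf b := by
    intro j
    induction j with
    | zero =>
      refine ⟨lam ⟨u₁, hSN hu₁S⟩, ⟨u₁, hu₁S, hu₁G, rfl⟩, ?_, Nat.zero_le _⟩
      intro h
      rw [hker] at h
      exact hu₁N h
    | succ j ih =>
      obtain ⟨b, hb, hb1, hjb⟩ := ih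
      obtain ⟨b₁, hb₁, hb₁1, hlt⟩ := step b hb hb1
      exact ⟨b₁, hb₁, hb₁1, by omega⟩
  obtain ⟨b, -, -, hb⟩ := unbounded (Nat.card (Abelianization ↥N) + 1)
  have := orderOf_le_card (G := Abelianization ↥N) (x := b)
  omega

/-- **Transfer over an orbit.**  For a subgroup `Γ` of `G` and a coset `a = g N`, the transfer from `Γ` to the stabiliser
`Γ ∩ Stab a` of the homomorphism `d ↦ θ (g⁻¹ d g)` is a homomorphism `μ : Γ → A` whose value at `v` is the product of the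
`θ`-values over the cosets of the orbit `Γ a` fixed by `v`, provided the longer cycles of `v` contribute trivially. -/
theorem exists_orbit_transfer [Finite G] {A : Type*} [CommGroup A] (N : Subgroup G) (θ : ↥N →* A)
    (Γ : Subgroup G) (g : G) [Fintype (G ⧸ N)] [DecidableEq (G ⧸ N)] :
    ∃ μ : ↥Γ →* A, (∀ p : ℕ, (∀ n, θ n ^ p = 1) → ∀ k, μ k ^ p = 1) ∧
      ∀ (v : G) (hv : v ∈ Γ),
        (∀ (y : G) (r : ℕ), y ∈ Γ → 1 < r → r ∣ orderOf v →
          y⁻¹ * v ^ r * y ∈ MulAction.stabilizer G (g : G ⧸ N) →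
          extd N θ (g⁻¹ * (y⁻¹ * v ^ r * y) * g) = 1) →
        ∀ s : Finset (G ⧸ N), (∀ x, x ∈ s ↔ (x ∈ MulAction.orbit Γ (g : G ⧸ N) ∧ v • x = x)) →
        μ ⟨v, hv⟩ = ∏ x ∈ s, extd N θ (x.out⁻¹ * v * x.out) := by
  classical
  -- the stabiliser and the conjugation homomorphism
  let Δ : Subgroup G := Γ ⊓ MulAction.stabilizer G (g : G ⧸ N)
  have hΔN : ∀ d : G, d ∈ Δ → g⁻¹ * d * g ∈ N := by
    intro d hd
    rw [← smul_mk_eq_iff]
    exact hd.2
  let cj : ↥(Δ.subgroupOf Γ) →* ↥N := MonoidHom.mk' (fun d => ⟨g⁻¹ * ((d : ↥Γ) : G) * g, hΔN _ d.2⟩) (by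
    intro x y
    apply Subtype.ext
    show g⁻¹ * (((x * y : ↥(Δ.subgroupOf Γ)) : ↥Γ) : G) * g = (g⁻¹ * ((x : ↥Γ) : G) * g) * (g⁻¹ * ((y : ↥Γ) : G) * g)
    push_cast
    group)
  let φ : ↥(Δ.subgroupOf Γ) →* A := θ.comp cj
  have hφ : ∀ (k : ↥Γ) (hk : k ∈ Δ.subgroupOf Γ), φ ⟨k, hk⟩ = extd N θ (g⁻¹ * (k : G) * g) := by
    intro k hk
    have hm : g⁻¹ * (k : G) * g ∈ N := hΔN (k : G) hk
    rw [extd_of_mem N θ hm]
    rfl
  refine ⟨MonoidHom.transfer φ, ?_, ?_⟩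
  · intro p hθ k
    exact transfer_pow_eq_one _ φ p (fun x => hθ _) k
  intro v hv hcyc s hs
  haveI : Fintype (↥Γ ⧸ Δ.subgroupOf Γ) := Fintype.ofFinite _
  rw [transfer_eq_prod_fixed (Δ.subgroupOf Γ) φ ⟨v, hv⟩]
  · -- the bijection between fixed cosets and fixed points of the orbit
    have hfix_iff : ∀ γ : ↥Γ, (⟨v, hv⟩ : ↥Γ) • (γ : ↥Γ ⧸ Δ.subgroupOf Γ) = (γ : ↥Γ ⧸ Δ.subgroupOf Γ) ↔
        v • ((γ : G) • (g : G ⧸ N)) = (γ : G) • (g : G ⧸ N) := by
      intro γ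
      rw [smul_mk_eq_iff, Subgroup.mem_subgroupOf]
      show (γ : G)⁻¹ * v * (γ : G) ∈ Γ ⊓ MulAction.stabilizer G (g : G ⧸ N) ↔ _
      rw [Subgroup.mem_inf, MulAction.mem_stabilizer_iff, mul_smul, mul_smul, inv_smul_eq_iff]
      constructor
      · intro h; exact h.2
      · intro h; exact ⟨Γ.mul_mem (Γ.mul_mem (Γ.inv_mem γ.2) hv) γ.2, h⟩
    apply Finset.prod_bij (fun c _ => ((c.out : ↥Γ) : G) • (g : G ⧸ N))
    · intro c hc
      rw [mem_filter] at hc
      rw [hs]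
      refine ⟨⟨c.out, rfl⟩, ?_⟩
      rw [← hfix_iff, QuotientGroup.out_eq']
      exact hc.2
    · intro c _ c' _ h
      have h1 : ((c'.out : ↥Γ) : G)⁻¹ * ((c.out : ↥Γ) : G) ∈ Δ := by
        refine ⟨Γ.mul_mem (Γ.inv_mem c'.out.2) c.out.2, ?_⟩
        show _ ∈ MulAction.stabilizer G (g : G ⧸ N)
        rw [MulAction.mem_stabilizer_iff, mul_smul, h, inv_smul_smul]
      have h2 : ((c'.out : ↥Γ) : ↥Γ ⧸ Δ.subgroupOf Γ) = ((c.out : ↥Γ) : ↥Γ ⧸ Δ.subgroupOf Γ) := by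
        rw [QuotientGroup.eq, Subgroup.mem_subgroupOf]
        exact h1
      rw [QuotientGroup.out_eq', QuotientGroup.out_eq'] at h2
      exact h2.symm
    · intro x hx
      rw [hs] at hx
      obtain ⟨⟨γ, hγ⟩, hvx⟩ := hx
      have hγ' : ((γ : ↥Γ) : G) • (g : G ⧸ N) = x := hγ
      -- the representative of the coset of `γ`
      have h1 : (γ⁻¹ * ((γ : ↥Γ ⧸ Δ.subgroupOf Γ)).out) ∈ Δ.subgroupOf Γ := by
        rw [← QuotientGroup.eq, QuotientGroup.out_eq']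
      have h2 : ((((γ : ↥Γ ⧸ Δ.subgroupOf Γ)).out : ↥Γ) : G) • (g : G ⧸ N) = x := by
        rw [Subgroup.mem_subgroupOf] at h1
        have h3 : ((γ⁻¹ * ((γ : ↥Γ ⧸ Δ.subgroupOf Γ)).out : ↥Γ) : G) ∈ MulAction.stabilizer G (g : G ⧸ N) := h1.2
        rw [MulAction.mem_stabilizer_iff] at h3
        have e : ((((γ : ↥Γ ⧸ Δ.subgroupOf Γ)).out : ↥Γ) : G) =
            (γ : G) * ((γ⁻¹ * ((γ : ↥Γ ⧸ Δ.subgroupOf Γ)).out : ↥Γ) : G) := by
          push_cast; group
        rw [e, mul_smul, h3, hγ']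
      refine ⟨(γ : ↥Γ ⧸ Δ.subgroupOf Γ), ?_, h2⟩
      rw [mem_filter]
      refine ⟨mem_univ _, ?_⟩
      rw [hfix_iff, hγ']
      exact hvx
    · intro c hc
      rw [mem_filter] at hc
      have hmem : c.out⁻¹ * (⟨v, hv⟩ : ↥Γ) * c.out ∈ Δ.subgroupOf Γ := by
        rw [← smul_mk_eq_iff, QuotientGroup.out_eq']
        exact hc.2
      rw [extd_of_mem _ φ hmem, hφ]
      have hx : ((((c.out : ↥Γ) : G) * g : G) : G ⧸ N) = ((c.out : ↥Γ) : G) • (g : G ⧸ N) := rfl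
      have e : g⁻¹ * ((c.out⁻¹ * (⟨v, hv⟩ : ↥Γ) * c.out : ↥Γ) : G) * g =
          (((c.out : ↥Γ) : G) * g)⁻¹ * v * (((c.out : ↥Γ) : G) * g) := by
        push_cast; group
      rw [e]
      have hmemN : (((c.out : ↥Γ) : G) * g)⁻¹ * v * (((c.out : ↥Γ) : G) * g) ∈ N := by
        rw [← e]; exact hΔN _ hmem
      exact (extd_out_conj N θ v _ _ hx hmemN).symm
  · -- the longer cycles
    intro y r hr hrd hmem
    rw [extd_of_mem _ φ hmem, hφ]
    have hrd' : r ∣ orderOf v := by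
      rwa [Subgroup.orderOf_mk] at hrd
    have e : ((y⁻¹ * (⟨v, hv⟩ : ↥Γ) ^ r * y : ↥Γ) : G) = (y : G)⁻¹ * v ^ r * (y : G) := by
      push_cast; rfl
    rw [e]
    apply hcyc _ r y.2 hr hrd'
    rw [← e]
    exact hmem.2


/-- a subgroup of prime index is a coatom -/
theorem isCoatom_of_index_prime {X : Type*} [Group X] [Finite X] {p : ℕ} (hp : p.Prime) (H : Subgroup X)
    (hH : H.index = p) : IsCoatom H := by
  constructor
  · intro h
    rw [h, Subgroup.index_top] at hH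
    exact hp.one_lt.ne hH
  · intro L hL
    have h1 : L.index ∣ p := hH ▸ Subgroup.index_dvd_of_le hL.le
    rcases (Nat.dvd_prime hp).mp h1 with h2 | h2
    · exact Subgroup.index_eq_one.mp h2
    · exfalso
      have h3 := Subgroup.relIndex_mul_index hL.le
      rw [hH, h2] at h3
      have h4 : H.relIndex L = 1 := by
        have := hp.pos
        nlinarith [h3]
      rw [Subgroup.relIndex_eq_one] at h4
      exact hL.not_ge h4

/-- in a `p`-group `K`, a proper subgroup lies in a normal subgroup of index `p` -/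
theorem exists_normal_index_p [Finite G] {p : ℕ} [hp : Fact p.Prime] (K K₁ : Subgroup G) (hK : IsPGroup p K)
    (h₁ : K₁ ≤ K) (hne : ¬ K ≤ K₁) :
    ∃ K₀ : Subgroup G, K₁ ≤ K₀ ∧ K₀ ≤ K ∧ (K₀.subgroupOf K).Normal ∧ (K₀.subgroupOf K).index = p := by
  have hL : K₁.subgroupOf K ≠ ⊤ := by
    rw [Ne, Subgroup.subgroupOf_eq_top]; exact hne
  obtain ⟨M, hM, hLM⟩ := (eq_top_or_exists_le_coatom (K₁.subgroupOf K)).resolve_left hL
  have hMn : M.Normal := Cfsg.Agent.Lib.Helper1.coatom_normal_of_isPGroup hK hM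
  have hMi : M.index = p := Cfsg.Agent.Lib.Helper1.coatom_index_of_isPGroup hK hM
  have hback : (M.map K.subtype).subgroupOf K = M :=
    Subgroup.comap_map_eq_self_of_injective K.subtype_injective M
  refine ⟨M.map K.subtype, ?_, Subgroup.map_subtype_le M, ?_, ?_⟩
  · intro x hx
    exact ⟨⟨x, h₁ hx⟩, hLM (Subgroup.mem_subgroupOf.mpr hx), rfl⟩
  · rw [hback]; exact hMn
  · rw [hback]; exact hMi

/-- `W ≤ K`, `K₀` normal of index `p` in `K`, `W ≰ K₀`: then `W ∩ K₀` is a maximal subgroup of `W`. -/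
theorem isCoatom_subgroupOf_of_index_p [Finite G] {p : ℕ} [hp : Fact p.Prime] (K K₀ W : Subgroup G)
    (hn : (K₀.subgroupOf K).Normal) (hi : (K₀.subgroupOf K).index = p) (hWK : W ≤ K) (hW : ¬ W ≤ K₀) :
    IsCoatom (K₀.subgroupOf W) := by
  apply isCoatom_of_index_prime hp.out
  have h1 : (K₀.subgroupOf K).relIndex (W.subgroupOf K) ∣ p := hi ▸ Subgroup.relIndex_dvd_index_of_normal _ _
  rw [Subgroup.relIndex_subgroupOf hWK] at h1
  rcases (Nat.dvd_prime hp.out).mp h1 with h2 | h2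
  · exfalso
    rw [Subgroup.relIndex_eq_one] at h2
    exact hW h2
  · exact h2

/-- cosets of a normal subgroup of index `p`: the powers `z^i`, `i < p`, of an element outside it
are coset representatives. -/
theorem coset_reps_of_index_p {X : Type*} [Group X] [Finite X] {p : ℕ} [hp : Fact p.Prime] (M : Subgroup X)
    [hn : M.Normal] (hi : M.index = p) (z : X) (hz : z ∉ M) :
    (∀ k : X, ∃ i < p, (z ^ i)⁻¹ * k ∈ M) ∧ ∀ i < p, ∀ j < p, (z ^ j)⁻¹ * z ^ i ∈ M → i = j := by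
  classical
  have hcard : Nat.card (X ⧸ M) = p := by rw [← Subgroup.index_eq_card]; exact hi
  have hq1 : (QuotientGroup.mk' M z) ≠ 1 := by
    intro h
    rw [QuotientGroup.mk'_apply, QuotientGroup.eq_one_iff] at h
    exact hz h
  have hord : orderOf (QuotientGroup.mk' M z) = p := by
    apply orderOf_eq_prime
    · rw [← hcard]; exact pow_card_eq_one'
    · exact hq1
  constructor
  · intro k
    have hmem : QuotientGroup.mk' M k ∈ Subgroup.zpowers (QuotientGroup.mk' M z) := by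
      rw [zpowers_eq_top_of_prime_card hcard hq1]; exact Subgroup.mem_top _
    rw [mem_zpowers_iff_mem_range_orderOf, hord, Finset.mem_image] at hmem
    obtain ⟨i, hi', hik⟩ := hmem
    refine ⟨i, Finset.mem_range.mp hi', ?_⟩
    rw [← QuotientGroup.eq_one_iff, ← QuotientGroup.mk'_apply, map_mul, map_inv, map_pow]
    rw [← hik]
    exact inv_mul_cancel _
  · intro i hi' j hj h
    have h1 : (QuotientGroup.mk' M z) ^ j = (QuotientGroup.mk' M z) ^ i := by
      rw [← QuotientGroup.eq_one_iff, ← QuotientGroup.mk'_apply, map_mul, map_inv, map_pow, map_pow] at h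
      exact (inv_mul_eq_one.mp h)
    have := pow_injOn_Iio_orderOf (x := QuotientGroup.mk' M z) (by rw [hord]; exact hj) (by rw [hord]; exact hi') h1
    exact this.symm


/-- the Frattini subgroup lies in the kernel of a homomorphism into an abelian group with values of order `p` -/
theorem frattini_le_ker_of_pow {X A : Type*} [Group X] [CommGroup A] (p : ℕ) [Fact p.Prime] (χ : X →* A)
    (hχ : ∀ x, χ x ^ p = 1) : frattini X ≤ χ.ker := by
  have h1 := frattini_le_comap_frattini_of_surjective (QuotientGroup.mk'_surjective χ.ker)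
  have h2 : frattini (X ⧸ χ.ker) = ⊥ := by
    apply Cfsg.Agent.Lib.Helper96.frattini_eq_bot_of_elemAb p
    · intro a b
      obtain ⟨a, rfl⟩ := QuotientGroup.mk'_surjective χ.ker a
      obtain ⟨b, rfl⟩ := QuotientGroup.mk'_surjective χ.ker b
      rw [← map_mul, ← map_mul, QuotientGroup.mk'_eq_mk']
      refine ⟨(a * b)⁻¹ * (b * a), ?_, by group⟩
      rw [MonoidHom.mem_ker, map_mul, map_inv, map_mul, map_mul, mul_comm (χ b) (χ a), inv_mul_cancel]
    · intro x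
      obtain ⟨x, rfl⟩ := QuotientGroup.mk'_surjective χ.ker x
      rw [← map_pow]
      apply (QuotientGroup.eq_one_iff _).mpr
      rw [MonoidHom.mem_ker, map_pow]
      exact hχ x
  rw [h2] at h1
  intro x hx
  have := h1 hx
  rw [Subgroup.mem_comap, Subgroup.mem_bot] at this
  exact (QuotientGroup.eq_one_iff _).mp this

/-- only the trivial coset is fixed by the weakly closed subgroup `W` -/
theorem not_le_stabilizer_of_ne [Finite G] {p : ℕ} [Fact p.Prime] (S : Sylow p G) (W : Subgroup G)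
    (hW : Cfsg.IsWeaklyClosed W (S : Subgroup G)) (N : Subgroup G) (hN : Subgroup.normalizer (W : Set G) = N)
    (x : G ⧸ N) (hx : x ≠ ((1 : G) : G ⧸ N)) : ¬ W ≤ MulAction.stabilizer G x := by
  intro hle
  apply hx
  obtain ⟨g, rfl⟩ := QuotientGroup.mk_surjective x
  have hg : g ∈ Subgroup.normalizer (W : Set G) := by
    apply mem_normalizer_of_conj_le S W hW g
    intro q hq
    rw [hN, ← smul_mk_eq_iff]
    exact hle hq
  rw [hN] at hg
  rw [QuotientGroup.eq]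
  simpa using hg

theorem exists_engel_witness [Finite G] {p : ℕ} [hp : Fact p.Prime] (S : Sylow p G) (W : Subgroup G)
    (hW : Cfsg.IsWeaklyClosed W (S : Subgroup G))
    (h : (S : Subgroup G) ⊓ commutator G ≠
      (S : Subgroup G) ⊓ ⁅Subgroup.normalizer (W : Set G), Subgroup.normalizer (W : Set G)⁆) :
    ∃ x ∈ (S : Subgroup G), ∃ z ∈ W, ∃ W₀ : Subgroup ↥W, IsCoatom W₀ ∧
      (fun y : G => y⁻¹ * z⁻¹ * y * z)^[p - 1] x ∈ W₀.map W.subtype ∧
      (fun y : G => y⁻¹ * z⁻¹ * y * z)^[p - 1] x ∉ ((frattini ↥W₀).map W₀.subtype).map W.subtype := by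
  classical
  have hSN : (S : Subgroup G) ≤ Subgroup.normalizer (W : Set G) := le_normalizer_of_weaklyClosed _ _ hW
  have hWS : W ≤ (S : Subgroup G) := hW.1
  have hSnW : ∀ s ∈ (S : Subgroup G), ∀ w ∈ W, s⁻¹ * w * s ∈ W := by
    intro s hs w hw
    exact (Subgroup.mem_normalizer_iff''.mp (hSN hs) w).mp hw
  generalize hN : Subgroup.normalizer (W : Set G) = N at hSN h
  -- an element of the focal subgroup outside `N'`
  obtain ⟨u₁, hu₁S, hu₁G, hu₁N⟩ : ∃ u₁, u₁ ∈ (S : Subgroup G) ∧ u₁ ∈ commutator G ∧ u₁ ∉ ⁅N, N⁆ := by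
    by_contra hcon
    push Not at hcon
    apply h
    apply le_antisymm
    · intro x hx; exact ⟨hx.1, hcon x hx.1 hx.2⟩
    · intro x hx; exact ⟨hx.1, Subgroup.commutator_mono le_top le_top hx.2⟩
  obtain ⟨θ, hθp, u₀, hu₀, hθu₀⟩ := exists_char_of_focal_ne S N hSN u₁ hu₁S hu₁G hu₁N
  -- `u` of least order
  have hex : ∃ n : ℕ, ∃ u ∈ (S : Subgroup G) ⊓ commutator G, extd N θ u ≠ 1 ∧ orderOf u = n :=
    ⟨_, u₀, hu₀, hθu₀, rfl⟩
  obtain ⟨u, ⟨huS, huG⟩, hθu, hun⟩ := Nat.find_spec hex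
  have hmin : ∀ u' ∈ (S : Subgroup G) ⊓ commutator G, orderOf u' < orderOf u → extd N θ u' = 1 := by
    intro u' hu' hlt
    by_contra hne
    exact Nat.find_min hex (hun ▸ hlt) ⟨u', hu', hne, rfl⟩
  have huN : u ∈ N := hSN huS
  obtain ⟨ku, hku⟩ : ∃ k : ℕ, orderOf u = p ^ k := by
    obtain ⟨k, hk⟩ := (IsPGroup.iff_orderOf.mp S.2) ⟨u, huS⟩
    exact ⟨k, by rw [← hk]; exact (Subgroup.orderOf_mk u huS).symm⟩
  have hconjG : ∀ v : G, v ∈ commutator G → ∀ y : G, y⁻¹ * v * y ∈ commutator G := by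
    intro v hv y
    have := (inferInstance : (commutator G).Normal).conj_mem v hv y⁻¹
    rwa [inv_inv] at this
  have hconjord : ∀ v y : G, orderOf (y⁻¹ * v * y) = orderOf v := by
    intro v y
    have := (MulAut.conj y⁻¹).orderOf_eq v
    rwa [MulAut.conj_apply, inv_inv] at this
  have hsmall : ∀ v : G, v ∈ N → v ∈ commutator G → (∃ k : ℕ, orderOf v = p ^ k) → orderOf v < orderOf u →
      extd N θ v = 1 := by
    intro v hvN hvG hvp hlt
    obtain ⟨h', hhN, hconj⟩ := exists_conj_mem_sylow S N hSN v hvN hvp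
    rw [← extd_conj N θ hvN hhN]
    apply hmin _ ⟨hconj, hconjG v hvG h'⟩
    rw [hconjord]; exact hlt
  have hcycles : ∀ v : G, v ∈ commutator G → orderOf v = orderOf u → ∀ (y : G) (r : ℕ), 1 < r → r ∣ orderOf v →
      y⁻¹ * v ^ r * y ∈ N → extd N θ (y⁻¹ * v ^ r * y) = 1 := by
    intro v hvG hvo y r hr hrd hmem
    have hr0 : r ≠ 0 := by omega
    have ho1 : orderOf (v ^ r) = orderOf v / r := orderOf_pow_of_dvd hr0 hrd
    have ho2 : orderOf (y⁻¹ * v ^ r * y) = orderOf v / r := by rw [hconjord, ho1]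
    apply hsmall _ hmem (hconjG _ (Subgroup.pow_mem _ hvG r) y)
    · have hdvd : orderOf v / r ∣ p ^ ku := by
        rw [← hku, ← hvo]; exact Nat.div_dvd_of_dvd hrd
      obtain ⟨j, _, hj⟩ := (Nat.dvd_prime_pow hp.out).mp hdvd
      exact ⟨j, by rw [ho2, hj]⟩
    · rw [ho2, ← hvo]
      exact Nat.div_lt_self (orderOf_pos v) hr
  -- the transfer
  haveI : Fintype (G ⧸ N) := Fintype.ofFinite _
  have htr : MonoidHom.transfer θ u = 1 :=
    Abelianization.commutator_subset_ker (MonoidHom.transfer θ) huG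
  rw [transfer_eq_prod_fixed N θ u (hcycles u huG rfl)] at htr
  have hx0 : ((1 : G) : G ⧸ N) ∈ (univ : Finset (G ⧸ N)).filter (fun x : G ⧸ N => u • x = x) := by
    rw [mem_filter]
    refine ⟨mem_univ _, ?_⟩
    rw [smul_mk_eq_iff]
    simpa using huN
  rw [← Finset.mul_prod_erase _ _ hx0] at htr
  have hF0 : extd N θ ((((1 : G) : G ⧸ N)).out⁻¹ * u * (((1 : G) : G ⧸ N)).out) = extd N θ u := by
    have := extd_out_conj N θ u ((1 : G) : G ⧸ N) 1 rfl (by simpa using huN)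
    simpa using this
  have hrest : ∏ x ∈ ((univ : Finset (G ⧸ N)).filter (fun x : G ⧸ N => u • x = x)).erase ((1 : G) : G ⧸ N),
      extd N θ (x.out⁻¹ * u * x.out) ≠ 1 := by
    intro h1
    rw [h1, mul_one, hF0] at htr
    exact hθu htr
  -- localise to an orbit of `K = W ⟨u⟩`
  let K : Subgroup G := W ⊔ Subgroup.zpowers u
  have hKS : K ≤ (S : Subgroup G) := sup_le hWS ((Subgroup.zpowers_le).mpr huS)
  have hKN : K ≤ N := hKS.trans hSN
  obtain ⟨a, ha, hPB⟩ : ∃ a ∈ ((univ : Finset (G ⧸ N)).filter (fun x : G ⧸ N => u • x = x)).erase ((1 : G) : G ⧸ N),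
      ∏ x ∈ (((univ : Finset (G ⧸ N)).filter (fun x : G ⧸ N => u • x = x)).erase ((1 : G) : G ⧸ N)).filter
        (fun x => (MulAction.orbitRel K (G ⧸ N)) x a), extd N θ (x.out⁻¹ * u * x.out) ≠ 1 := by
    by_contra hcon
    push Not at hcon
    exact hrest (Finset.prod_cancels_of_partition_cancels (MulAction.orbitRel K (G ⧸ N)) hcon)
  rw [mem_erase, mem_filter] at ha
  obtain ⟨ha1, -, hafix⟩ := ha
  have hWa : ¬ W ≤ MulAction.stabilizer G a := not_le_stabilizer_of_ne S W hW N hN a ha1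
  obtain ⟨g, rfl⟩ := QuotientGroup.mk_surjective a
  -- the subgroups `K₁ ≤ K₀ ◁ K`
  have huK : u ∈ K := (le_sup_right : Subgroup.zpowers u ≤ K) (Subgroup.mem_zpowers u)
  have hK₁K : K ⊓ MulAction.stabilizer G (g : G ⧸ N) ≤ K := inf_le_left
  have hne : ¬ K ≤ K ⊓ MulAction.stabilizer G (g : G ⧸ N) := fun hle =>
    hWa (fun w hw => (hle ((le_sup_left : W ≤ K) hw)).2)
  obtain ⟨K₀, hK₁₀, hK₀K, hK₀n, hK₀i⟩ :=
    exists_normal_index_p K (K ⊓ MulAction.stabilizer G (g : G ⧸ N)) (S.2.to_le hKS) hK₁K hne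
  have huK₀ : u ∈ K₀ := hK₁₀ ⟨huK, hafix⟩
  have hWK₀ : ¬ W ≤ K₀ := by
    intro hle
    have h1 : K ≤ K₀ := sup_le hle ((Subgroup.zpowers_le).mpr huK₀)
    have h2 : K₀.subgroupOf K = ⊤ := Subgroup.subgroupOf_eq_top.mpr h1
    rw [h2, Subgroup.index_top] at hK₀i
    exact hp.out.one_lt.ne hK₀i
  obtain ⟨z, hzW, hzK₀⟩ := SetLike.not_le_iff_exists.mp hWK₀
  have hzK : z ∈ K := (le_sup_left : W ≤ K) hzW
  have hzS : z ∈ (S : Subgroup G) := hWS hzW
  -- `K` normalises `K₀`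
  have hKn : ∀ k ∈ K, ∀ d ∈ K₀, k⁻¹ * d * k ∈ K₀ := by
    intro k hk d hd
    have := hK₀n.conj_mem ⟨d, hK₀K hd⟩ (Subgroup.mem_subgroupOf.mpr hd) (⟨k, hk⟩ : ↥K)⁻¹
    rw [Subgroup.mem_subgroupOf] at this
    simpa using this
  have hzi : ∀ (i : ℕ), ∀ d ∈ K₀, (z ^ i)⁻¹ * d * z ^ i ∈ K₀ := fun i d hd =>
    hKn _ (K.pow_mem hzK i) d hd
  -- coset representatives
  obtain ⟨hrep', hinj'⟩ := coset_reps_of_index_p (K₀.subgroupOf K) hK₀i (⟨z, hzK⟩ : ↥K)
    (fun hmem => hzK₀ (Subgroup.mem_subgroupOf.mp hmem))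
  have hrep : ∀ k ∈ K, ∃ i < p, (z ^ i)⁻¹ * k ∈ K₀ := by
    intro k hk
    obtain ⟨i, hi, hmem⟩ := hrep' ⟨k, hk⟩
    refine ⟨i, hi, ?_⟩
    rw [Subgroup.mem_subgroupOf] at hmem
    simpa using hmem
  have hinj : ∀ i < p, ∀ j < p, (z ^ j)⁻¹ * z ^ i ∈ K₀ → i = j := by
    intro i hi j hj hmem
    apply hinj' i hi j hj
    rw [Subgroup.mem_subgroupOf]
    simpa using hmem
  -- the transfer of `K₀` over the orbit of `g N`
  obtain ⟨μ, hμp, hμ⟩ := exists_orbit_transfer N θ K₀ g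
  have hμp' := hμp p hθp
  have hvK₀ : ∀ i : ℕ, (z ^ i)⁻¹ * u * z ^ i ∈ K₀ := fun i => hzi i u huK₀
  have hvG : ∀ i : ℕ, (z ^ i)⁻¹ * u * z ^ i ∈ commutator G := fun i => hconjG u huG (z ^ i)
  have hvo : ∀ i : ℕ, orderOf ((z ^ i)⁻¹ * u * z ^ i) = orderOf u := fun i => hconjord u (z ^ i)
  have hμv : ∀ i : ℕ, μ ⟨(z ^ i)⁻¹ * u * z ^ i, hvK₀ i⟩ =
      ∏ x ∈ (univ : Finset (G ⧸ N)).filter
        (fun x => x ∈ MulAction.orbit K₀ (g : G ⧸ N) ∧ ((z ^ i)⁻¹ * u * z ^ i) • x = x),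
        extd N θ (x.out⁻¹ * ((z ^ i)⁻¹ * u * z ^ i) * x.out) := by
    intro i
    apply hμ _ (hvK₀ i) _ _ (by intro x; simp)
    intro y r hy hr hrd hmem
    have e : g⁻¹ * (y⁻¹ * ((z ^ i)⁻¹ * u * z ^ i) ^ r * y) * g =
        (y * g)⁻¹ * ((z ^ i)⁻¹ * u * z ^ i) ^ r * (y * g) := by group
    rw [e]
    apply hcycles _ (hvG i) (hvo i) _ r hr hrd
    rw [← e, ← smul_mk_eq_iff]
    exact hmem
  -- `K` fixes the trivial coset
  have hKbase : ∀ k ∈ K, k • ((1 : G) : G ⧸ N) = ((1 : G) : G ⧸ N) := by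
    intro k hk
    rw [smul_mk_eq_iff]
    simpa using hKN hk
  have hsB : ∀ x : G ⧸ N, x ∈ (((univ : Finset (G ⧸ N)).filter (fun x : G ⧸ N => u • x = x)).erase
      ((1 : G) : G ⧸ N)).filter (fun x => (MulAction.orbitRel K (G ⧸ N)) x (g : G ⧸ N)) ↔
      (x ∈ MulAction.orbit K (g : G ⧸ N) ∧ u • x = x) := by
    intro x
    rw [mem_filter, mem_erase, mem_filter, MulAction.orbitRel_apply]
    constructor
    · rintro ⟨⟨-, -, h2⟩, h3⟩
      exact ⟨h3, h2⟩
    · rintro ⟨h3, h2⟩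
      refine ⟨⟨?_, mem_univ _, h2⟩, h3⟩
      rintro rfl
      obtain ⟨k, hk⟩ := h3
      apply ha1
      have hk' : ((k : ↥K) : G) • (g : G ⧸ N) = ((1 : G) : G ⧸ N) := hk
      rw [← inv_smul_smul ((k : ↥K) : G) (g : G ⧸ N), hk']
      exact hKbase _ (K.inv_mem k.2)
  -- the partition of the `K`-orbit into the translates of the `K₀`-orbit
  have hcomm : ∀ (i : ℕ) (y : G ⧸ N), u • z ^ i • y = z ^ i • ((z ^ i)⁻¹ * u * z ^ i) • y := by
    intro i y
    rw [← mul_smul, ← mul_smul]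
    congr 1
    group
  have hpart : ∏ x ∈ (((univ : Finset (G ⧸ N)).filter (fun x : G ⧸ N => u • x = x)).erase
      ((1 : G) : G ⧸ N)).filter (fun x => (MulAction.orbitRel K (G ⧸ N)) x (g : G ⧸ N)),
        extd N θ (x.out⁻¹ * u * x.out) =
      ∏ i ∈ range p, μ ⟨(z ^ i)⁻¹ * u * z ^ i, hvK₀ i⟩ := by
    rw [Finset.prod_congr rfl (fun i _ => hμv i), Finset.prod_sigma']
    symm
    apply Finset.prod_bij (fun (q : Σ _ : ℕ, G ⧸ N) _ => z ^ q.1 • q.2)
    · rintro ⟨i, y⟩ hq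
      rw [mem_sigma, mem_filter] at hq
      obtain ⟨hi, -, ⟨k, hk⟩, hvy⟩ := hq
      have hk' : ((k : ↥K₀) : G) • (g : G ⧸ N) = y := hk
      rw [hsB]
      refine ⟨⟨⟨z ^ i * (k : G), K.mul_mem (K.pow_mem hzK i) (hK₀K k.2)⟩, ?_⟩, ?_⟩
      · show (z ^ i * (k : G)) • (g : G ⧸ N) = z ^ i • y
        rw [mul_smul, hk']
      · show u • z ^ i • y = z ^ i • y
        rw [hcomm, hvy]
    · rintro ⟨i, y⟩ hq ⟨j, y'⟩ hq' heq
      rw [mem_sigma, mem_filter] at hq hq'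
      obtain ⟨hi, -, ⟨k, hk⟩, -⟩ := hq
      obtain ⟨hj, -, ⟨k', hk'⟩, -⟩ := hq'
      have hk1 : ((k : ↥K₀) : G) • (g : G ⧸ N) = y := hk
      have hk1' : ((k' : ↥K₀) : G) • (g : G ⧸ N) = y' := hk'
      have heq' : z ^ i • y = z ^ j • y' := heq
      have hmem : (z ^ j * (k' : G))⁻¹ * (z ^ i * (k : G)) ∈ K ⊓ MulAction.stabilizer G (g : G ⧸ N) := by
        refine ⟨K.mul_mem (K.inv_mem (K.mul_mem (K.pow_mem hzK j) (hK₀K k'.2)))
          (K.mul_mem (K.pow_mem hzK i) (hK₀K k.2)), ?_⟩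
        show _ ∈ MulAction.stabilizer G (g : G ⧸ N)
        rw [MulAction.mem_stabilizer_iff]
        calc ((z ^ j * (k' : G))⁻¹ * (z ^ i * (k : G))) • (g : G ⧸ N)
            = (z ^ j * (k' : G))⁻¹ • (z ^ i • ((k : G) • (g : G ⧸ N))) := by rw [mul_smul, mul_smul]
          _ = (z ^ j * (k' : G))⁻¹ • ((z ^ j * (k' : G)) • (g : G ⧸ N)) := by
              rw [hk1, heq', ← hk1', ← mul_smul (z ^ j)]
          _ = (g : G ⧸ N) := inv_smul_smul _ _
      have hmem2 := hK₁₀ hmem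
      have hij : i = j := by
        apply hinj i (mem_range.mp hi) j (mem_range.mp hj)
        have h3 := K₀.mul_mem (K₀.mul_mem k'.2 hmem2) (K₀.inv_mem k.2)
        have e : (k' : G) * ((z ^ j * (k' : G))⁻¹ * (z ^ i * (k : G))) * (k : G)⁻¹ = (z ^ j)⁻¹ * z ^ i := by
          group
        rwa [e] at h3
      subst hij
      have hy : y = y' := MulAction.injective (z ^ i) heq'
      subst hy
      rfl
    · intro x hx
      rw [hsB] at hx
      obtain ⟨⟨k, hk⟩, hux⟩ := hx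
      have hk' : ((k : ↥K) : G) • (g : G ⧸ N) = x := hk
      obtain ⟨i, hi, hk₀⟩ := hrep _ k.2
      have hzy : z ^ i • (((z ^ i)⁻¹ * (k : G)) • (g : G ⧸ N)) = x := by
        rw [← mul_smul, mul_inv_cancel_left, hk']
      refine ⟨⟨i, ((z ^ i)⁻¹ * (k : G)) • (g : G ⧸ N)⟩, ?_, hzy⟩
      rw [mem_sigma, mem_filter]
      refine ⟨mem_range.mpr hi, mem_univ _, ⟨⟨_, hk₀⟩, rfl⟩, ?_⟩
      have h1 := hcomm i (((z ^ i)⁻¹ * (k : G)) • (g : G ⧸ N))
      rw [hzy, hux, ← hzy] at h1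
      have h2 := MulAction.injective (z ^ i) h1
      exact h2.symm
    · rintro ⟨i, y⟩ hq
      rw [mem_sigma, mem_filter] at hq
      obtain ⟨hi, -, -, hvy⟩ := hq
      show extd N θ (y.out⁻¹ * ((z ^ i)⁻¹ * u * z ^ i) * y.out) =
        extd N θ ((z ^ i • y).out⁻¹ * u * (z ^ i • y).out)
      have hgi : ((z ^ i * y.out : G) : G ⧸ N) = z ^ i • y := by
        have : ((z ^ i * y.out : G) : G ⧸ N) = z ^ i • ((y.out : G) : G ⧸ N) := rfl
        rw [this, QuotientGroup.out_eq']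
      have hfix : u • (z ^ i • y) = z ^ i • y := by rw [hcomm, hvy]
      have hmemN : (z ^ i * y.out)⁻¹ * u * (z ^ i * y.out) ∈ N := by
        rw [← smul_mk_eq_iff, hgi]; exact hfix
      rw [extd_out_conj N θ u _ _ hgi hmemN]
      congr 1
      group
  -- the finite-difference identity
  rw [hpart] at hPB
  obtain ⟨hprod, hcK₀⟩ := prod_conj_eq_of_torsion p K₀ (extd K₀ μ)
    (fun x hx y hy => extd_mul K₀ μ hx hy) z u (fun d hd => by simpa using hzi 1 d hd) huK₀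
    (fun i => by rw [extd_of_mem K₀ μ (hvK₀ i)]; exact hμp' _)
  rw [Finset.prod_congr rfl (fun i _ => (extd_of_mem K₀ μ (hvK₀ i)))] at hprod
  rw [hprod] at hPB
  -- the element `c = [u, z; p-1]`
  have hiterS : ∀ j : ℕ, (fun y : G => y⁻¹ * z⁻¹ * y * z)^[j] u ∈ (S : Subgroup G) := by
    intro j
    induction j with
    | zero => exact huS
    | succ j ih =>
      rw [Function.iterate_succ_apply']
      exact Subgroup.mul_mem _ (Subgroup.mul_mem _ (Subgroup.mul_mem _ (Subgroup.inv_mem _ ih)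
        (Subgroup.inv_mem _ hzS)) ih) hzS
  have hcW : (fun y : G => y⁻¹ * z⁻¹ * y * z)^[p - 1] u ∈ W := by
    obtain ⟨m, hm⟩ : ∃ m, p - 1 = m + 1 := ⟨p - 2, by have := hp.out.two_le; omega⟩
    rw [hm, Function.iterate_succ_apply']
    have h1 := hSnW _ (hiterS m) z⁻¹ (W.inv_mem hzW)
    exact W.mul_mem h1 hzW
  refine ⟨u, huS, z, hzW, K₀.subgroupOf W, ?_, ?_, ?_⟩
  · exact isCoatom_subgroupOf_of_index_p K K₀ W hK₀n hK₀i le_sup_left hWK₀
  · exact ⟨⟨_, hcW⟩, Subgroup.mem_subgroupOf.mpr hcK₀, rfl⟩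
  · rintro ⟨w, ⟨f, hf, hfw⟩, hwc⟩
    -- the character of `W₀`
    let incl : ↥(K₀.subgroupOf W) →* ↥K₀ := MonoidHom.mk' (fun x => ⟨((x : ↥W) : G), Subgroup.mem_subgroupOf.mp x.2⟩)
      (by intro x y; rfl)
    have hker := frattini_le_ker_of_pow p (μ.comp incl) (fun x => hμp' _) hf
    rw [MonoidHom.mem_ker] at hker
    apply hPB
    rw [extd_of_mem K₀ μ hcK₀, ← hker]
    show μ _ = μ (incl f)
    congr 1
    apply Subtype.ext
    exact (hwc.symm.trans (congrArg W.subtype hfw.symm))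



end Cfsg.Agent.Lib.Helper70.Yoshida
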