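import Cfsg.Agent.Lib.Helper70.Yoshida
import Cfsg.Agent.Lib.Helper73.MaxClassIndex

/-!
# Yoshida's theorem (helper70 library)

If `S ∩ G' ≠ S ∩ N_G(S)'` for a Sylow `p`-subgroup `S`, then `S` maps onto a Sylow `p`-subgroup of the symmetric group of
degree `p²` (the wreath product `Z_p ≀ Z_p`).  From `Yoshida.exists_engel_witness` with `W = S`: a maximal subgroup `M` of `S₀`
avoids `c = [x, z; p-1]`, `S` acts on the `p²` cosets of `M`, the image is a `p`-group of class `≥ p`, hence of order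
`≥ p^(p+1)`, which is the order of the Sylow subgroup.
-/

set_option autoImplicit false
set_option linter.style.haveILetI false

open Finset

namespace Cfsg.Agent.Lib.Helper70.YoshidaWreath

open Cfsg.Agent.Lib.Helper70.HallWielandt Cfsg.Agent.Lib.Helper70.Yoshida

/-- homomorphisms commute with the iterated commutator map -/
theorem map_iterate_comm {A B : Type*} [Group A] [Group B] (φ : A →* B) (z x : A) (j : ℕ) :
    φ ((fun y : A => y⁻¹ * z⁻¹ * y * z)^[j] x) = (fun y : B => y⁻¹ * (φ z)⁻¹ * y * φ z)^[j] (φ x) := by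
  induction j with
  | zero => rfl
  | succ j ih =>
    rw [Function.iterate_succ_apply', Function.iterate_succ_apply', ← ih]
    simp only [map_mul, map_inv]

/-- the iterated commutator `[x, z; j]` lies in the `j`-th term of the lower central series -/
theorem iterate_comm_mem_lowerCentralSeries {A : Type*} [Group A] (z x : A) (j : ℕ) :
    (fun y : A => y⁻¹ * z⁻¹ * y * z)^[j] x ∈ (⊤ : Subgroup A).lowerCentralSeries j := by
  induction j with
  | zero => simp
  | succ j ih =>
    rw [Function.iterate_succ_apply', Subgroup.lowerCentralSeries_succ]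
    apply Subgroup.subset_closure
    refine ⟨((fun y : A => y⁻¹ * z⁻¹ * y * z)^[j] x)⁻¹, Subgroup.inv_mem _ ih, z⁻¹, Subgroup.mem_top _, ?_⟩
    rw [commutatorElement_def, inv_inv, inv_inv]

/-- the order of a Sylow `p`-subgroup of the symmetric group of degree `p²` -/
theorem card_sylow_perm_sq (p : ℕ) [hp : Fact p.Prime] (P : Sylow p (Equiv.Perm (Fin (p ^ 2)))) :
    Nat.card P = p ^ (p + 1) := by
  rw [Sylow.card_eq_multiplicity, Nat.card_perm, Nat.card_fin, Nat.factorization_def _ hp.out,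
    padicValNat_factorial (b := 3) (by rw [Nat.log_pow hp.out.one_lt]; norm_num)]
  congr 1
  have : Finset.Ico 1 3 = {1, 2} := by decide
  rw [this, Finset.sum_pair (by norm_num)]
  have hp0 := hp.out.pos
  rw [pow_one, Nat.div_self (pow_pos hp0 2), pow_two, Nat.mul_div_cancel _ hp0]

/-- a finite `p`-group containing a nontrivial iterated commutator `[x, z; p-1]` has order at least `p^(p+1)` -/
theorem card_ge_of_iterate_comm_ne_one {R : Type} [Group R] [Finite R] (p : ℕ) [hp : Fact p.Prime]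
    (hR : IsPGroup p R) (x z : R) (hc : (fun y : R => y⁻¹ * z⁻¹ * y * z)^[p - 1] x ≠ 1) :
    p ^ (p + 1) ≤ Nat.card R := by
  obtain ⟨k, hk⟩ := IsPGroup.iff_card.mp hR
  rw [hk]
  apply Nat.pow_le_pow_right hp.out.pos
  by_contra hlt
  push Not at hlt
  apply hc
  obtain ⟨m, hm⟩ : ∃ m, p - 1 = m + 1 := ⟨p - 2, by have := hp.out.two_le; omega⟩
  by_cases hk2 : 2 ≤ k
  · have hcl := Cfsg.Agent.Lib.Helper73.nilpotencyClass_le_of_card_prime_pow (p := p) k R hk hk2
    haveI : Group.IsNilpotent R := hR.isNilpotent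
    have hbot : (⊤ : Subgroup R).lowerCentralSeries (p - 1) = ⊥ := by
      rw [Subgroup.lowerCentralSeries_eq_bot_iff_nilpotencyClass_le]
      omega
    have := iterate_comm_mem_lowerCentralSeries z x (p - 1)
    rw [hbot, Subgroup.mem_bot] at this
    exact this
  · -- `R` is commutative
    have hcomm : ∀ a b : R, a * b = b * a := by
      have hk1 : k = 0 ∨ k = 1 := by omega
      rcases hk1 with rfl | rfl
      · rw [pow_zero] at hk
        have := (Nat.card_eq_one_iff_unique.mp hk).1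
        intro a b
        exact Subsingleton.elim _ _
      · rw [pow_one] at hk
        haveI := isCyclic_of_prime_card hk
        intro a b
        exact IsCyclic.commGroup.mul_comm a b
    rw [hm, Function.iterate_succ_apply']
    generalize (fun y : R => y⁻¹ * z⁻¹ * y * z)^[m] x = y
    show y⁻¹ * z⁻¹ * y * z = 1
    rw [mul_assoc y⁻¹, hcomm z⁻¹ y, ← mul_assoc, inv_mul_cancel, one_mul, inv_mul_cancel]

variable {G : Type*} [Group G]

theorem isWeaklyClosed_self [Finite G] (S : Subgroup G) : Cfsg.IsWeaklyClosed S S := by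
  refine ⟨le_refl _, fun g hle => ?_⟩
  apply Subgroup.eq_of_le_of_card_ge hle
  have : Nat.card (S.map (MulAut.conj g).toMonoidHom) = Nat.card S :=
    Nat.card_congr (S.equivMapOfInjective _ (MulAut.conj g).injective).symm.toEquiv
  rw [this]

theorem exists_surjective_sylow_perm_sq [Finite G] {p : ℕ} [hp : Fact p.Prime] (S : Sylow p G)
    (h : (S : Subgroup G) ⊓ commutator G ≠ (S : Subgroup G) ⊓
      ⁅Subgroup.normalizer ((S : Subgroup G) : Set G), Subgroup.normalizer ((S : Subgroup G) : Set G)⁆) :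
    ∃ (P : Sylow p (Equiv.Perm (Fin (p ^ 2))))
      (f : ↥(S : Subgroup G) →* ↥(P : Subgroup (Equiv.Perm (Fin (p ^ 2))))), Function.Surjective f := by
  classical
  obtain ⟨x, hxS, z, hzS, S₀, hS₀, hcS₀, hcΦ⟩ := exists_engel_witness S (S : Subgroup G) (isWeaklyClosed_self _) h
  -- the element `c` inside `S₀`
  obtain ⟨cS, hcS, hcSc⟩ := hcS₀
  have hcfr : (⟨cS, hcS⟩ : ↥S₀) ∉ frattini ↥S₀ := by
    intro hmem
    apply hcΦ
    exact ⟨cS, ⟨⟨cS, hcS⟩, hmem, rfl⟩, hcSc⟩
  -- a maximal subgroup of `S₀` avoiding `c`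
  obtain ⟨M, hM, hcM⟩ : ∃ M : Subgroup ↥S₀, IsCoatom M ∧ (⟨cS, hcS⟩ : ↥S₀) ∉ M := by
    by_contra hcon
    push Not at hcon
    apply hcfr
    unfold frattini Order.radical
    rw [Subgroup.mem_iInf]
    intro M
    rw [Subgroup.mem_iInf]
    intro hM
    exact hcon M hM
  have hSp : IsPGroup p ↥(S : Subgroup G) := S.2
  have hS₀p : IsPGroup p ↥S₀ := hSp.to_subgroup S₀
  have hS₀i : S₀.index = p := Cfsg.Agent.Lib.Helper1.coatom_index_of_isPGroup hSp hS₀
  have hMi : M.index = p := Cfsg.Agent.Lib.Helper1.coatom_index_of_isPGroup hS₀p hM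
  -- the subgroup of index `p²`
  have hM'i : (M.map S₀.subtype).index = p ^ 2 := by
    rw [Subgroup.index_map_subtype, hMi, hS₀i, pow_two]
  have hcM' : cS ∉ M.map S₀.subtype := by
    rintro ⟨m, hm, hmc⟩
    apply hcM
    have : m = ⟨cS, hcS⟩ := Subtype.ext hmc
    rwa [← this]
  -- the permutation representation
  have hcard : Nat.card (↥(S : Subgroup G) ⧸ M.map S₀.subtype) = p ^ 2 := by
    rw [← Subgroup.index_eq_card]; exact hM'i
  let e : (↥(S : Subgroup G) ⧸ M.map S₀.subtype) ≃ Fin (p ^ 2) := Finite.equivFinOfCardEq hcard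
  let ρ : ↥(S : Subgroup G) →* Equiv.Perm (Fin (p ^ 2)) :=
    (e.permCongrHom.toMonoidHom).comp (MulAction.toPermHom ↥(S : Subgroup G) (↥(S : Subgroup G) ⧸ M.map S₀.subtype))
  have hρc : ρ cS ≠ 1 := by
    intro h1
    have h2 : MulAction.toPermHom ↥(S : Subgroup G) (↥(S : Subgroup G) ⧸ M.map S₀.subtype) cS = 1 := by
      apply e.permCongrHom.injective
      rw [map_one]
      exact h1
    have h3 := congrArg (fun σ => σ ((1 : ↥(S : Subgroup G)) : ↥(S : Subgroup G) ⧸ M.map S₀.subtype)) h2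
    simp only [MulAction.toPermHom_apply, MulAction.toPerm_apply, Equiv.Perm.coe_one, id_eq] at h3
    apply hcM'
    have h4 : ((cS * 1 : ↥(S : Subgroup G)) : ↥(S : Subgroup G) ⧸ M.map S₀.subtype) =
        ((1 : ↥(S : Subgroup G)) : ↥(S : Subgroup G) ⧸ M.map S₀.subtype) := h3
    rw [mul_one, QuotientGroup.eq, mul_one] at h4
    exact (Subgroup.inv_mem_iff _).mp h4
  -- the range is a `p`-group containing the iterated commutator
  have hR : IsPGroup p ρ.range := hSp.of_surjective ρ.rangeRestrict ρ.rangeRestrict_surjective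
  obtain ⟨P, hRP⟩ := hR.exists_le_sylow
  refine ⟨P, ρ.codRestrict P (fun s => hRP ⟨s, rfl⟩), ?_⟩
  have hcardR : p ^ (p + 1) ≤ Nat.card ρ.range := by
    apply card_ge_of_iterate_comm_ne_one p hR (ρ.rangeRestrict ⟨x, hxS⟩) (ρ.rangeRestrict ⟨z, hzS⟩)
    rw [← map_iterate_comm]
    intro h1
    apply hρc
    have h2 := congrArg Subtype.val h1
    have h3 : (fun y : ↥(S : Subgroup G) => y⁻¹ * (⟨z, hzS⟩ : ↥(S : Subgroup G))⁻¹ * y * ⟨z, hzS⟩)^[p - 1] ⟨x, hxS⟩ = cS := by
      apply Subtype.ext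
      have := map_iterate_comm (S : Subgroup G).subtype ⟨z, hzS⟩ ⟨x, hxS⟩ (p - 1)
      rw [Subgroup.subtype_apply] at this
      rw [this]
      exact hcSc.symm
    rw [h3] at h2
    exact h2
  have hRP' : ρ.range = (P : Subgroup (Equiv.Perm (Fin (p ^ 2)))) := by
    apply Subgroup.eq_of_le_of_card_ge hRP
    rw [card_sylow_perm_sq p P]
    exact hcardR
  intro y
  have hy : (y : Equiv.Perm (Fin (p ^ 2))) ∈ ρ.range := by rw [hRP']; exact y.2
  obtain ⟨s, hs⟩ := hy
  exact ⟨s, Subtype.ext hs⟩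

end Cfsg.Agent.Lib.Helper70.YoshidaWreath
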